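import Cfsg.Agent.Lib.Bender.OddQuot.Facts
import Cfsg.Agent.Lib.Bender.Core.Rank
import Mathlib.LinearAlgebra.Vandermonde
import Mathlib.Algebra.Polynomial.AlgebraMap

/-!
# The core of a strongly embedded subgroup: the exceptional case `p = 11`

`card_eq_pow_of_twist`: in a finite abelian group with a fixed point free `y` of prime order and `z`
with `z y = y ^ a z`, `a` of order `q` modulo that prime, the order is the `q`-th power of the number
of fixed points of `z`. `Base.false_of_eleven`: the layer in the normalizer of an element of order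
three would have order `x ^ 5 = 1 + 2 |K|` with `x = 2 ^ J + 1`, which is impossible.
-/

set_option autoImplicit false
set_option linter.style.haveILetI false
set_option linter.unusedSectionVars false

namespace CfsgLib.Bender.OddQuot

open Subgroup MulAction
open CfsgLib.Bender.Core
open CfsgLib.Coprime (IsSylowIn conjBy)
open CfsgLib.Invol (fixed_unique invol_conj invol_smul_smul invol_inv invol_mul_self)

universe u

private theorem eq_zero_of_det {R M : Type*} [CommRing R] [AddCommGroup M] [Module R M] {n : ℕ}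
    (A : Matrix (Fin n) (Fin n) R) (hA : ∀ u : M, A.det • u = 0 → u = 0) (u : Fin n → M)
    (h : ∀ i, ∑ j, A i j • u j = 0) (k : Fin n) : u k = 0 := by
  refine hA _ ?_
  calc A.det • u k = ∑ j, (A.det • (1 : Matrix (Fin n) (Fin n) R)) k j • u j := by
        simp [Matrix.smul_apply, Matrix.one_apply, ite_smul]
    _ = ∑ j, (A.adjugate * A) k j • u j := by rw [Matrix.adjugate_mul]
    _ = ∑ i, A.adjugate k i • ∑ j, A i j • u j := by
        simp only [Matrix.mul_apply, Finset.sum_smul, Finset.smul_sum, smul_smul]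
        exact Finset.sum_comm
    _ = 0 := by simp [h]

/-- The order of a finite abelian group with a fixed point free operator of prime order twisted by an
operator acting freely on its powers. -/
theorem card_eq_pow_of_twist {M : Type*} [AddCommGroup M] [Finite M] {r q a : ℕ} (hr : r.Prime)
    (hq : 0 < q) (y z : AddMonoid.End M) (hy : y ^ r = 1) (hz : z ^ q = 1)
    (hfix : ∀ v, y v = v → v = 0) (htw : z * y = y ^ a * z)
    (ha : ∀ i j : Fin q, i ≠ j → ¬ a ^ (i : ℕ) ≡ a ^ (j : ℕ) [MOD r]) :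
    Nat.card M = Nat.card {v : M // z v = v} ^ q := by
  classical
  letI : Module (Polynomial ℤ) M :=
    Module.compHom M (Polynomial.aeval (R := ℤ) y).toRingHom
  have hsmul : ∀ (k : ℕ) (v : M), (Polynomial.X ^ k : Polynomial ℤ) • v = (y ^ k) v := fun k v => by
    show (Polynomial.aeval (R := ℤ) y (Polynomial.X ^ k)) v = _
    rw [Polynomial.aeval_X_pow]
  have hcomm : ∀ i j : ℕ, z ^ i * y ^ j = y ^ (a ^ i * j) * z ^ i := by
    intro i
    induction i with
    | zero => intro j; simp
    | succ i ih =>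
      have h1 : ∀ j : ℕ, z * y ^ j = y ^ (a * j) * z := by
        intro j
        induction j with
        | zero => simp
        | succ j ihj => rw [pow_succ, ← mul_assoc, ihj, mul_assoc, htw, ← mul_assoc, ← pow_add,
            mul_add_one]
      intro j
      rw [pow_succ', mul_assoc, ih, ← mul_assoc, h1, mul_assoc]
      congr 2
      ring
  have hfixk : ∀ (k : ℕ), ¬ r ∣ k → ∀ v : M, (y ^ k) v = v → v = 0 := by
    intro k hk v hv
    obtain ⟨k', hk'⟩ := Nat.exists_mul_mod_eq_one_of_coprime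
      ((hr.coprime_iff_not_dvd.2 hk).symm) hr.one_lt
    refine hfix v ?_
    have h1 : ∀ i : ℕ, (y ^ (k * i)) v = v := by
      intro i
      induction i with
      | zero => simp
      | succ i ih =>
        rw [mul_add_one, pow_add]
        show (y ^ (k * i)) ((y ^ k) v) = v
        rw [hv, ih]
    have h2 : y ^ (k * k') = y := by
      conv_lhs => rw [← Nat.div_add_mod (k * k') r, hk'.2, pow_add, pow_mul, hy, one_pow, one_mul,
        pow_one]
    have h3 := h1 k'
    rwa [h2] at h3
  set c : Fin q → Polynomial ℤ := fun i => Polynomial.X ^ (a ^ (i : ℕ)) with hc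
  have hdiff : ∀ i j : Fin q, i ≠ j → ∀ u : M, (c j - c i) • u = 0 → u = 0 := by
    intro i j hij u hu
    rw [sub_smul, sub_eq_zero, hc, hsmul, hsmul] at hu
    set A := a ^ (i : ℕ)
    set Bj := a ^ (j : ℕ)
    refine hfixk (Bj + (r - 1) * A) ?_ u ?_
    · intro hd
      refine ha i j hij ?_
      have h1 : A + (Bj + (r - 1) * A) = Bj + r * A := by
        obtain ⟨r', rfl⟩ := Nat.exists_eq_add_of_le hr.pos
        simp only [Nat.add_sub_cancel_left]
        ring
      have h2 : A + (Bj + (r - 1) * A) ≡ A [MOD r] := by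
        simpa using (Nat.ModEq.refl A).add (Nat.modEq_zero_iff_dvd.2 hd)
      have h3 : Bj + r * A ≡ Bj [MOD r] := by
        simpa using (Nat.ModEq.refl Bj).add (Nat.modEq_zero_iff_dvd.2 (Dvd.intro A rfl))
      exact (h1 ▸ h2).symm.trans h3
    · rw [add_comm, pow_add]
      show (y ^ ((r - 1) * A)) ((y ^ Bj) u) = u
      rw [hu]
      show (y ^ ((r - 1) * A) * y ^ A) u = u
      rw [← pow_add, ← add_one_mul, Nat.sub_add_cancel hr.one_lt.le, pow_mul, hy, one_pow]
      rfl
  have hdet : ∀ u : M, (Matrix.vandermonde c).det • u = 0 → u = 0 := by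
    rw [Matrix.det_vandermonde]
    refine Finset.prod_induction _ (fun p : Polynomial ℤ => ∀ u : M, p • u = 0 → u = 0) ?_ ?_ ?_
    · exact fun p p' hp hp' u hu => hp' u (hp _ (by rwa [smul_smul]))
    · exact fun u hu => by simpa using hu
    · intro i _
      refine Finset.prod_induction _ (fun p : Polynomial ℤ => ∀ u : M, p • u = 0 → u = 0) ?_ ?_ ?_
      · exact fun p p' hp hp' u hu => hp' u (hp _ (by rwa [smul_smul]))
      · exact fun u hu => by simpa using hu
      · exact fun j hj => hdiff i j (Finset.mem_Ioi.1 hj).ne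
  have hcij : ∀ (i j : Fin q) (v : M), Matrix.vandermonde c i j • v =
      (y ^ (a ^ (i : ℕ) * (j : ℕ))) v := fun i j v => by
    rw [Matrix.vandermonde_apply, hc, ← pow_mul, hsmul]
  -- upper bound
  let Tr : M → M := fun v => ∑ i : Fin q, (z ^ (i : ℕ)) v
  have hTr : ∀ v, z (Tr v) = Tr v := by
    intro v
    simp only [Tr, map_sum]
    rw [Fin.sum_univ_eq_sum_range (fun i => z ((z ^ i) v)) q,
      Fin.sum_univ_eq_sum_range (fun i => (z ^ i) v) q]
    refine add_right_cancel (b := (z ^ 0) v) ?_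
    calc (∑ i ∈ Finset.range q, z ((z ^ i) v)) + (z ^ 0) v
        = ∑ i ∈ Finset.range (q + 1), (z ^ i) v := by
          rw [Finset.sum_range_succ']
          congr 1
          refine Finset.sum_congr rfl fun i _ => ?_
          rw [pow_succ']
          rfl
      _ = _ := by rw [Finset.sum_range_succ, hz, pow_zero]
  let Ψ : M → (Fin q → {v : M // z v = v}) := fun v j => ⟨Tr ((y ^ (j : ℕ)) v), hTr _⟩
  have hΨ : Function.Injective Ψ := by
    intro v v' e
    rw [← sub_eq_zero]
    have key := eq_zero_of_det (Matrix.vandermonde c).transpose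
      (by rw [Matrix.det_transpose]; exact hdet) (fun i : Fin q => (z ^ (i : ℕ)) (v - v')) (fun j => ?_)
      ⟨0, hq⟩
    · simpa using key
    · have e' : Tr ((y ^ (j : ℕ)) v) = Tr ((y ^ (j : ℕ)) v') :=
        congrArg Subtype.val (congrFun e j)
      simp only [Matrix.transpose_apply, hcij]
      calc ∑ i : Fin q, (y ^ (a ^ (i : ℕ) * (j : ℕ))) ((z ^ (i : ℕ)) (v - v'))
          = ∑ i : Fin q, (z ^ (i : ℕ)) ((y ^ (j : ℕ)) (v - v')) := by
            refine Finset.sum_congr rfl fun i _ => ?_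
            show (y ^ _ * z ^ _) _ = (z ^ _ * y ^ _) _
            rw [hcomm]
        _ = 0 := by
            simp only [map_sub, Finset.sum_sub_distrib]
            exact sub_eq_zero.2 e'
  -- lower bound
  let Θ : (Fin q → {v : M // z v = v}) → M := fun u => ∑ j : Fin q, (y ^ (j : ℕ)) (u j : M)
  have hΘ : Function.Injective Θ := by
    intro u u' e
    funext k
    refine Subtype.ext (sub_eq_zero.1 ?_)
    refine eq_zero_of_det (Matrix.vandermonde c) hdet (fun j : Fin q => (u j : M) - u' j)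
      (fun i => ?_) k
    simp only [hcij]
    have hzu : ∀ (w : {v : M // z v = v}) (n : ℕ), (z ^ n) (w : M) = w := by
      intro w n
      induction n with
      | zero => rfl
      | succ n ih =>
        rw [pow_succ']
        show z ((z ^ n) (w : M)) = w
        rw [ih, w.2]
    have key : ∀ w : Fin q → {v : M // z v = v},
        ∑ j : Fin q, (y ^ (a ^ (i : ℕ) * (j : ℕ))) (w j : M) = (z ^ (i : ℕ)) (Θ w) := by
      intro w
      simp only [Θ, map_sum]
      refine Finset.sum_congr rfl fun j _ => ?_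
      show _ = (z ^ _ * y ^ _) _
      rw [hcomm]
      show _ = (y ^ _) ((z ^ _) _)
      rw [hzu]
    simp only [map_sub, Finset.sum_sub_distrib, key, e, sub_self]
  refine le_antisymm ?_ ?_
  · simpa [Nat.card_pi] using Nat.card_le_card_of_injective Ψ hΨ
  · simpa [Nat.card_pi] using Nat.card_le_card_of_injective Θ hΘ

variable {G : Type u} [Group G] [Finite G] {H : Subgroup G} {b : G ⧸ H} {Y C : Subgroup G}

set_option maxHeartbeats 1000000 in
/-- The case `p = 11` with a scalar element of order five is impossible. -/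
theorem Base.false_of_eleven {x : G ⧸ H} (B : Base H b 11 Y C) (hxb : x ≠ b) {δ z w : G}
    (hδ : δ ∈ pairStab b x) (hδ3 : orderOf δ = 3) (hCδ : ∃ y ∈ Y, y ≠ 1 ∧ Commute y δ)
    (hz : z ∈ pairStab b x) (hz5 : orderOf z = 5)
    (hzJ : ∀ t : G, orderOf t = 2 → t • b = b → Commute t z)
    (hzY : ∀ y ∈ Y, Commute y z → y = 1) (hzδ : Commute z δ) (hw : w • b = b) (hwC : w ∉ C)
    (hw2 : w * w ∈ C) (hwδ : w * δ * w⁻¹ = δ⁻¹) (hwz : Commute w z)
    (hC : ∀ q : ℕ, q.Prime → q ∣ Nat.card C → q = 2 ∨ q = 11)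
    (hfix : (fixSet (zpowers δ) H).ncard ≤
      1 + 2 * Nat.card ↥(C ⊓ Subgroup.centralizer ({δ} : Set G))) : False := by
  classical
  have h := B.ctx
  haveI : Fact (Nat.Prime 11) := ⟨by norm_num⟩
  haveI : Fact (orderOf δ).Prime := ⟨by rw [hδ3]; norm_num⟩
  set F := fixSet (zpowers δ) H with hF
  set K := C ⊓ Subgroup.centralizer ({δ} : Set G) with hK
  set M := normalizer (zpowers δ : Set G) with hM
  obtain ⟨y, hy, hy1, hyδ⟩ := hCδ
  have hyC : y ∈ C := B.yle hy
  have hyb : y • b = b := mem_stabilizer_iff.1 (B.atY.le hy)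
  have hzb : z • b = b := mem_stabilizer_iff.1 hz.1
  have hfixF : ∀ a : G ⧸ H, δ • a = a → a ∈ F := fun a ha =>
    zpowers_le.2 (mem_stabilizer_iff.2 ha)
  have hbF : b ∈ F := hfixF b (mem_stabilizer_iff.1 hδ.1)
  have h3 : 2 < F.ncard := (Set.two_lt_ncard_iff (Set.toFinite _)).2
    ⟨b, x, y • x, hbF, hfixF x (mem_stabilizer_iff.1 hδ.2),
      hfixF _ (by rw [smul_smul, ← hyδ.eq, mul_smul, mem_stabilizer_iff.1 hδ.2]), hxb.symm,
      fun e => hxb (smul_left_cancel y (e.symm.trans hyb.symm)),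
      fun e => hy1 (B.reg y hyC x hxb e.symm)⟩
  have hcM : ∀ {g : G}, Commute g δ → g ∈ M := fun {g} hg => by
    rw [hM, ← CfsgLib.Coprime.conjBy_eq_self_iff, conjBy, MonoidHom.map_zpowers]
    show zpowers (g * δ * g⁻¹) = _
    rw [hg.eq, mul_inv_cancel_right]
  have hwM : w ∈ M := by
    rw [hM, ← CfsgLib.Coprime.conjBy_eq_self_iff, conjBy, MonoidHom.map_zpowers]
    show zpowers (w * δ * w⁻¹) = _
    rw [hwδ, zpowers_inv]
  -- `M` is lonely
  obtain ⟨⟨v, ⟨hv, hvb, hvδ⟩, huniq⟩, -⟩ := h.centralizes_unique_invol B.atC B.reg B.invol B.atY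
    B.yle B.odd_card hxb hδ (Fact.out) hy hy1 hyδ
  have hlone : Lonely M := (lonely_of_one (hcM hvδ) hv fun t htM ht hvt => by
    have htb : t • b = b := mem_stabilizer_iff.1 (centralizer_le_stabilizer h.se hv hvb
      (mem_centralizer_singleton_iff.2 hvt.symm.eq))
    have h1 := h.centralizes_of_normalizes B.atC B.reg B.invol hxb (zpowers_le.2 hδ) htM ht htb
      (mem_zpowers δ)
    exact huniq t ⟨ht, htb, (mem_centralizer_singleton_iff.1 h1).symm⟩).1
  obtain ⟨g, hgδ, hgb⟩ := h.exists_commute_moving B.atC B.reg B.invol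
    (by rw [hδ3]; norm_num : orderOf δ ≠ 2)
    (IsPGroup.of_card (n := 1) (by rw [Nat.card_zpowers, pow_one])) (mem_stabilizer_iff.1 hδ.1) h3
  obtain ⟨A, hAO, hAn, hAb, hcomm⟩ := exists_layer h.se hlone (hcM hvδ) hv hvb (hcM hgδ) hgb
  have hAM : A ≤ M := hAO.trans (coreOf_le M)
  -- the abelian group of the orbit of `b`
  set N := (stabilizer G b).subgroupOf A with hN
  haveI : N.Normal := ⟨fun n hn g => by
    rw [hN, mem_subgroupOf] at hn ⊢
    have h1 : ((g : G) * n * (g : G)⁻¹ * (n : G)⁻¹) * n ∈ stabilizer G b :=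
      mul_mem (hcomm _ g.2 _ n.2) hn
    simpa using h1⟩
  letI : CommGroup (A ⧸ N) :=
    { (inferInstance : Group (A ⧸ N)) with
      mul_comm := fun P Q => by
        induction P using QuotientGroup.induction_on with
        | H P =>
          induction Q using QuotientGroup.induction_on with
          | H Q =>
            rw [← QuotientGroup.mk_mul, ← QuotientGroup.mk_mul, QuotientGroup.eq, hN,
              mem_subgroupOf]
            have h1 := hcomm _ (inv_mem Q.2) _ (inv_mem P.2)
            simp only [inv_inv] at h1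
            simpa [mul_assoc] using h1 }
  set S₀ := M ⊓ stabilizer G b with hS₀
  have hconj : ∀ (g : S₀) (a : A), (g : G) * a * (g : G)⁻¹ ∈ A := fun g a =>
    (mem_normalizer_iff.1 (hAn g.2.1) _).1 a.2
  let op₀ : S₀ → (A →* A) := fun g =>
    { toFun := fun a => ⟨(g : G) * a * (g : G)⁻¹, hconj g a⟩
      map_one' := Subtype.ext (by simp)
      map_mul' := fun a a' => Subtype.ext (by simp [mul_assoc]) }
  have hNop : ∀ g : S₀, N ≤ N.comap (op₀ g) := fun g n hn => by
    rw [mem_comap, hN, mem_subgroupOf] at *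
    exact mul_mem (mul_mem g.2.2 hn) (inv_mem g.2.2)
  let op : S₀ →* AddMonoid.End (Additive (A ⧸ N)) :=
    { toFun := fun g => MonoidHom.toAdditive (QuotientGroup.map N N (op₀ g) (hNop g))
      map_one' := AddMonoidHom.ext fun P => by
        obtain ⟨a, ha⟩ := QuotientGroup.mk_surjective (Additive.toMul P)
        show Additive.ofMul _ = P
        rw [← ha, QuotientGroup.map_mk]
        exact (congrArg (fun i : A => Additive.ofMul (i : A ⧸ N))
          (Subtype.ext (by simp [op₀]))).trans (congrArg Additive.ofMul ha)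
      map_mul' := fun g g' => AddMonoidHom.ext fun P => by
        obtain ⟨a, ha⟩ := QuotientGroup.mk_surjective (Additive.toMul P)
        show Additive.ofMul (QuotientGroup.map N N (op₀ (g * g')) (hNop _) (Additive.toMul P)) =
          Additive.ofMul (QuotientGroup.map N N (op₀ g) (hNop g)
            (QuotientGroup.map N N (op₀ g') (hNop g') (Additive.toMul P)))
        rw [← ha, QuotientGroup.map_mk, QuotientGroup.map_mk, QuotientGroup.map_mk]
        exact congrArg (fun i : A => Additive.ofMul (i : A ⧸ N))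
          (Subtype.ext (by simp [op₀, mul_assoc])) }
  let f : Additive (A ⧸ N) → G ⧸ H := fun P =>
    Quotient.liftOn' (Additive.toMul P) (fun a : A => (a : G) • b) fun a a' e => by
      rw [QuotientGroup.leftRel_apply, hN, mem_subgroupOf, mem_stabilizer_iff] at e
      simp only [coe_mul, coe_inv, mul_smul, inv_smul_eq_iff] at e
      exact e.symm
  have hf : Function.Injective f := fun P Q e => by
    obtain ⟨a, ha⟩ := QuotientGroup.mk_surjective (Additive.toMul P)
    obtain ⟨a', ha'⟩ := QuotientGroup.mk_surjective (Additive.toMul Q)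
    simp only [f, ← ha, ← ha'] at e
    change (a : G) • b = (a' : G) • b at e
    refine Additive.toMul.injective ?_
    rw [← ha, ← ha', QuotientGroup.eq, hN, mem_subgroupOf, mem_stabilizer_iff]
    simp only [coe_mul, coe_inv, mul_smul, inv_smul_eq_iff]
    exact e.symm
  have hfop : ∀ (g : S₀) (P : Additive (A ⧸ N)), f (op g P) = (g : G) • f P := fun g P => by
    obtain ⟨a, ha⟩ := QuotientGroup.mk_surjective (Additive.toMul P)
    show f (Additive.ofMul (QuotientGroup.map N N (op₀ g) (hNop g) (Additive.toMul P))) = _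
    simp only [f, toMul_ofMul, ← ha, QuotientGroup.map_mk]
    show ((g : G) * a * (g : G)⁻¹) • b = (g : G) • (a : G) • b
    rw [mul_smul, mul_smul, inv_smul_eq_iff.2 (mem_stabilizer_iff.1 g.2.2).symm]
  have hf0 : f 0 = b := one_smul G b
  have hfF : ∀ P, f P ∈ F := fun P => by
    obtain ⟨a, ha⟩ := QuotientGroup.mk_surjective (Additive.toMul P)
    simp only [f, ← ha]
    exact smul_mem_fixSet (hAM a.2) hbF
  set Ω' := Set.range f with hΩ'
  have hcardV : Ω'.ncard = Nat.card (Additive (A ⧸ N)) := Set.ncard_range_of_injective hf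
  have hsub : Ω' ⊆ F := by rintro _ ⟨P, rfl⟩; exact hfF P
  -- the operators `y` and `z`
  let yS : S₀ := ⟨y, hcM hyδ, B.atY.le hy⟩
  let zS : S₀ := ⟨z, hcM hzδ, hz.1⟩
  have hY1 : zpowers y = Y ⊓ Subgroup.centralizer ({δ} : Set G) :=
    eq_of_le_of_card_ge (zpowers_le.2 ⟨hy, mem_centralizer_singleton_iff.2 hyδ.eq⟩) (by
      rw [Nat.card_zpowers, orderOf_eq_prime (B.elem.2 y hy) hy1]
      exact B.card_inf_centralizer_le hxb hδ Fact.out)
  have hyo : orderOf y = 11 := orderOf_eq_prime (B.elem.2 y hy) hy1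
  obtain ⟨a, ha11, hza⟩ : ∃ a < 11, y ^ a = z * y * z⁻¹ := by
    have h1 : z * y * z⁻¹ ∈ zpowers y := by
      rw [hY1]
      refine ⟨(mem_normalizer_iff.1 (B.atY.norm hz.1) y).1 hy, mem_centralizer_singleton_iff.2 ?_⟩
      exact ((hzδ.mul_left hyδ).mul_left hzδ.inv_left).eq
    obtain ⟨a, ha, he⟩ := Finset.mem_image.1 (mem_zpowers_iff_mem_range_orderOf.1 h1)
    exact ⟨a, hyo ▸ Finset.mem_range.1 ha, he⟩
  have hz5' : z ^ 5 = 1 := hz5 ▸ pow_orderOf_eq_one z
  have ha5 : a ^ 5 % 11 = 1 := by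
    have h1 : ∀ k : ℕ, y ^ (a ^ k) = z ^ k * y * (z ^ k)⁻¹ := by
      intro k
      induction k with
      | zero => simp
      | succ k ih =>
        rw [pow_succ, pow_mul, ih, conj_pow, hza, pow_succ]
        group
    have h2 := h1 5
    rw [hz5', one_mul, inv_one, mul_one, ← pow_mod_orderOf, hyo] at h2
    have h3 : y ^ (a ^ 5 % 11) = y ^ 1 := by rw [h2, pow_one]
    exact pow_injOn_Iio_orderOf (x := y) (by rw [hyo]; exact Nat.mod_lt _ (by norm_num))
      (by rw [hyo]; norm_num) h3
  have ha1 : a ≠ 1 := by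
    rintro rfl
    rw [pow_one] at hza
    exact hy1 (hzY y hy (mul_inv_eq_iff_eq_mul.1 hza.symm).symm)
  have hdist : ∀ i j : Fin 5, i ≠ j → ¬ a ^ (i : ℕ) ≡ a ^ (j : ℕ) [MOD 11] := by
    have key : ∀ a < 11, a ^ 5 % 11 = 1 → a ≠ 1 →
        ∀ i j : Fin 5, i ≠ j → a ^ (i : ℕ) % 11 ≠ a ^ (j : ℕ) % 11 := by decide +kernel
    exact fun i j hij => key a ha11 ha5 ha1 i j hij
  have hcard := card_eq_pow_of_twist (by norm_num : Nat.Prime 11) (by norm_num : 0 < 5) (op yS)
    (op zS)
    (by rw [← map_pow, show yS ^ 11 = 1 from Subtype.ext (B.elem.2 y hy), map_one])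
    (by rw [← map_pow, show zS ^ 5 = 1 from Subtype.ext hz5', map_one])
    (fun P hP => hf (by
      have h1 : y • f P = f P := by rw [← hfop yS P, hP]
      by_contra hne
      rw [hf0] at hne
      exact hy1 (B.reg y hyC _ hne h1)))
    (a := a) (by
      rw [← map_pow, ← map_mul, ← map_mul]
      refine congrArg op (Subtype.ext ?_)
      show z * y = y ^ a * z
      rw [hza, inv_mul_cancel_right]) hdist
  set Fz := {c ∈ Ω' | z • c = c} with hFz
  have hFzcard : Nat.card {P : Additive (A ⧸ N) // op zS P = P} = Fz.ncard := by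
    rw [← Nat.card_coe_set_eq]
    refine Nat.card_congr (Equiv.ofBijective
      (fun P => ⟨f P.1, ⟨P.1, rfl⟩, by
        exact (hfop zS P.1).symm.trans (congrArg f P.2)⟩) ⟨fun P Q e => ?_, ?_⟩)
    · exact Subtype.ext (hf (congrArg Subtype.val e))
    · rintro ⟨_, ⟨P, rfl⟩, hP⟩
      exact ⟨⟨P, hf ((hfop zS P).trans hP)⟩, rfl⟩
  rw [← hcardV, hFzcard] at hcard
  -- the free action of `K ∪ w K`
  set X := Bool × K
  let s : X → G := fun e => (bif e.1 then w else 1) * (e.2 : G)
  have hsb : ∀ e : X, s e ∈ S₀ := fun e => by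
    refine mul_mem ?_ ⟨hcM (mem_centralizer_singleton_iff.1 e.2.2.2), B.atC.le e.2.2.1⟩
    cases e.1
    · exact one_mem _
    · exact ⟨hwM, mem_stabilizer_iff.2 hw⟩
  have hsemi : ∀ k ∈ C, ∀ c : G ⧸ H, c ≠ b → (w * k) • c = c → False := by
    intro k hk c hc hkc
    have hwN := mem_normalizer_iff''.1 (B.atC.norm (mem_stabilizer_iff.2 hw))
    have h2 : (w * k) * (w * k) ∈ C := by
      have : w * w * (w⁻¹ * k * w) * k ∈ C := mul_mem (mul_mem hw2 ((hwN k).1 hk)) hk
      simpa [mul_assoc] using this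
    have h3 : (w * k) * (w * k) = 1 := B.reg _ h2 c hc (by rw [mul_smul (w * k), hkc, hkc])
    by_cases h4 : w * k = 1
    · exact hwC (by rw [eq_inv_of_mul_eq_one_left h4]; exact inv_mem hk)
    have h5 : w * k ∈ C := B.invol _ (orderOf_eq_prime (by rw [sq, h3]) h4)
      (by rw [mul_smul, mem_stabilizer_iff.1 (B.atC.le hk), hw])
    exact hwC (by simpa using mul_mem h5 (inv_mem hk))
  have hsinj : ∀ c : G ⧸ H, c ≠ b → Function.Injective fun e => s e • c := by
    intro c hc
    have hmixed : ∀ k k' : K, (k : G) • c = (w * (k' : G)) • c → False := by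
      intro k k' e
      refine hsemi (w⁻¹ * (k : G)⁻¹ * w * k') (mul_mem ?_ k'.2.1) c hc ?_
      · exact (mem_normalizer_iff''.1 (B.atC.norm (mem_stabilizer_iff.2 hw)) _).1 (inv_mem k.2.1)
      · rw [show w * (w⁻¹ * (k : G)⁻¹ * w * k') = (k : G)⁻¹ * (w * k') by group,
          mul_smul (k : G)⁻¹, ← e, inv_smul_smul]
    have hsame : ∀ k k' : K, (k : G) • c = (k' : G) • c → k = k' := fun k k' e => by
      have h1 : ((k' : G)⁻¹ * k) • c = c := by rw [mul_smul, e, inv_smul_smul]
      exact Subtype.ext (inv_mul_eq_one.1 (B.reg _ (mul_mem (inv_mem k'.2.1) k.2.1) c hc h1)).symm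
    rintro ⟨e, k⟩ ⟨e', k'⟩ he
    simp only [s] at he
    cases e <;> cases e' <;> simp only [cond_true, cond_false, one_mul] at he
    · exact Prod.ext rfl (hsame k k' he)
    · exact (hmixed k k' he).elim
    · exact (hmixed k' k he.symm).elim
    · exact Prod.ext rfl (hsame k k' (smul_left_cancel w (by simpa [mul_smul] using he)))
  have hΩsmul : ∀ (e : X) (c : G ⧸ H), c ∈ Ω' → s e • c ∈ Ω' := by
    rintro e _ ⟨P, rfl⟩
    exact ⟨op ⟨s e, hsb e⟩ P, hfop ⟨s e, hsb e⟩ P⟩
  have hsne : ∀ (e : X) (c : G ⧸ H), c ≠ b → s e • c ≠ b := fun e c hc e' =>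
    hc (smul_left_cancel (s e) (e'.trans (mem_stabilizer_iff.1 (hsb e).2).symm))
  have hbΩ : b ∈ Ω' := ⟨0, hf0⟩
  have hΩ1 : 1 < Ω'.ncard := by
    obtain ⟨a₀, ha₀, hab⟩ := SetLike.not_le_iff_exists.1 hAb
    exact (Set.one_lt_ncard_iff (Set.toFinite _)).2
      ⟨b, a₀ • b, hbΩ, ⟨Additive.ofMul (⟨a₀, ha₀⟩ : A), rfl⟩,
        fun e => hab (mem_stabilizer_iff.2 e.symm)⟩
  have hbFz : b ∈ Fz := ⟨hbΩ, hzb⟩
  obtain ⟨c, hc, hcb⟩ := Set.exists_ne_of_one_lt_ncard (s := Fz) (show 1 < Fz.ncard by
    by_contra h1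
    push Not at h1
    have h2 := Nat.pow_le_pow_left h1 5
    rw [one_pow] at h2
    omega) b
  have hcardX : Nat.card X = 2 * Nat.card K := by
    rw [Nat.card_prod, Nat.card_eq_fintype_card, Fintype.card_bool]
  have himg : (fun e => s e • c) '' Set.univ = Ω' \ {b} := by
    refine Set.eq_of_subset_of_ncard_le ?_ ?_ (Set.toFinite _)
    · rintro _ ⟨e, -, rfl⟩
      exact ⟨hΩsmul e c hc.1, hsne e c hcb⟩
    · rw [Set.ncard_image_of_injective _ (hsinj c hcb), Set.ncard_univ, hcardX,
        Set.ncard_diff_singleton_of_mem hbΩ]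
      have := Set.ncard_le_ncard hsub (Set.toFinite _)
      omega
  have hΩcard : Ω'.ncard = 1 + 2 * Nat.card K := by
    have h1 := congrArg Set.ncard himg
    rw [Set.ncard_image_of_injective _ (hsinj c hcb), Set.ncard_univ, hcardX,
      Set.ncard_diff_singleton_of_mem hbΩ] at h1
    omega
  -- the fixed points of `z`
  set Kz := K ⊓ Subgroup.centralizer ({z} : Set G) with hKz
  have hsz : ∀ (e : X), z * s e * z⁻¹ = (bif e.1 then w else 1) * (z * (e.2 : G) * z⁻¹) := by
    rintro ⟨e, k⟩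
    cases e <;> simp only [s, cond_true, cond_false, one_mul]
    calc z * (w * (k : G)) * z⁻¹ = (z * w) * k * z⁻¹ := by group
      _ = _ := by rw [← hwz.eq]; group
  have himgz : (fun e => s e • c) '' (Set.univ ×ˢ {k : K | Commute (k : G) z}) = Fz \ {b} := by
    ext d
    constructor
    · rintro ⟨e, ⟨-, he⟩, rfl⟩
      refine ⟨⟨hΩsmul e c hc.1, ?_⟩, hsne e c hcb⟩
      have hse : Commute (s e) z := by
        obtain ⟨e, k⟩ := e
        cases e <;> simp only [s, cond_true, cond_false, one_mul]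
        · exact he
        · exact hwz.mul_left he
      change z • s e • c = s e • c
      rw [smul_smul, ← hse.eq, mul_smul, hc.2]
    · rintro ⟨⟨hdΩ, hdz⟩, hdb⟩
      obtain ⟨e, -, rfl⟩ := himg.ge ⟨hdΩ, hdb⟩
      refine ⟨e, ⟨trivial, ?_⟩, rfl⟩
      have hk' : z * (e.2 : G) * z⁻¹ ∈ K := ⟨(mem_normalizer_iff.1 (B.atC.norm hz.1) _).1 e.2.2.1,
        mem_centralizer_singleton_iff.2
          ((hzδ.mul_left (mem_centralizer_singleton_iff.1 e.2.2.2)).mul_left hzδ.inv_left).eq⟩
      have h1 : s (e.1, ⟨_, hk'⟩) • c = s e • c := by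
        show ((bif e.1 then w else 1) * (z * (e.2 : G) * z⁻¹)) • c = _
        rw [← hsz, mul_smul, inv_smul_eq_iff.2 hc.2.symm, mul_smul]
        exact hdz
      have h2 := congrArg (fun i : X => (i.2 : G)) (hsinj c hcb h1)
      exact (mul_inv_eq_iff_eq_mul.1 h2).symm
  have hFz' : Fz.ncard = 1 + 2 * Nat.card Kz := by
    have h1 := congrArg Set.ncard himgz
    rw [Set.ncard_image_of_injective _ (hsinj c hcb), Set.ncard_prod, Set.ncard_univ,
      Nat.card_eq_fintype_card, Fintype.card_bool, Set.ncard_diff_singleton_of_mem hbFz] at h1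
    have h2 : {k : K | Commute (k : G) z}.ncard = Nat.card Kz := by
      rw [← Nat.card_coe_set_eq]
      exact Nat.card_congr
        { toFun := fun k => ⟨k.1.1, k.1.2, mem_centralizer_singleton_iff.2 k.2⟩
          invFun := fun k => ⟨⟨k.1, k.2.1⟩, mem_centralizer_singleton_iff.1 k.2.2⟩
          left_inv := fun k => rfl
          right_inv := fun k => rfl }
    rw [h2] at h1
    have h3 : 0 < Fz.ncard := (Set.ncard_pos (Set.toFinite _)).2 ⟨b, hbFz⟩
    omega
  -- `Kz` is a `2`-group
  haveI := h.isNilpotent B.atC B.reg B.invol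
  let P : Sylow 11 C := default
  haveI := P.characteristic_of_normal inferInstance
  have hZodd : Odd (Nat.card ((P : Subgroup C).map C.subtype)) :=
    odd_card_of_isPGroup (r := 11) (by norm_num) (P.2.map C.subtype)
  obtain ⟨t, t', ht, ht', htt, -, htb, htb'⟩ := h.exists_four b
  have hKz2 : ∀ q : ℕ, q.Prime → q ∣ Nat.card Kz → q = 2 := by
    intro q hq hqd
    rcases hC q hq (hqd.trans (card_dvd_of_le (inf_le_left.trans inf_le_left : Kz ≤ C))) with e | e
    · exact e
    subst e
    obtain ⟨⟨k, hk⟩, hko⟩ := exists_prime_orderOf_dvd_card' (G := Kz) 11 hqd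
    rw [← Subgroup.orderOf_coe] at hko
    change orderOf k = 11 at hko
    have hkP : k ∈ (P : Subgroup C).map C.subtype := by
      obtain ⟨Q, hQ⟩ := (IsPGroup.of_card (p := 11) (n := 1) (by
        rw [Nat.card_zpowers, pow_one, ← Subgroup.orderOf_coe, ← hko]) :
          IsPGroup 11 (zpowers (⟨k, hk.1.1⟩ : C))).exists_le_sylow
      letI := Sylow.unique_of_normal P inferInstance
      exact ⟨⟨k, hk.1.1⟩, Subsingleton.elim Q P ▸ hQ (mem_zpowers _), rfl⟩
    have h1 := B.eq_one_of_four hxb (Ctx.atPoints_map_subtype B.atC _) (map_subtype_le _) hZodd hz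
      (fun e => by rw [e, orderOf_one] at hz5; exact absurd hz5 (by norm_num)) ht htb
      (hzJ t ht htb) ht' htb' (hzJ t' ht' htb') htt hkP (mem_centralizer_singleton_iff.1 hk.2)
    rw [h1, orderOf_one] at hko
    exact absurd hko (by norm_num)
  obtain ⟨j, hj⟩ : ∃ j, Nat.card Kz = 2 ^ j :=
    ⟨_, Nat.eq_prime_pow_of_unique_prime_dvd Nat.card_pos.ne' fun {q} hq hd => hKz2 q hq hd⟩
  have hvK : v ∈ Kz := ⟨⟨B.invol v hv hvb, mem_centralizer_singleton_iff.2 hvδ.eq⟩,
    mem_centralizer_singleton_iff.2 (hzJ v hv hvb).eq⟩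
  have hj1 : 1 ≤ j := by
    rcases Nat.eq_zero_or_pos j with rfl | hj'
    · have h1 := Subgroup.orderOf_dvd_natCard _ hvK
      rw [hv, hj, pow_zero] at h1
      exact absurd h1 (by norm_num)
    · exact hj'
  -- arithmetic
  set n := Fz.ncard with hn
  rw [hΩcard] at hcard
  set Φ := n ^ 4 + n ^ 3 + n ^ 2 + n + 1 with hΦ
  have hn1 : n = 1 + 2 ^ (j + 1) := by rw [hFz', hj, pow_succ]; ring
  have hΦdvd : Φ ∣ 2 * Nat.card K := by
    refine Dvd.intro (2 ^ (j + 1)) ?_
    have h1 : (2 ^ (j + 1)) * Φ + 1 = n ^ 5 := by rw [hΦ, hn1]; ring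
    rw [mul_comm]
    omega
  have hΦodd : Odd Φ := by
    have hn' : Odd n := by
      rw [hn1, add_comm]
      exact (even_two.pow_of_ne_zero j.succ_ne_zero).add_one
    rw [hΦ]
    exact (((hn'.pow.add_odd hn'.pow).add_odd hn'.pow).add_odd hn').add_one
  obtain ⟨i, hi⟩ : ∃ i, Φ = 11 ^ i := by
    refine ⟨_, Nat.eq_prime_pow_of_unique_prime_dvd (p := 11) (by positivity) fun {q} hq hd => ?_⟩
    have hq2 : q ≠ 2 := by
      rintro rfl
      exact Nat.not_even_iff_odd.2 hΦodd (even_iff_two_dvd.2 hd)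
    rcases (Nat.Prime.dvd_mul hq).1 (hd.trans hΦdvd) with h1 | h1
    · exact absurd ((Nat.prime_dvd_prime_iff_eq hq Nat.prime_two).1 h1) hq2
    · exact (hC q hq (h1.trans (card_dvd_of_le (inf_le_left : K ≤ C)))).resolve_left hq2
  rcases (show j = 1 ∨ 2 ≤ j by omega) with rfl | hj2
  · have h71 : (71 : ℕ) ∣ 11 ^ i := by rw [← hi, hΦ, hn1]; norm_num
    have := (Nat.prime_dvd_prime_iff_eq (by norm_num) (by norm_num)).1
      ((by norm_num : Nat.Prime 71).dvd_of_dvd_pow h71)
    norm_num at this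
  · have hn8 : (n : ZMod 8) = 1 := by
      obtain ⟨l, rfl⟩ := Nat.exists_eq_add_of_le hj2
      rw [hn1]
      push_cast
      rw [show 2 + l + 1 = 3 + l by ring, pow_add, show ((2 : ZMod 8) ^ 3) = 0 by decide, zero_mul,
        add_zero]
    have h5 : (11 : ZMod 8) ^ i = 5 := by
      have := congrArg (Nat.cast (R := ZMod 8)) hi
      push_cast [hΦ, hn8] at this
      rw [← this]
      decide
    have h11 : ∀ i : ℕ, (11 : ZMod 8) ^ i = 1 ∨ (11 : ZMod 8) ^ i = 3 := by
      intro i
      induction i with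
      | zero => exact Or.inl (pow_zero _)
      | succ i ih =>
        rcases ih with e | e <;> rw [pow_succ, e] <;> decide
    rcases h11 i with e | e <;> rw [e] at h5 <;> exact absurd h5 (by decide)

end CfsgLib.Bender.OddQuot
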