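import Cfsg.Agent.Lib.Bender.OddQuot.GoodEnd
import Cfsg.Agent.Lib.Bender.OddQuot.Eleven
import Cfsg.Agent.Lib.Bender.Core.CaseA
import Cfsg.Agent.Lib.Bender.RankOne
import Cfsg.Agent.Lib.Bender.Full.Basic
import Cfsg.Agent.Lib.Coprime.Fitting

/-!
# The core of a strongly embedded subgroup lies in the core

`coreThm_of_dichotomy`: given the dichotomy for the quotient data, `O(H) ≤ O(G)` for a strongly
embedded subgroup `H`.
-/

set_option autoImplicit false
set_option linter.style.haveILetI false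
set_option linter.unusedSectionVars false

namespace CfsgLib.Bender.OddQuot

open Cfsg Subgroup MulAction
open CfsgLib.Bender.Core
open CfsgLib.Coprime (IsSylowIn conjBy)
open CfsgLib.Invol (fixed_unique invol_conj invol_smul_smul invol_inv invol_mul_self)
open scoped IsMulCommutative

universe u

/-- What the analysis of the quotient delivers. -/
def Dichotomy : Prop :=
  ∀ (X E V : Type u) [Group X] [CommGroup E] [CommGroup V] [Finite X] [Finite E] [Finite V] (p : ℕ)
    (D : Subgroup X) (actE : X →* MulAut E) (actV : X →* MulAut V) (t : E),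
    Data p D actE actV t →
      (∃ θ a, GoodChar p D actE actV θ a) ∨ ∃ δ z w, ElevenCase p D actE actV δ z w

variable {G : Type u} [Group G] [Finite G] {H : Subgroup G} {b x : G ⧸ H} {p : ℕ}
  {Y C E : Subgroup G} {X : Type u} [Group X] [Finite X] [IsMulCommutative Y] [IsMulCommutative E]
  {π : ↥(stabilizer G b) →* X} {actE : X →* MulAut E} {actV : X →* MulAut Y}

set_option maxHeartbeats 800000 in
/-- The case `p = 11`. -/
theorem Base.false_of_elevenCase (B : Base H b p Y C) (T : Setting b Y C E π actE actV) (hxb : x ≠ b)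
    (hC : ∀ q : ℕ, q.Prime → q ∣ Nat.card C → q = 2 ∨ q = 11) {δ z w : X}
    (hδzw : ElevenCase p (pairImg π x) actE actV δ z w) : False := by
  classical
  obtain rfl := hδzw.eleven
  obtain ⟨δ', hδ', rfl, hδo⟩ := T.exists_lift B hxb hδzw.δ_mem
  obtain ⟨z', hz', rfl, hzo⟩ := T.exists_lift B hxb hδzw.z_mem
  obtain ⟨w', rfl⟩ := T.surj w
  rw [hδzw.δ_ord] at hδo
  rw [hδzw.z_ord] at hzo
  have hzδ : Commute z' δ' := by
    have e := T.injOn B hxb (d := z' * δ') (d' := δ' * z') ((pairStab b x).mul_mem hz' hδ')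
      ((pairStab b x).mul_mem hδ' hz') (by simpa only [map_mul] using hδzw.z_comm.eq)
    exact e
  have hzδG : Commute (z' : G) δ' := congrArg Subtype.val hzδ.eq
  -- the subgroup generated by the two elements
  set A := zpowers ((δ' : G) * z') with hA
  have hAD : A ≤ pairStab b x := zpowers_le.2 (mul_mem hδ' hz')
  have hAb : A ≤ stabilizer G b := hAD.trans inf_le_left
  have hAcard : Nat.card A = 15 := by
    rw [hA, Nat.card_zpowers, hzδG.symm.orderOf_mul_eq_mul_orderOf_of_coprime (by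
      rw [hδo, hzo]; norm_num), hδo, hzo]
  have hcop : (Nat.card C).Coprime (Nat.card A) := by
    refine Nat.coprime_of_dvd fun q hq hqC hqA => ?_
    rw [hAcard] at hqA
    rcases hC q hq hqC with rfl | rfl
    · norm_num at hqA
    · norm_num at hqA
  have hwδ := hδzw.w_inv
  have hwz : π w' * π z' * (π w')⁻¹ = π z' := by
    rw [hδzw.w_comm.eq, mul_inv_cancel_right]
  have hB : conjBy (w' : G) A ≤ A ⊔ C := by
    rw [hA, conjBy, MonoidHom.map_zpowers, zpowers_le]
    have h1 : π (w' * (δ' * z') * w'⁻¹) = π (δ'⁻¹ * z') := by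
      rw [map_mul, map_mul, map_mul, map_mul, map_inv, map_inv,
        show π w' * (π δ' * π z') * (π w')⁻¹ =
          (π w' * π δ' * (π w')⁻¹) * (π w' * π z' * (π w')⁻¹) by group, hwδ, hwz]
    have h2 : (((δ'⁻¹ * z')⁻¹ * (w' * (δ' * z') * w'⁻¹) : ↥(stabilizer G b)) : G) ∈ C :=
      (T.ker _).1 (by rw [map_mul, map_inv, h1, inv_mul_cancel])
    have h3 : (((δ'⁻¹ * z') : ↥(stabilizer G b)) : G) ∈ A := by
      have h16 : ((δ' : G) * z') ^ 11 = (δ' : G)⁻¹ * z' := by
        rw [hzδG.symm.mul_pow]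
        congr 1
        · refine (inv_eq_of_mul_eq_one_right ?_).symm
          rw [← pow_succ', show 11 + 1 = orderOf (δ' : G) * 4 by rw [hδo], pow_mul,
            pow_orderOf_eq_one, one_pow]
        · rw [show 11 = orderOf (z' : G) * 2 + 1 by rw [hzo], pow_succ, pow_mul, pow_orderOf_eq_one,
            one_pow, one_mul]
      show (δ' : G)⁻¹ * z' ∈ A
      rw [← h16]
      exact pow_mem (mem_zpowers _) _
    show (w' : G) * ((δ' : G) * z') * (w' : G)⁻¹ ∈ _
    have h4 := mul_mem_sup h3 h2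
    rwa [← Subgroup.coe_mul, mul_inv_cancel_left] at h4
  obtain ⟨c, hc, hcA⟩ := CfsgLib.Coprime.sz_conj_in (hAb.trans B.atC.norm) hcop hB
    (CfsgLib.Coprime.card_conjBy _ _)
    (Or.inl (CfsgLib.Coprime.isSolvable_of_isMulCommutative inferInstance))
  rw [CfsgLib.Coprime.conjBy_conjBy] at hcA
  set w'' : ↥(stabilizer G b) := ⟨c, B.atC.le hc⟩ * w' with hw''
  have hπw : π w'' = π w' := by
    rw [hw'', map_mul, (T.ker ⟨c, B.atC.le hc⟩).2 hc, one_mul]
  have hexact : ∀ d d₁ : ↥(stabilizer G b), (d : G) ∈ A → (d₁ : G) ∈ A →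
      π w' * π d * (π w')⁻¹ = π d₁ → (w'' : G) * d * (w'' : G)⁻¹ = d₁ := by
    intro d d₁ hd hd₁ e
    have h1 : ((w'' * d * w''⁻¹ : ↥(stabilizer G b)) : G) ∈ A := by
      rw [← hcA]
      exact ⟨d, hd, rfl⟩
    exact congrArg Subtype.val (T.injOn B hxb (hAD h1) (hAD hd₁) (by
      rw [map_mul, map_mul, map_inv, hπw, e]))
  have hδA : (δ' : G) ∈ A := by
    have e : ((δ' : G) * z') ^ 10 = δ' := by
      rw [hzδG.symm.mul_pow,
        show (z' : G) ^ 10 = 1 by
          rw [show 10 = orderOf (z' : G) * 2 by rw [hzo], pow_mul, pow_orderOf_eq_one, one_pow],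
        mul_one, show 10 = orderOf (δ' : G) * 3 + 1 by rw [hδo], pow_succ, pow_mul,
        pow_orderOf_eq_one, one_pow, one_mul]
    have h := A.pow_mem (mem_zpowers ((δ' : G) * z')) 10
    rwa [e] at h
  have hzA : (z' : G) ∈ A := by
    have := mul_mem (inv_mem hδA) (mem_zpowers ((δ' : G) * z'))
    rwa [inv_mul_cancel_left] at this
  have hwδG : (w'' : G) * δ' * (w'' : G)⁻¹ = (δ' : G)⁻¹ :=
    hexact δ' δ'⁻¹ hδA (inv_mem hδA) (by rw [map_inv]; exact hwδ)
  have hwzG : Commute (w'' : G) z' := mul_inv_eq_iff_eq_mul.1 (hexact z' z' hzA hzA hwz)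
  obtain ⟨v, hv1, hv⟩ := hδzw.δ_fix
  refine B.false_of_eleven hxb hδ' hδo ⟨v, v.2, fun e => hv1 (Subtype.ext e), (T.fixV.1 hv).symm⟩
    hz' hzo (fun t ht htb => ?_) (fun y hy hyz => ?_) hzδG (mem_stabilizer_iff.1 w''.2)
    (fun hwC => hδzw.w_ne (hπw ▸ (T.ker w'').2 hwC)) ?_ hwδG hwzG hC ?_
  · refine (T.fixE (g := z') (e := ⟨t, (T.memE t).2 (Or.inr ⟨ht, htb⟩)⟩)).1 ?_ |>.symm
    rw [hδzw.z_triv]
    rfl
  · exact congrArg Subtype.val (hδzw.z_free ⟨y, hy⟩ (T.fixV.2 hyz.symm))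
  · exact (T.ker (w'' * w'')).1 (by rw [map_mul, hπw]; exact hδzw.w_sq)
  -- the fixed points
  set D := pairImg π x
  set F := fixSet (zpowers (δ' : G)) H with hF
  set K := C ⊓ Subgroup.centralizer ({(δ' : G)} : Set G) with hK
  set F₀ := F \ {b} with hF₀
  have hbF : b ∈ F := zpowers_le.2 hδ'.1
  have hrep : ∀ y : F₀, ∃ k : ↥(stabilizer G b), (k : G) • x = (y : G ⧸ H) := fun y => by
    obtain ⟨k, hk, e⟩ := B.ctx.transitive (c := x) (d := (y : G ⧸ H)) hxb.symm
      (fun e => y.2.2 (Set.mem_singleton_iff.2 e.symm))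
    exact ⟨⟨k, hk⟩, e⟩
  choose k hk using hrep
  have hfixy : ∀ y : F₀, (δ' : G) • (y : G ⧸ H) = y := fun y =>
    smul_eq_of_mem y.2.1 (mem_zpowers _)
  let cls : F₀ → {c : X ⧸ D | π δ' • c = c} := fun y => ⟨(π (k y) : X ⧸ D), by
    show π δ' • (π (k y) : X ⧸ D) = (π (k y) : X ⧸ D)
    rw [MulAction.Quotient.smul_mk, smul_eq_mul, QuotientGroup.eq, ← map_mul, ← map_inv, ← map_mul]
    refine mem_map_of_mem π ?_
    refine ⟨((δ' * k y)⁻¹ * k y).2, mem_stabilizer_iff.2 ?_⟩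
    show (((δ' : G) * (k y : G))⁻¹ * (k y : G)) • x = x
    rw [mul_smul, hk y, inv_smul_eq_iff, mul_smul, hk y, hfixy y]⟩
  have hfiber : ∀ y y' : F₀, cls y = cls y' → ∃ c : K, (c : G) • (y : G ⧸ H) = y' := by
    intro y y' e
    have e' : (π (k y) : X ⧸ D) = (π (k y') : X ⧸ D) := congrArg Subtype.val e
    rw [QuotientGroup.eq] at e'
    obtain ⟨d, hd, hde⟩ := e'
    have h1 : (((k y)⁻¹ * k y' * d⁻¹ : ↥(stabilizer G b)) : G) ∈ C := (T.ker _).1 (by
      rw [map_mul, map_mul, map_inv, map_inv, hde, mul_inv_cancel])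
    set c₀ : G := (((k y)⁻¹ * k y' * d⁻¹ : ↥(stabilizer G b)) : G) with hc₀
    set c₁ := (k y : G) * c₀ * (k y : G)⁻¹ with hc₁
    have hc₁C : c₁ ∈ C := (mem_normalizer_iff.1 (B.atC.norm (k y).2) _).1 h1
    have hdx : ((d : G))⁻¹ • x = x := inv_smul_eq_iff.2 (mem_stabilizer_iff.1 hd.2).symm
    have hcy : c₁ • (y : G ⧸ H) = y' := by
      rw [hc₁, ← hk y, smul_smul, inv_mul_cancel_right, ← hk y', hc₀]
      simp only [Subgroup.coe_mul, Subgroup.coe_inv, mul_smul, smul_inv_smul, hdx]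
    refine ⟨⟨c₁, hc₁C, mem_centralizer_singleton_iff.2 ?_⟩, hcy⟩
    have h2 : (c₁⁻¹ * ((δ' : G) * c₁ * (δ' : G)⁻¹)) • (y : G ⧸ H) = y := by
      rw [mul_smul, mul_smul, mul_smul, inv_smul_eq_iff.2 (hfixy y).symm, hcy, hfixy y', ← hcy,
        inv_smul_smul]
    have h3 := B.reg _ (mul_mem (inv_mem hc₁C) ((mem_normalizer_iff.1 (B.atC.norm hδ'.1) _).1 hc₁C))
      y (fun e => y.2.2 (Set.mem_singleton_iff.2 e)) h2
    have h4 := inv_mul_eq_one.1 h3
    exact eq_mul_inv_iff_mul_eq.1 h4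
  let base : {c : X ⧸ D | π δ' • c = c} → G ⧸ H := fun c =>
    if h : ∃ y : F₀, cls y = c then (h.choose : G ⧸ H) else b
  let g : {c : X ⧸ D | π δ' • c = c} × K → G ⧸ H := fun q => (q.2 : G) • base q.1
  have hsub : F₀ ⊆ Set.range g := by
    intro y hy
    set cy := cls ⟨y, hy⟩ with hcy
    have hex : ∃ y' : F₀, cls y' = cy := ⟨⟨y, hy⟩, rfl⟩
    obtain ⟨c, hc⟩ := hfiber hex.choose ⟨y, hy⟩ (hex.choose_spec.trans hcy)
    refine ⟨(cy, c), ?_⟩
    show (c : G) • base cy = y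
    simp only [base, dif_pos hex]
    exact hc
  have h1 : F₀.ncard ≤ 2 * Nat.card K := by
    refine (Set.ncard_le_ncard hsub (Set.toFinite _)).trans ?_
    rw [← Set.image_univ]
    refine (Set.ncard_image_le (Set.toFinite _)).trans ?_
    rw [Set.ncard_univ, Nat.card_prod, Nat.card_coe_set_eq]
    exact Nat.mul_le_mul_right _ hδzw.cosets
  have h2 : F₀.ncard + 1 = F.ncard := Set.ncard_diff_singleton_add_one hbF (Set.toFinite _)
  omega

/-- Minimal normal subgroups of a point stabilizer below a solvable one are elementary. -/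
theorem exists_minimal_at {N : Subgroup G} (hN : AtPoints N b) (hne : N ≠ ⊥)
    (hs : Group.IsSolvable N) :
    ∃ (Y : Subgroup G) (p : ℕ), Y ≤ N ∧ AtPoints Y b ∧ Y ≠ ⊥ ∧ p.Prime ∧
      Cfsg.IsElementaryAbelian p Y ∧
      ∀ Z : Subgroup G, Z ≤ Y → AtPoints Z b → Z = ⊥ ∨ Z = Y := by
  obtain ⟨Y, hYN, hY⟩ := exists_minimal_le_of_wellFoundedLT
    (fun Y : Subgroup G => AtPoints Y b ∧ Y ≠ ⊥) N ⟨hN, hne⟩
  obtain ⟨hYat, hY1⟩ := hY.prop
  have hmin : ∀ Z : Subgroup G, Z ≤ Y → AtPoints Z b → Z = ⊥ ∨ Z = Y := fun Z hZ hZat => by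
    rcases eq_or_ne Z ⊥ with e | e
    exacts [Or.inl e, Or.inr (le_antisymm hZ (hY.le_of_le ⟨hZat, e⟩ hZ))]
  haveI : (Y.subgroupOf (stabilizer G b)).Normal :=
    (normal_subgroupOf_iff_le_normalizer hYat.le).2 hYat.norm
  haveI : Group.IsSolvable (Y.subgroupOf (stabilizer G b)) :=
    CfsgLib.Coprime.isSolvable_subgroupOf (CfsgLib.Coprime.isSolvable_of_le hYN hs)
  have hY' : Y.subgroupOf (stabilizer G b) ≠ ⊥ := fun e => hY1 (by
    rw [← map_subgroupOf_eq_of_le hYat.le, e, Subgroup.map_bot])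
  obtain ⟨hcomm, p, hp, hexp⟩ := CfsgLib.Coprime.minimal_normal_solvable hY' fun M hM hMY => by
    have hle : M.map (stabilizer G b).subtype ≤ Y :=
      (map_mono hMY).trans (map_subgroupOf_eq_of_le hYat.le).le
    have hat : AtPoints (M.map (stabilizer G b).subtype) b :=
      ⟨map_subtype_le M, CfsgLib.Coprime.BenderPair.le_normalizer_map_subtype _ M⟩
    rcases hmin _ hle hat with e | e
    · exact Or.inl ((map_eq_bot_iff_of_injective _ (Subgroup.subtype_injective _)).1 e)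
    · refine Or.inr ?_
      apply map_injective (Subgroup.subtype_injective _)
      rw [e, map_subgroupOf_eq_of_le hYat.le]
  refine ⟨Y, p, hYN, hYat, hY1, hp, ⟨⟨⟨fun u v => Subtype.ext ?_⟩⟩, fun a ha => ?_⟩, hmin⟩
  · exact (congrArg Subtype.val (hcomm ⟨(u : G), hYat.le u.2⟩ u.2 ⟨(v : G), hYat.le v.2⟩ v.2) :)
  · exact congrArg Subtype.val (hexp ⟨a, hYat.le ha⟩ ha)

/-- An elementary normal subgroup of odd order of a point stabilizer gives a `Base`. -/
theorem base_of_elementary (h : Ctx H) {p : ℕ} (hp : p.Prime) (hp2 : p ≠ 2) {Y : Subgroup G}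
    (hY : AtPoints Y b) (hY1 : Y ≠ ⊥) (hel : Cfsg.IsElementaryAbelian p Y) :
    Base H b p Y (Subgroup.centralizer (Y : Set G)) := by
  haveI := Fact.mk hp
  haveI := hel.1
  have hYp : IsPGroup p Y := CfsgLib.Invol.isPGroup_of_isElementaryAbelian hel
  have hreg := h.semiregular hp2 hY hYp
  have hJ : ∀ t : G, orderOf t = 2 → t • b = b → t ∈ Subgroup.centralizer (Y : Set G) :=
    fun t ht htb => h.invol_commute hp2 hY hel ht htb
  exact ⟨h, hp, hp2, hY, hel, hY1, fun y hy => mem_centralizer_iff.2 fun y' hy' =>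
      congrArg Subtype.val (mul_comm' (⟨y', hy'⟩ : Y) ⟨y, hy⟩),
    hY.centralizer hY1 hreg,
    h.centralizer_semiregular hY (odd_card_of_isPGroup hp2 hYp) hY1 hreg hJ, hJ⟩

omit [Finite X] [IsMulCommutative Y] [IsMulCommutative E] in
/-- A minimal normal subgroup with its centralizer is impossible. -/
theorem Base.false_of_minimal (hdich : Dichotomy.{u}) (B : Base H b p Y C)
    (hC : C = stabilizer G b ⊓ Subgroup.centralizer (Y : Set G))
    (hmin : ∀ Z : Subgroup G, Z ≤ Y → AtPoints Z b → Z = ⊥ ∨ Z = Y)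
    (h11 : p = 11 → ∀ q : ℕ, q.Prime → q ∣ Nat.card C → q = 2 ∨ q = 11) : False := by
  haveI := B.elem.1
  obtain ⟨E, hE, X, _, _, π, actE, actV, T⟩ := B.exists_setting hC
  haveI := hE
  obtain ⟨x, hxb⟩ := B.ctx.exists_point_ne b
  obtain ⟨t, -, ht, -, -, -, htb, -⟩ := B.ctx.exists_four b
  rcases hdich X E Y p _ actE actV _ (T.data B hxb ht htb hmin hC) with
    ⟨θ, a, hθ⟩ | ⟨δ, z, w, he⟩
  · exact B.false_of_goodChar T hxb hθ
  · exact B.false_of_elevenCase T hxb (h11 he.eleven) he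

omit [Finite X] [IsMulCommutative Y] [IsMulCommutative E] in
/-- A point stabilizer has no normal subgroup of odd order. -/
theorem false_of_odd_normal (hdich : Dichotomy.{u}) (h : Ctx H) {K : Subgroup G}
    (hK : AtPoints K b) (hK1 : K ≠ ⊥) (hKodd : Odd (Nat.card K)) : False := by
  classical
  have hodd : ∀ {Z : Subgroup G} {q : ℕ}, Z ≤ K → Z ≠ ⊥ → q.Prime →
      Cfsg.IsElementaryAbelian q Z → q ≠ 2 := by
    rintro Z q hZK hZ1 hq hel rfl
    obtain ⟨y, hy, hy1⟩ := (Subgroup.bot_or_exists_ne_one Z).resolve_left hZ1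
    exact Nat.not_even_iff_odd.2 hKodd (CfsgLib.Invol.even_card_of_invol_mem (hZK hy)
      (orderOf_eq_prime (hel.2 y hy) hy1))
  obtain ⟨Y, p, hYK, hY, hY1, hp, hel, hmin⟩ :=
    exists_minimal_at hK hK1 (Cfsg.Agent.S0205.result hKodd)
  by_cases hex : ∃ (Y' : Subgroup G) (q : ℕ), q.Prime ∧ q ≠ 2 ∧ q ≠ 11 ∧ AtPoints Y' b ∧ Y' ≠ ⊥ ∧
      Cfsg.IsElementaryAbelian q Y' ∧ ∀ Z : Subgroup G, Z ≤ Y' → AtPoints Z b → Z = ⊥ ∨ Z = Y'
  · obtain ⟨Y', q, hq, hq2, hq11, hY', hY'1, hel', hmin'⟩ := hex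
    have B := base_of_elementary h hq hq2 hY' hY'1 hel'
    exact B.false_of_minimal hdich (inf_eq_right.2 B.atC.le).symm hmin' fun e => absurd e hq11
  push Not at hex
  have hp2 := hodd hYK hY1 hp hel
  have B := base_of_elementary h hp hp2 hY hY1 hel
  refine B.false_of_minimal hdich (inf_eq_right.2 B.atC.le).symm hmin fun _ q hq hqC => ?_
  by_contra hcon
  push Not at hcon
  haveI := Fact.mk hq
  haveI := h.isNilpotent B.atC B.reg B.invol
  let Q : Sylow q ↥(Subgroup.centralizer (Y : Set G)) := default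
  haveI := Q.characteristic_of_normal (((Group.isNilpotent_of_finite_tfae
    (G := ↥(Subgroup.centralizer (Y : Set G)))).out 0 3 rfl rfl).1 inferInstance q ⟨hq⟩ Q)
  set N := (Q : Subgroup ↥(Subgroup.centralizer (Y : Set G))).map (Subgroup.subtype _) with hN
  have hN1 : N ≠ ⊥ := by
    rw [hN, Ne, Subgroup.map_eq_bot_iff_of_injective _ (Subgroup.subtype_injective _)]
    exact Q.ne_bot_of_dvd_card hqC
  have hNq : IsPGroup q N := Q.2.map _
  haveI := hNq.isNilpotent
  obtain ⟨Y', p', hY'N, hY', hY'1, hp', hel', hmin'⟩ :=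
    exists_minimal_at (Ctx.atPoints_map_subtype B.atC _) hN1
      (CfsgLib.Coprime.isSolvable_of_isNilpotent inferInstance)
  have hpq : p' = q := by
    obtain ⟨y, hy, hy1⟩ := (Subgroup.bot_or_exists_ne_one Y').resolve_left hY'1
    obtain ⟨i, hi⟩ := hNq ⟨y, hY'N hy⟩
    have h1 : orderOf y ∣ q ^ i := orderOf_dvd_of_pow_eq_one (congrArg Subtype.val hi)
    haveI := Fact.mk hp'
    rw [orderOf_eq_prime (hel'.2 y hy) hy1] at h1
    exact (Nat.prime_dvd_prime_iff_eq hp' hq).1 (hp'.dvd_of_dvd_pow h1)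
  subst hpq
  obtain ⟨Z, hZle, hZat, hZ1, hZ2⟩ := hex Y' p' hp' hcon.1 hcon.2 hY' hY'1 hel'
  rcases hmin' Z hZle hZat with e | e
  exacts [hZ1 e, hZ2 e]

omit [Finite X] [IsMulCommutative Y] [IsMulCommutative E] in
/-- The core theorem, given the dichotomy. -/
theorem coreThm_of_dichotomy (hdich : Dichotomy.{u}) :
    ∀ (n : ℕ) (G : Type u) [Group G] [Finite G], Nat.card G = n → ∀ H : Subgroup G,
      Cfsg.IsStronglyEmbedded H → (Cfsg.oddCore H).map H.subtype ≤ Cfsg.oddCore G := by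
  intro n
  induction n using Nat.strong_induction_on with
  | _ n ih => ?_
  intro G _ _ hn H hH
  classical
  haveI : (Cfsg.oddCore H).Normal := Subgroup.sSup_normal _ fun _ h => h.1
  haveI : (Cfsg.oddCore G).Normal := Subgroup.sSup_normal _ fun _ h => h.1
  set K := (Cfsg.oddCore H).map H.subtype with hK
  have hKodd : Odd (Nat.card K) := by
    rw [hK, card_map_of_injective H.subtype_injective]
    exact odd_card_oddCore H
  have hHK : H ≤ normalizer (K : Set G) := CfsgLib.Coprime.BenderPair.le_normalizer_map_subtype H _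
  by_cases hpair : HasPair G
  swap
  · have hO := CfsgLib.Bender.oddCore_sup_eq_top hH hpair
    haveI : (K ⊔ Cfsg.oddCore G).Normal := by
      rw [← normalizer_eq_top_iff, eq_top_iff, ← hO, sup_le_iff]
      refine ⟨(le_sup_right).trans le_normalizer, fun g hg => ?_⟩
      exact CfsgLib.Coprime.sup_le_normalizer hHK (by rw [normalizer_eq_top]; exact le_top) hg
    refine le_trans le_sup_left (CfsgLib.Coprime.le_pPrimeCore_of_not_dvd Nat.prime_two
      (N := K ⊔ Cfsg.oddCore G) fun h2 => ?_)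
    have hd := CfsgLib.Coprime.card_sup_dvd_of_le_normalizer (H := K) (N := Cfsg.oddCore G)
      (by rw [normalizer_eq_top]; exact le_top)
    exact Nat.not_even_iff_odd.2 (hKodd.mul (odd_card_oddCore G))
      (even_iff_two_dvd.2 (h2.trans hd))
  rcases eq_or_ne H.normalCore ⊥ with hcore | hcore
  · by_contra hle
    have hK1 : K ≠ ⊥ := fun e => hle (by rw [e]; exact bot_le)
    have hst : stabilizer G ((1 : G) : G ⧸ H) = H := MulAction.stabilizer_quotient H
    refine false_of_odd_normal hdich (b := ((1 : G) : G ⧸ H)) ⟨hH, hpair, hcore, fun L hL M hM => ?_⟩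
      (K := K) ⟨?_, ?_⟩ hK1 hKodd
    · refine ih (Nat.card L) ?_ L rfl M hM
      rw [← hn, ← L.card_mul_index]
      exact lt_mul_of_one_lt_right Nat.card_pos
        (by
          have h1 := L.index_ne_zero_of_finite
          have h2 : L.index ≠ 1 := fun e => hL (index_eq_one.1 e)
          omega)
    · rw [hst, hK]; exact map_subtype_le _
    · rw [hst]; exact hHK
  obtain ⟨hH', -, -⟩ := CfsgLib.Bender.Full.exists_quotient hH hpair
  set M := H.normalCore with hM
  set π := QuotientGroup.mk' M with hπ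
  have hlt : Nat.card (G ⧸ M) < n := by
    rw [← hn, M.card_eq_card_quotient_mul_card_subgroup]
    exact lt_mul_of_one_lt_right Nat.card_pos ((one_lt_card_iff_ne_bot M).2 hcore)
  have h1 := ih _ hlt (G ⧸ M) rfl (H.map π) hH'
  haveI : (Cfsg.oddCore (G ⧸ M)).Normal := Subgroup.sSup_normal _ fun _ h => h.1
  have hKle : K.map π ≤ Cfsg.oddCore (G ⧸ M) := by
    refine le_trans ?_ h1
    rintro _ ⟨k, hk, rfl⟩
    obtain ⟨k', hk', rfl⟩ := hk
    refine ⟨π.subgroupMap H k', ?_, rfl⟩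
    haveI : ((Cfsg.oddCore H).map (π.subgroupMap H)).Normal :=
      Subgroup.Normal.map inferInstance _ (π.subgroupMap_surjective H)
    refine CfsgLib.Coprime.le_pPrimeCore_of_not_dvd Nat.prime_two
      (N := (Cfsg.oddCore H).map (π.subgroupMap H)) (fun h2 => ?_) (mem_map_of_mem _ hk')
    exact Nat.not_even_iff_odd.2 (odd_card_oddCore H)
      (even_iff_two_dvd.2 (h2.trans (card_map_dvd _ _)))
  refine le_trans (map_le_iff_le_comap.1 hKle)
    (CfsgLib.Coprime.le_pPrimeCore_of_not_dvd Nat.prime_two fun h2 => ?_)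
  have hc : Nat.card ((Cfsg.oddCore (G ⧸ M)).comap π) = Nat.card M * Nat.card (Cfsg.oddCore (G ⧸ M)) := by
    have e1 := ((Cfsg.oddCore (G ⧸ M)).comap π).card_mul_index
    rw [index_comap_of_surjective _ (QuotientGroup.mk'_surjective M),
      M.card_eq_card_quotient_mul_card_subgroup, ← (Cfsg.oddCore (G ⧸ M)).card_mul_index,
      mul_comm _ (Nat.card M), ← mul_assoc] at e1
    exact Nat.eq_of_mul_eq_mul_right (Nat.pos_of_ne_zero index_ne_zero_of_finite) e1
  exact Nat.not_even_iff_odd.2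
    ((CfsgLib.Bender.Full.odd_normalCore hH).mul (odd_card_oddCore (G ⧸ M)))
    (even_iff_two_dvd.2 (hc ▸ h2))

end CfsgLib.Bender.OddQuot
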