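import Cfsg.Agent.Lib.Bender.OddQuot.ThreeGood

/-!
# The configuration left over, and the quotient dichotomy

With `p = 11` and non-trivial scalars an element of order three has centralizer in `D`, is inverted
by an involution and fixes at most two cosets of `D`.
-/

set_option autoImplicit false
set_option linter.style.haveILetI false
set_option linter.unusedSectionVars false

namespace CfsgLib.Bender.OddQuot

open Subgroup
open CfsgLib.Coprime (IsSylowIn)

universe u

variable {X E V : Type u} [Group X] [CommGroup E] [CommGroup V] [Finite X] [Finite E] [Finite V]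
  {p : ℕ} {D : Subgroup X} {actE : X →* MulAut E} {actV : X →* MulAut V} {t : E}

namespace Data

variable (S : Data p D actE actV t) (f : Frame D actE t) {y : X} (h : f.Shape actV p 3 y)
include S h

theorem orderOf_image : orderOf (actE y) = 3 := by
  haveI : Fact (Nat.Prime 3) := ⟨Nat.prime_three⟩
  refine orderOf_eq_prime (by rw [← map_pow, h.twisted.period, map_one]) fun e => ?_
  have hc : Commute y (f.σ : X) := S.ker_central f h (MonoidHom.mem_ker.2 e) _
  have h1 := h.twisted.conj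
  rw [hc.eq, mul_inv_cancel_right, pow_two, left_eq_mul] at h1
  have h2 := (S.sigma_free_data f h).1
  rw [h1, orderOf_one] at h2
  exact Nat.not_prime_one h2

theorem image_pow_three {g : X} (hg : Commute g y) : actE g ^ 3 = 1 := by
  have hE := (S.three_facts f h).1
  have hy := S.orderOf_image f h
  have hc : Commute (actE g) (actE y) := hg.map actE
  by_contra h3
  have key : ∀ m : ℕ, Nat.Coprime m 3 → actE g ^ m = 1 → False := by
    intro m hm hgm
    have hcop : (orderOf (actE g)).Coprime (orderOf (actE y)) :=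
      (Nat.Coprime.coprime_dvd_left (orderOf_dvd_of_pow_eq_one hgm) (hy.symm ▸ hm))
    have hmul := hc.orderOf_mul_eq_mul_orderOf_of_coprime hcop
    rcases GLThree.orders S.expE hE (actE g * actE y) with e | e | e <;>
      have h4 := orderOf_dvd_of_pow_eq_one e <;> rw [hmul, hy] at h4
    · exact absurd ((dvd_mul_left 3 _).trans h4) (by norm_num)
    · refine h3 ?_
      have h5 : orderOf (actE g) ∣ 1 := Nat.dvd_of_mul_dvd_mul_right (by norm_num : 0 < 3)
        (by rwa [one_mul])
      rw [orderOf_eq_one_iff.1 (Nat.dvd_one.1 h5), one_pow]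
    · exact absurd ((dvd_mul_left 3 _).trans h4) (by norm_num)
  rcases GLThree.orders S.expE hE (actE g) with e | e | e
  · exact key 4 (by decide) e
  · exact h3 e
  · exact key 7 (by decide) e

/-- The centralizer of `y` lies in `D`. -/
theorem mem_D_of_commute_y {g : X} (hg : Commute g y) : g ∈ D := by
  classical
  haveI : Fact (Nat.Prime 3) := ⟨Nat.prime_three⟩
  have hE := (S.three_facts f h).1
  have hy := S.orderOf_image f h
  set P := (centralizer ({y} : Set X)).map actE with hP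
  have hP3 : IsPGroup 3 P := by
    rintro ⟨φ, c, hc, rfl⟩
    refine ⟨1, Subtype.ext ?_⟩
    rw [pow_one, Subgroup.coe_pow, Subgroup.coe_one]
    exact S.image_pow_three f h (mem_centralizer_singleton_iff.1 hc)
  have hle : zpowers (actE y) ≤ P :=
    zpowers_le.2 ⟨y, mem_centralizer_singleton_iff.2 rfl, rfl⟩
  have heq : zpowers (actE y) = P := by
    refine eq_of_le_of_card_ge hle ?_
    obtain ⟨k, hk⟩ := IsPGroup.iff_card.1 hP3
    rw [Nat.card_zpowers, hy, hk]
    have hd : 3 ^ k ∣ 168 := hk ▸ GLThree.card_mulAut S.expE hE ▸ Subgroup.card_subgroup_dvd_card P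
    rcases k with _ | _ | k
    · norm_num
    · norm_num
    · have : 3 ^ 2 ∣ 168 := (pow_dvd_pow 3 (by omega)).trans hd
      norm_num at this
  have hgP : actE g ∈ P := ⟨g, mem_centralizer_singleton_iff.2 hg.eq, rfl⟩
  rw [← heq] at hgP
  obtain ⟨i, hi⟩ := mem_zpowers_iff.1 hgP
  have hk : (y ^ i)⁻¹ * g ∈ actE.ker := by
    rw [MonoidHom.mem_ker, map_mul, map_inv, map_zpow, hi, inv_mul_cancel]
  have := mul_mem (zpow_mem (mem_galoisPart.1 h.mem).1 i) (S.ker_le hk)
  rwa [mul_inv_cancel_left] at this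

theorem not_nine_dvd (hp : p = 11) : ¬ 3 ^ 2 ∣ Nat.card X := by
  intro hd
  haveI : Fact (Nat.Prime 3) := ⟨Nat.prime_three⟩
  have h3 : ¬ 3 ∣ Nat.card actE.ker := fun h3 => by
    obtain ⟨a, ha⟩ := exists_prime_orderOf_dvd_card' (G := actE.ker) 3 h3
    rw [← Subgroup.orderOf_coe] at ha
    have h5 := orderOf_dvd_of_pow_eq_one (S.ker_pow_five f h hp a.2)
    rw [ha] at h5
    norm_num at h5
  have := Nat.Coprime.dvd_of_dvd_mul_left
    ((Nat.prime_three.coprime_iff_not_dvd.2 h3).pow_left 2) (hd.trans (S.card_dvd f h))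
  norm_num at this

theorem pow_y_cases {u : X} (hu : u ∈ zpowers y) : u = 1 ∨ u = y ∨ u = y⁻¹ := by
  classical
  obtain ⟨-, -, -, -, hy⟩ := S.three_facts f h
  obtain ⟨j, hj, rfl⟩ := (mem_powers_iff_mem_range_orderOf.1
    (mem_powers_iff_mem_zpowers.2 hu : u ∈ Submonoid.powers y) |> Finset.mem_image.1)
  rw [Finset.mem_range, hy] at hj
  interval_cases j
  · exact Or.inl (pow_zero y)
  · exact Or.inr (Or.inl (pow_one y))
  · refine Or.inr (Or.inr (eq_inv_of_mul_eq_one_left ?_))
    rw [← pow_succ]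
    exact h.twisted.period

variable (hX : Even (Nat.card X))
include hX

theorem exists_inverting (hp : p = 11) : ∃ g : X, g * y * g⁻¹ = y⁻¹ := by
  classical
  by_contra hno
  push Not at hno
  haveI : Fact (Nat.Prime 3) := ⟨Nat.prime_three⟩
  obtain ⟨-, -, -, hσ, hy⟩ := S.three_facts f h
  obtain ⟨P, hP⟩ := (IsPGroup.of_card (p := 3) (n := 1)
    (show Nat.card (zpowers y) = 3 ^ 1 by rw [Nat.card_zpowers, hy, pow_one])).exists_le_sylow
  have hPeq : (P : Subgroup X) = zpowers y := by
    refine (eq_of_le_of_card_ge hP ?_).symm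
    obtain ⟨k, hk⟩ := IsPGroup.iff_card.1 P.2
    rw [Nat.card_zpowers, hy, hk]
    rcases k with _ | _ | k
    · norm_num
    · norm_num
    · exact absurd ((pow_dvd_pow 3 (by omega : 2 ≤ k + 1 + 1)).trans
        (hk ▸ Subgroup.card_subgroup_dvd_card _)) (S.not_nine_dvd f h hp)
  have hNC : normalizer ((P : Subgroup X) : Set X) ≤ centralizer ((P : Subgroup X) : Set X) := by
    intro n hn
    have hmem : n * y * n⁻¹ ∈ (P : Subgroup X) :=
      (mem_normalizer_iff.1 hn y).1 (hPeq ▸ mem_zpowers y)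
    rw [hPeq] at hmem
    have hcy : Commute n y := by
      rcases S.pow_y_cases f h hmem with e | e | e
      · rw [mul_inv_eq_one, mul_eq_left] at e
        rw [e]; exact Commute.one_right n
      · exact mul_inv_eq_iff_eq_mul.1 e
      · exact absurd e (hno n)
    refine mem_centralizer_iff.2 fun z hz => ?_
    rw [SetLike.mem_coe, hPeq] at hz
    obtain ⟨i, rfl⟩ := mem_zpowers_iff.1 hz
    exact ((hcy.zpow_right i).eq).symm
  set K := (MonoidHom.transferSylow P hNC).ker with hK
  have hcompl := MonoidHom.ker_transferSylow_isComplement' P hNC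
  have h3K : ¬ 3 ∣ Nat.card K := MonoidHom.not_dvd_card_ker_transferSylow P hNC
  set Y := freeClosure D (Nat.card E - 1) with hY
  have hσK : (f.σ : X) ∈ K := by
    rw [hK, MonoidHom.mem_ker, ← orderOf_eq_one_iff]
    obtain ⟨a, ha⟩ := IsPGroup.iff_orderOf.1 P.2 (MonoidHom.transferSylow P hNC (f.σ : X))
    have hd := orderOf_map_dvd (MonoidHom.transferSylow P hNC) (f.σ : X)
    rw [ha, hσ] at hd
    rw [ha]
    rcases a with _ | a
    · exact pow_zero 3
    · exact absurd ((dvd_pow_self 3 a.succ_ne_zero).trans hd) (by norm_num)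
  have hKe : Even (Nat.card K) := by
    have h2 := hcompl.card_mul
    rw [← hK, hPeq, Nat.card_zpowers, hy] at h2
    rcases Nat.even_mul.1 (h2.symm ▸ hX) with e | e
    · exact e
    · exact absurd e (by decide)
  have hMe : Even (Nat.card ↥(K ⊓ Y)) := by
    haveI : Fact (Nat.Prime 2) := ⟨Nat.prime_two⟩
    obtain ⟨w, hw⟩ := exists_prime_orderOf_dvd_card' (G := K) 2 (even_iff_two_dvd.1 hKe)
    rw [← Subgroup.orderOf_coe] at hw
    rw [even_iff_two_dvd, ← hw]
    refine Subgroup.orderOf_dvd_natCard _ ⟨w.2, S.mem_closure_of_sq hX f h ?_⟩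
    rw [← pow_two, ← hw, pow_orderOf_eq_one]
  obtain ⟨hσp, hσm⟩ := S.sigma_free_data f h
  obtain ⟨u, hu, huD, hne⟩ := S.exists_move f.σ.2 hσp hσm
    (M := K ⊓ Y) ⟨hσK, f.σY⟩ hMe
  obtain ⟨i, hi, -⟩ := S.exists_raises hX f huD hu.2
  have hk3 : 3 ∣ f.k := by rw [h.deg]
  have hsub : f.sub 3 = (f.σ : X) := by
    have h1 := S.sub_k f
    rwa [h.deg] at h1
  have h1 : 3 ∣ i * orderOf u := (S.commute_sub_iff f hk3 (hi.pow (orderOf u))).1 (by
    rw [pow_orderOf_eq_one]; exact Commute.one_left _)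
  have h2 : 3 ∣ i := by
    refine (Nat.prime_three.dvd_mul.1 h1).resolve_right fun h3 => h3K ?_
    exact h3.trans (Subgroup.orderOf_dvd_natCard _ hu.1)
  have h4 := (S.commute_sub_iff f hk3 hi).2 h2
  rw [hsub] at h4
  exact hne h4

/-- An involution inverts `y`. -/
theorem exists_invol_inverting (hp : p = 11) :
    ∃ w : X, w ≠ 1 ∧ w * w = 1 ∧ w * y * w⁻¹ = y⁻¹ := by
  obtain ⟨g, hg⟩ := S.exists_inverting f h hX hp
  have hsq : Commute (g ^ 2) y := by
    refine mul_inv_eq_iff_eq_mul.1 ?_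
    rw [pow_two, mul_inv_rev]
    calc g * g * y * (g⁻¹ * g⁻¹) = g * (g * y * g⁻¹) * g⁻¹ := by group
      _ = y := by rw [hg, ← conj_inv, hg, inv_inv]
  obtain ⟨m, hm⟩ := S.oddD.of_dvd_nat
    (Subgroup.orderOf_dvd_natCard _ (S.mem_D_of_commute_y f h hsq))
  have hinv : g ^ (2 * m + 1) * y * (g ^ (2 * m + 1))⁻¹ = y⁻¹ := by
    have hc := (hsq.pow_left m).eq
    rw [← pow_mul] at hc
    rw [pow_succ', mul_inv_rev]
    calc g * g ^ (2 * m) * y * ((g ^ (2 * m))⁻¹ * g⁻¹)
        = g * (g ^ (2 * m) * y * (g ^ (2 * m))⁻¹) * g⁻¹ := by group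
      _ = y⁻¹ := by rw [hc, mul_inv_cancel_right, hg]
  refine ⟨g ^ (2 * m + 1), fun e => ?_, ?_, hinv⟩
  · rw [e, one_mul, inv_one, mul_one] at hinv
    obtain ⟨-, -, -, -, hy⟩ := S.three_facts f h
    have : orderOf y ∣ 2 := orderOf_dvd_of_pow_eq_one (by
      rw [pow_two]
      nth_rewrite 2 [hinv]
      exact mul_inv_cancel y)
    rw [hy] at this
    norm_num at this
  · rw [← pow_add, ← two_mul, pow_mul, ← hm, pow_orderOf_eq_one]

omit hX

/-- `y` fixes at most two cosets. -/
theorem ncard_fixed_le (hp : p = 11) {w : X} (hw : w * y * w⁻¹ = y⁻¹) :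
    {c : X ⧸ D | y • c = c}.ncard ≤ 2 := by
  classical
  haveI : Fact (Nat.Prime 3) := ⟨Nat.prime_three⟩
  obtain ⟨-, -, -, -, hy⟩ := S.three_facts f h
  have hyD := (mem_galoisPart.1 h.mem).1
  obtain ⟨Q, hQ, hyQ⟩ := CfsgLib.Bender.exists_sylowIn_ge (K := D) (P := zpowers y)
    (IsPGroup.of_card (p := 3) (n := 1) (by rw [Nat.card_zpowers, hy, pow_one])) (zpowers_le.2 hyD)
  have hQeq : zpowers y = Q := by
    refine eq_of_le_of_card_ge hyQ ?_
    obtain ⟨k, hk⟩ := IsPGroup.iff_card.1 hQ.isPGroup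
    rw [Nat.card_zpowers, hy, hk]
    rcases k with _ | _ | k
    · norm_num
    · norm_num
    · exact absurd ((pow_dvd_pow 3 (by omega : 2 ≤ k + 1 + 1)).trans
        (hk ▸ Subgroup.card_subgroup_dvd_card _)) (S.not_nine_dvd f h hp)
  rw [← hQeq] at hQ
  have hsub : {c : X ⧸ D | y • c = c} ⊆ {((1 : X) : X ⧸ D), (w : X ⧸ D)} := by
    intro c hc
    obtain ⟨g, rfl⟩ := QuotientGroup.mk_surjective c
    have h1 : ((y * g : X) : X ⧸ D) = (g : X ⧸ D) := hc
    have hgD : g⁻¹ * y * g ∈ D := by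
      have h2 := QuotientGroup.eq.1 h1.symm
      rwa [← mul_assoc] at h2
    have hord : orderOf (g⁻¹ * y * g) = 3 := by
      have := (MulAut.conj g⁻¹).orderOf_eq y
      rw [MulAut.conj_apply, inv_inv] at this
      rw [this, hy]
    obtain ⟨d, hd, hdy⟩ := CfsgLib.Bender.exists_conjBy_le (Q := zpowers (g⁻¹ * y * g))
      (IsPGroup.of_card (p := 3) (n := 1) (by rw [Nat.card_zpowers, hord, pow_one]))
      (zpowers_le.2 hgD) hQ
    have hn : d * (g⁻¹ * y * g) * d⁻¹ ∈ zpowers y := hdy ⟨_, mem_zpowers _, rfl⟩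
    set n := g * d⁻¹ with hnd
    have hn' : d * (g⁻¹ * y * g) * d⁻¹ = n⁻¹ * y * n := by rw [hnd]; group
    rw [hn'] at hn
    have hco : ∀ u : X, ((g : X) : X ⧸ D) = (u : X ⧸ D) ↔ g⁻¹ * u ∈ D := fun u => QuotientGroup.eq
    rcases S.pow_y_cases f h hn with e | e | e
    · exfalso
      have : y = 1 := by
        calc y = n * (n⁻¹ * y * n) * n⁻¹ := by group
          _ = 1 := by rw [e, mul_one, mul_inv_cancel]
      rw [this, orderOf_one] at hy
      norm_num at hy
    · refine Or.inl ((hco 1).2 ?_)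
      have hnD : n ∈ D := S.mem_D_of_commute_y f h (by
        show n * y = y * n
        calc n * y = n * (n⁻¹ * y * n) := by rw [e]
          _ = y * n := by group)
      rw [mul_one, show g = n * d from by rw [hnd, inv_mul_cancel_right]]
      exact inv_mem (mul_mem hnD hd)
    · refine Or.inr ((hco w).2 ?_)
      have hwy : w * y⁻¹ * w⁻¹ = y := by rw [← conj_inv, hw, inv_inv]
      have hnD : w⁻¹ * n ∈ D := S.mem_D_of_commute_y f h (by
        show w⁻¹ * n * y = y * (w⁻¹ * n)
        calc w⁻¹ * n * y = w⁻¹ * n * (w * y⁻¹ * w⁻¹) := by rw [hwy]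
          _ = w⁻¹ * n * (n⁻¹ * y * n)⁻¹ := by
            rw [e, inv_inv, hwy]
          _ = w⁻¹ * y⁻¹ * n := by group
          _ = y * (w⁻¹ * n) := by
            rw [← hw]; group)
      have h3 : g⁻¹ * w = d⁻¹ * (w⁻¹ * n)⁻¹ := by rw [hnd]; group
      rw [h3]
      exact mul_mem (inv_mem hd) (inv_mem hnD)
  refine (Set.ncard_le_ncard hsub (Set.toFinite _)).trans ((Set.ncard_insert_le _ _).trans ?_)
  rw [Set.ncard_singleton]

include hX

/-- The exceptional configuration. -/
theorem exists_elevenCase (hp : p = 11) (hker : actE.ker ≠ ⊥) :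
    ∃ δ z w : X, ElevenCase p D actE actV δ z w := by
  classical
  obtain ⟨-, -, -, -, hy⟩ := S.three_facts f h
  obtain ⟨z, hz, hz1⟩ : ∃ z ∈ actE.ker, z ≠ 1 := by
    by_contra hno
    push Not at hno
    exact hker ((eq_bot_iff_forall _).2 hno)
  obtain ⟨w, hw1, hw, hinv⟩ := S.exists_invol_inverting f h hX hp
  haveI : Fact (Nat.Prime 5) := ⟨by norm_num⟩
  obtain ⟨v, hv, hv1⟩ : ∃ v : V, actV y v = v ∧ v ≠ 1 := by
    by_contra hno
    push Not at hno
    have h1 := h.twisted.card_facts.1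
    haveI : Subsingleton {v : V // actV y v = v} :=
      ⟨fun a c => Subtype.ext ((hno a a.2).trans (hno c c.2).symm)⟩
    have := Finite.card_le_one_iff_subsingleton.2 (inferInstance : Subsingleton {v : V // actV y v = v})
    have := S.prime.two_le
    omega
  exact ⟨y, z, w, ⟨hp, (mem_galoisPart.1 h.mem).1, hy, ⟨v, hv1, hv⟩, S.ker_le hz,
    orderOf_eq_prime (S.ker_pow_five f h hp hz) hz1, MonoidHom.mem_ker.1 hz,
    fun u => S.ker_free f h hz hz1, S.ker_central f h hz y, hw1, hw, hinv,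
    (S.ker_central f h hz w).symm, S.ncard_fixed_le f h hp hinv⟩⟩

omit f h hX

/-- **The quotient analysis**: a good character, or the configuration with `p = 11`. -/
theorem goodChar_or_eleven :
    (∃ θ a, GoodChar p D actE actV θ a) ∨ ∃ δ z w : X, ElevenCase p D actE actV δ z w := by
  rcases Nat.even_or_odd (Nat.card X) with hX | hX
  · obtain ⟨f⟩ := S.exists_frame hX
    obtain ⟨q, y, h⟩ := S.exists_shape_of_even hX f
    obtain rfl : q = 3 := S.q_eq_three hX f h
    obtain ⟨-, -, hp, -, -⟩ := S.three_facts f h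
    by_cases hcase : 23 ≤ p ∨ actE.ker = ⊥
    · exact Or.inl (S.goodChar_of_three hX f h hcase)
    · push Not at hcase
      exact Or.inr (S.exists_elevenCase f h hX (hp.resolve_right (by omega)) hcase.2)
  · exact Or.inl (S.goodChar_of_odd hX)

end Data

end CfsgLib.Bender.OddQuot
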