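import Cfsg.Agent.S3360
import Cfsg.Agent.S0205

/-!
# Groups of odd order transitive on an elementary two-group are semilinear

`Semilin act t`: a field structure on `E` in which `t` is one and every element acts semilinearly.
-/

set_option autoImplicit false
set_option linter.unusedSectionVars false
set_option linter.style.haveILetI false

namespace CfsgLib.Bender.OddQuot

open Subgroup

universe u v

variable {M : Type u} [Group M] {E : Type v} [CommGroup E]

/-- A semilinear structure on `E` with unit `t`. -/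
structure Semilin (act : M →* MulAut E) (t : E) where
  F : Type
  [field : Field F]
  [fin : Finite F]
  [alg : Algebra (ZMod 2) F]
  e : Additive E ≃+ F
  et : e (Additive.ofMul t) = 1
  mult : M → F
  gal : M →* (F ≃ₐ[ZMod 2] F)
  apply : ∀ (g : M) (v : E), e (Additive.ofMul (act g v)) = mult g * gal g (e (Additive.ofMul v))

attribute [instance] Semilin.field Semilin.fin Semilin.alg

/-- A group of odd order transitive on the non-identity elements of an elementary two-group acts
semilinearly. -/
theorem exists_semilin [Finite M] [Finite E] (hM : Odd (Nat.card M)) (hexp : ∀ v : E, v * v = 1)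
    (act : M →* MulAut E) {t : E} (ht : t ≠ 1)
    (htrans : ∀ v : E, v ≠ 1 → ∃ g : M, act g t = v) : Nonempty (Semilin act t) := by
  classical
  haveI : Fact (Nat.Prime 2) := ⟨Nat.prime_two⟩
  letI : Module (ZMod 2) (Additive E) := AddCommGroup.zmodModule fun v => by
    apply Additive.toMul.injective
    rw [toMul_nsmul, toMul_zero, pow_two]
    exact hexp _
  haveI : Nontrivial (Additive E) :=
    ⟨⟨Additive.ofMul t, 0, fun e => ht (congrArg Additive.toMul e)⟩⟩
  let ρ : act.range →* (Additive E ≃ₗ[ZMod 2] Additive E) :=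
    { toFun := fun g =>
        { toFun := fun v => Additive.ofMul ((g : MulAut E) v.toMul)
          map_add' := fun a c => by
            apply Additive.toMul.injective
            exact map_mul (g : MulAut E) a.toMul c.toMul
          map_smul' := ZMod.map_smul (F := Additive E →+ Additive E)
            (MonoidHom.toAdditive (g : MulAut E).toMonoidHom)
          invFun := fun v => Additive.ofMul ((g : MulAut E).symm v.toMul)
          left_inv := fun v => congrArg Additive.ofMul ((g : MulAut E).symm_apply_apply v.toMul)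
          right_inv := fun v => congrArg Additive.ofMul ((g : MulAut E).apply_symm_apply v.toMul) }
      map_one' := LinearEquiv.ext fun v => rfl
      map_mul' := fun g g' => LinearEquiv.ext fun v => rfl }
  have hρ : Function.Injective ρ := fun g g' e => Subtype.ext (MulEquiv.ext fun v =>
    congrArg Additive.toMul (DFunLike.congr_fun e (Additive.ofMul v)))
  have hsol : Group.IsSolvable act.range := Cfsg.Agent.S0205.result
    (hM.of_dvd_nat (Subgroup.card_range_dvd act))
  have htr : ∀ v w : Additive E, v ≠ 0 → w ≠ 0 → ∃ g : act.range, ρ g v = w := by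
    intro v w hv hw
    obtain ⟨g, hg⟩ := htrans v.toMul fun e => hv (Additive.toMul.injective e)
    obtain ⟨g', hg'⟩ := htrans w.toMul fun e => hw (Additive.toMul.injective e)
    refine ⟨⟨act (g' * g⁻¹), ⟨_, rfl⟩⟩, ?_⟩
    show Additive.ofMul (act (g' * g⁻¹) v.toMul) = w
    rw [← hg, map_mul, map_inv]
    exact congrArg Additive.ofMul ((congrArg (act g') ((act g).symm_apply_apply t)).trans hg')
  obtain ⟨F, hF, hFfin, e₀, hg⟩ | hbad := Cfsg.Agent.S3360.result 2 hsol ρ hρ htr
  swap
  · exfalso
    obtain ⟨k, hk⟩ : ∃ k, Nat.card (Additive E) = 2 ^ k :=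
      ⟨_, (Module.natCard_eq_pow_finrank (K := ZMod 2)).trans (by rw [Nat.card_zmod])⟩
    rw [hk] at hbad
    simp only [Set.mem_insert_iff, Set.mem_singleton_iff] at hbad
    rcases k with _ | k
    · simp at hbad
    · have h2 : 2 ∣ 2 ^ (k + 1) := dvd_pow_self 2 k.succ_ne_zero
      omega
  set c := e₀ (Additive.ofMul t) with hc
  have hc0 : c ≠ 0 := fun e => ht (by
    have h := e₀.injective (e.trans (map_zero e₀).symm)
    exact congrArg Additive.toMul h)
  have h2 : (2 : F) = 0 := by
    obtain ⟨v, hv⟩ := e₀.surjective 1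
    have h0 : v + v = 0 := Additive.toMul.injective (hexp v.toMul)
    calc (2 : F) = e₀ v + e₀ v := by rw [hv]; norm_num
      _ = 0 := by rw [← map_add, h0, map_zero]
  haveI : CharP F 2 := CharTwo.of_one_ne_zero_of_two_eq_zero one_ne_zero h2
  letI : Algebra (ZMod 2) F := ZMod.algebra F 2
  let e : Additive E ≃+ F := e₀.trans
    { toFun := fun x => x * c⁻¹
      invFun := fun x => x * c
      left_inv := fun x => by field_simp
      right_inv := fun x => by field_simp
      map_add' := fun x y => add_mul x y c⁻¹ }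
  have het : e (Additive.ofMul t) = 1 := mul_inv_cancel₀ hc0
  have hex : ∀ g : M, ∃ (a : F) (σ : F ≃ₐ[ZMod 2] F), ∀ v : E,
      e (Additive.ofMul (act g v)) = a * σ (e (Additive.ofMul v)) := by
    intro g
    obtain ⟨a, σ, h⟩ := hg ⟨act g, g, rfl⟩
    refine ⟨a * σ c * c⁻¹, AlgEquiv.ofRingEquiv (f := σ)
      (RingHom.congr_fun (Subsingleton.elim (σ.toRingHom.comp (algebraMap (ZMod 2) F)) _)), fun v => ?_⟩
    show e₀ (Additive.ofMul (act g v)) * c⁻¹ = a * σ c * c⁻¹ * σ (e₀ (Additive.ofMul v) * c⁻¹)
    have h1 : e₀ (Additive.ofMul (act g v)) = a * σ (e₀ (Additive.ofMul v)) := h (Additive.ofMul v)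
    have hσc : σ c ≠ 0 := by simpa using hc0
    rw [h1, map_mul, map_inv₀]
    field_simp
  choose mult gal hgal using hex
  have huniq : ∀ (a a' : F) (σ σ' : F ≃ₐ[ZMod 2] F), a ≠ 0 →
      (∀ x, a * σ x = a' * σ' x) → σ = σ' := by
    intro a a' σ σ' ha h
    have h1 : a = a' := by simpa using h 1
    exact AlgEquiv.ext fun x => mul_left_cancel₀ ha ((h x).trans (by rw [h1]))
  have hmult : ∀ g, mult g ≠ 0 := fun g e' => by
    have h := hgal g t
    rw [e', zero_mul] at h
    exact ht ((act g).injective ((congrArg Additive.toMul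
      (e.injective (h.trans (map_zero e).symm))).trans (map_one (act g)).symm))
  refine ⟨⟨F, e, het, mult, ⟨⟨gal, ?_⟩, ?_⟩, fun g v => hgal g v⟩⟩
  · refine (huniq 1 (mult 1) 1 (gal 1) one_ne_zero fun x => ?_).symm
    obtain ⟨v, rfl⟩ := e.surjective x
    have h := hgal 1 v.toMul
    rw [map_one] at h
    rw [one_mul]
    exact h
  · intro g g'
    refine huniq _ (mult g * gal g (mult g')) _ _ (hmult (g * g')) fun x => ?_
    obtain ⟨v, rfl⟩ := e.surjective x
    have h := hgal (g * g') v.toMul
    rw [map_mul, MulAut.mul_apply, hgal, hgal, map_mul] at h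
    rw [AlgEquiv.mul_apply, mul_assoc]
    exact h.symm

namespace Semilin

variable {act : M →* MulAut E} {t : E} (S : Semilin act t)

theorem e_eq_zero {v : E} : S.e (Additive.ofMul v) = 0 ↔ v = 1 :=
  ⟨fun h => congrArg Additive.toMul (S.e.injective (h.trans (map_zero S.e).symm)),
    fun h => by rw [h]; exact map_zero S.e⟩

theorem mult_eq (g : M) : S.mult g = S.e (Additive.ofMul (act g t)) := by
  rw [S.apply, S.et, map_one, mul_one]

theorem mult_ne_zero (ht : t ≠ 1) (g : M) : S.mult g ≠ 0 := by
  rw [S.mult_eq]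
  exact fun h => ht ((act g).injective ((S.e_eq_zero.1 h).trans (map_one _).symm))

theorem fixes_iff {g : M} (hg : act g t = t) (v : E) :
    act g v = v ↔ S.gal g (S.e (Additive.ofMul v)) = S.e (Additive.ofMul v) := by
  have h := S.apply g v
  rw [S.mult_eq, hg, S.et, one_mul] at h
  rw [← h]
  exact ⟨fun e => by rw [e], fun e => congrArg Additive.toMul (S.e.injective e)⟩

theorem act_eq_one {g : M} (hg : act g t = t) (h : S.gal g = 1) : act g = 1 :=
  MulEquiv.ext fun v => (S.fixes_iff hg v).2 (by rw [h]; rfl)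

/-- An element acting with trivial power of the order of its field automorphism fixes something. -/
theorem exists_fixed (ht : t ≠ 1) [Finite E] (g : M)
    (hg : act (g ^ orderOf (S.gal g)) = 1) : ∃ v : E, v ≠ 1 ∧ act g v = v := by
  classical
  set n := orderOf (S.gal g) with hn
  have hn0 : 0 < n := orderOf_pos _
  have hpow : ∀ i : ℕ, ∃ c : S.F, c ≠ 0 ∧ ∀ v : E,
      S.e (Additive.ofMul (act (g ^ i) v)) = c * (S.gal g ^ i) (S.e (Additive.ofMul v)) := fun i =>
    ⟨S.mult (g ^ i), S.mult_ne_zero ht _, fun v => by rw [S.apply, map_pow]⟩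
  choose c hc hcv using hpow
  obtain ⟨x, hx⟩ : ∃ x : S.F, ∑ i : Fin n, c i * (S.gal g ^ (i : ℕ)) x ≠ 0 := by
    by_contra h
    push Not at h
    have hli := linearIndependent_monoidHom S.F S.F
    have hinj : Function.Injective fun i : Fin n =>
        ((S.gal g ^ (i : ℕ) : S.F ≃ₐ[ZMod 2] S.F) : S.F →* S.F) := fun i j h' => Fin.ext
      (pow_injOn_Iio_orderOf (x := S.gal g) i.2 j.2 (AlgEquiv.ext fun y =>
        DFunLike.congr_fun h' y))
    have := (Fintype.linearIndependent_iff.1 (hli.comp _ hinj)) (fun i => c i)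
      (funext fun y => by simpa using h y) ⟨0, hn0⟩
    exact hc _ this
  obtain ⟨v, hv⟩ := S.e.surjective x
  refine ⟨∏ i : Fin n, act (g ^ (i : ℕ)) v.toMul, fun h => hx ?_, ?_⟩
  · rw [← S.e_eq_zero] at h
    rw [← h, ofMul_prod, map_sum]
    exact Finset.sum_congr rfl fun i _ => by rw [hcv, ← hv, ofMul_toMul]
  · rw [map_prod]
    have hstep : ∀ i : ℕ, act g (act (g ^ i) v.toMul) = act (g ^ (i + 1)) v.toMul := fun i => by
      rw [pow_succ' g i, map_mul act g]
      rfl
    simp only [hstep]
    rw [Fin.prod_univ_eq_prod_range (fun i => act (g ^ (i + 1)) v.toMul) n,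
      Fin.prod_univ_eq_prod_range (fun i => act (g ^ i) v.toMul) n]
    obtain ⟨k, hk⟩ : ∃ k, n = k + 1 := ⟨n - 1, by omega⟩
    rw [hk, Finset.prod_range_succ, Finset.prod_range_succ' (fun i => act (g ^ i) v.toMul) k,
      pow_zero, map_one act, ← hk, hg]

include S in
/-- A subgroup of order prime to the number of non-identity elements fixes one of them. -/
theorem exists_fixed_of_coprime (ht : t ≠ 1) [Finite E] (B : Subgroup M)
    (hB : (Nat.card B).Coprime (Nat.card E - 1)) : ∃ v : E, v ≠ 1 ∧ ∀ β ∈ B, act β v = v := by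
  classical
  letI := Fintype.ofFinite S.F
  have hker : ∀ β ∈ B, S.gal β = 1 → act β = 1 := by
    intro β hβ hgal
    have hpow : ∀ k : ℕ, ∀ v : E,
        S.e (Additive.ofMul (act (β ^ k) v)) = S.mult β ^ k * S.e (Additive.ofMul v) := by
      intro k
      induction k with
      | zero => intro v; rw [pow_zero, pow_zero, map_one act, one_mul]; rfl
      | succ k ih =>
        intro v
        rw [pow_succ' β k, map_mul act, MulAut.mul_apply, S.apply, hgal, AlgEquiv.one_apply, ih,
          pow_succ', mul_assoc]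
    have h1 : S.mult β ^ Nat.card B = 1 := by
      have h := hpow (Nat.card B) t
      rw [show β ^ Nat.card B = 1 from congrArg Subtype.val (pow_card_eq_one' (x := (⟨β, hβ⟩ : B))),
        map_one act, MulAut.one_apply, S.et, mul_one] at h
      exact h.symm
    have h2 : S.mult β ^ (Nat.card E - 1) = 1 := by
      rw [show Nat.card E = Fintype.card S.F by
        rw [← Nat.card_eq_fintype_card]
        exact Nat.card_congr (Additive.ofMul.trans S.e.toEquiv)]
      exact FiniteField.pow_card_sub_one_eq_one _ (S.mult_ne_zero ht β)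
    have h3 : S.mult β = 1 := by
      have := pow_gcd_eq_one.2 ⟨h1, h2⟩
      rwa [hB.gcd_eq_one, pow_one] at this
    refine S.act_eq_one ?_ hgal
    refine congrArg Additive.toMul (S.e.injective (a₁ := Additive.ofMul (act β t))
      (a₂ := Additive.ofMul t) ?_)
    rw [← S.mult_eq, h3, S.et]
  obtain ⟨⟨σ, hσ⟩, hgen⟩ := IsCyclic.exists_generator (α := B.map S.gal)
  obtain ⟨g, hg, rfl⟩ := hσ
  have hmod : ∀ β ∈ B, ∃ i : ℤ, act β = act (g ^ i) := by
    intro β hβ
    obtain ⟨i, hi⟩ := mem_zpowers_iff.1 (hgen ⟨S.gal β, β, hβ, rfl⟩)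
    have hi' : S.gal g ^ i = S.gal β := congrArg Subtype.val hi
    refine ⟨i, ?_⟩
    have := hker ((g ^ i)⁻¹ * β) (mul_mem (inv_mem (zpow_mem hg i)) hβ)
      (by rw [map_mul, map_inv, map_zpow, hi', inv_mul_cancel])
    rwa [map_mul, map_inv, inv_mul_eq_one, eq_comm] at this
  obtain ⟨v, hv1, hv⟩ := S.exists_fixed ht g (hker _ (pow_mem hg _)
    (by rw [map_pow, pow_orderOf_eq_one]))
  refine ⟨v, hv1, fun β hβ => ?_⟩
  obtain ⟨i, hi⟩ := hmod β hβ
  rw [hi, map_zpow]
  exact zpow_mem (show act g ∈ MulAction.stabilizer (MulAut E) v from hv) i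

/-- The number of elements fixed by a subgroup fixing `t`. -/
theorem card_fixed (B : Subgroup M) (hB : ∀ β ∈ B, act β t = t) :
    ∃ j : ℕ, Nat.card {v : E // ∀ β ∈ B, act β v = v} = 2 ^ j ∧
      j * Nat.card (B.map S.gal) = Module.finrank (ZMod 2) S.F := by
  classical
  haveI : Fact (Nat.Prime 2) := ⟨Nat.prime_two⟩
  haveI : FiniteDimensional (ZMod 2) S.F := Module.Finite.of_finite
  set L := IntermediateField.fixedField (B.map S.gal) with hL
  refine ⟨Module.finrank (ZMod 2) L, ?_, ?_⟩
  · have h : Nat.card L = 2 ^ Module.finrank (ZMod 2) L := by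
      rw [Module.natCard_eq_pow_finrank (K := ZMod 2), Nat.card_zmod]
    rw [← h]
    refine Nat.card_congr ((Additive.ofMul.trans S.e.toEquiv).subtypeEquiv fun v => ?_)
    show _ ↔ _ ∈ L
    rw [hL, IntermediateField.mem_fixedField_iff]
    constructor
    · rintro h _ ⟨β, hβ, rfl⟩
      exact (S.fixes_iff (hB β hβ) v).1 (h β hβ)
    · exact fun h β hβ => (S.fixes_iff (hB β hβ) v).2 (h _ ⟨β, hβ, rfl⟩)
  · rw [← IntermediateField.finrank_fixedField_eq_card (B.map S.gal)]
    exact Module.finrank_mul_finrank (ZMod 2) L S.F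

theorem card_eq : Nat.card E = 2 ^ Module.finrank (ZMod 2) S.F := by
  rw [Nat.card_congr (Additive.ofMul.trans S.e.toEquiv), Module.natCard_eq_pow_finrank (K := ZMod 2),
    Nat.card_zmod]

end Semilin

end CfsgLib.Bender.OddQuot
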