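import Cfsg.Agent.Lib.Char.FrobeniusFormula
import Cfsg.Agent.Lib.CFun.OddFpfCentralize
import Mathlib.GroupTheory.SemidirectProduct

/-!
# Coprime actions on an abelian group, read in the semidirect product
-/

set_option autoImplicit false
set_option linter.style.haveILetI false
set_option linter.unusedSectionVars false

namespace CfsgLib.Bender.OddQuot

open Subgroup
open scoped commutatorElement

universe u

variable {X V : Type u} [Group X] [Finite X] [CommGroup V] [Finite V] (act : X →* MulAut V)

/-- The elements of `V` fixed by every element of `S`. -/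
def fixPts (S : Set X) : Subgroup V where
  carrier := {v | ∀ g ∈ S, act g v = v}
  one_mem' := fun g _ => map_one (act g)
  mul_mem' := fun {v w} hv hw g hg => by rw [map_mul (act g), hv g hg, hw g hg]
  inv_mem' := fun {v} hv g hg => by rw [map_inv (act g), hv g hg]

theorem mem_fixPts {S : Set X} {v : V} : v ∈ fixPts act S ↔ ∀ g ∈ S, act g v = v := Iff.rfl

local notation "Γ" => V ⋊[act] X

instance : Finite Γ := Finite.of_equiv (V × X)
  { toFun := fun z => ⟨z.1, z.2⟩, invFun := fun z => (z.1, z.2), left_inv := fun _ => rfl,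
    right_inv := fun _ => rfl }

theorem commute_inl_inr_iff {g : X} {v : V} :
    SemidirectProduct.inr g * SemidirectProduct.inl v =
      (SemidirectProduct.inl v * SemidirectProduct.inr g : Γ) ↔ act g v = v := by
  constructor
  · intro h
    simpa using congrArg SemidirectProduct.left h
  · intro h
    ext <;> simp [h]

theorem card_inf_centralizer_range (S : Subgroup X) :
    Nat.card ↥((SemidirectProduct.inl : V →* Γ).range ⊓
        Subgroup.centralizer ((S.map (SemidirectProduct.inr : X →* Γ) : Subgroup Γ) : Set Γ)) =
      Nat.card (fixPts act (S : Set X)) := by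
  have h : (SemidirectProduct.inl : V →* Γ).range ⊓
      Subgroup.centralizer ((S.map (SemidirectProduct.inr : X →* Γ) : Subgroup Γ) : Set Γ) =
        (fixPts act (S : Set X)).map (SemidirectProduct.inl : V →* Γ) := by
    ext z
    constructor
    · rintro ⟨⟨v, rfl⟩, hz⟩
      exact ⟨v, fun g hg => (commute_inl_inr_iff act).1
        (mem_centralizer_iff.1 hz _ ⟨g, hg, rfl⟩), rfl⟩
    · rintro ⟨v, hv, rfl⟩
      refine ⟨⟨v, rfl⟩, mem_centralizer_iff.2 ?_⟩
      rintro _ ⟨g, hg, rfl⟩
      exact (commute_inl_inr_iff act).2 (hv g hg)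
  rw [h, card_map_of_injective SemidirectProduct.inl_injective]

/-- Wielandt's formula for a Frobenius group of operators. -/
theorem card_fixPts_frobenius (U E : Subgroup X) (hUE : U ⊓ E = ⊥)
    (hUn : ∀ e ∈ E, ∀ u ∈ U, e * u * e⁻¹ ∈ U)
    (hfpf : ∀ e ∈ E, e ≠ 1 → ∀ u ∈ U, e * u = u * e → u = 1)
    (hcop : (Nat.card V).Coprime (Nat.card ↥(U ⊔ E))) :
    Nat.card (fixPts act ((U ⊔ E : Subgroup X) : Set X)) ^ Nat.card E * Nat.card V =
      Nat.card (fixPts act (E : Set X)) ^ Nat.card E * Nat.card (fixPts act (U : Set X)) := by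
  let i : X →* Γ := SemidirectProduct.inr
  have hi : Function.Injective i := SemidirectProduct.inr_injective
  set W := (SemidirectProduct.inl : V →* Γ).range
  have hcV : Nat.card W = Nat.card V :=
    Nat.card_congr (MonoidHom.ofInjective SemidirectProduct.inl_injective).symm.toEquiv
  haveI : IsMulCommutative W := ⟨⟨fun a c => by
    obtain ⟨_, v, rfl⟩ := a
    obtain ⟨_, w, rfl⟩ := c
    exact Subtype.ext (by simp only [Subgroup.coe_mul, ← map_mul, mul_comm v w])⟩⟩
  have h := CfsgLib.Char.frobenius_fixed_formula (U.map i) (E.map i) W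
    (by rw [← Subgroup.map_inf _ _ _ hi, hUE, Subgroup.map_bot])
    (by
      rintro _ ⟨e, he, rfl⟩ _ ⟨u, hu, rfl⟩
      exact ⟨_, hUn e he u hu, by simp [i]⟩)
    (by
      rintro _ ⟨e, he, rfl⟩ he1 _ ⟨u, hu, rfl⟩ hc
      rw [hfpf e he (fun h' => he1 (by rw [h', map_one])) u hu
        (hi (by rw [map_mul, map_mul]; exact hc)), map_one])
    (by
      intro z hz w hw
      have hn : W.Normal := by
        rw [show W = (SemidirectProduct.rightHom : Γ →* X).ker from
          SemidirectProduct.range_inl_eq_ker_rightHom]
        infer_instance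
      exact hn.conj_mem w hw z)
    (CfsgLib.Coprime.isSolvable_of_isMulCommutative inferInstance)
    (by rw [hcV, ← Subgroup.map_sup, card_map_of_injective hi]; exact hcop)
  rw [← Subgroup.map_sup, card_inf_centralizer_range, card_inf_centralizer_range,
    card_inf_centralizer_range, hcV, card_map_of_injective hi] at h
  exact h

/-- An odd coprime group normalized by an element of prime order without fixed points: the commutators
with the element act trivially. -/
theorem act_commutator_eq_one {l r : ℕ} [Fact l.Prime] (hV : IsPGroup l V) (hr : r.Prime)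
    (hrl : r ≠ l) {a : X} (har : a ^ r = 1) {K : Subgroup X} (haK : a ∈ normalizer (K : Set X))
    (hodd : Odd (Nat.card K)) (hrK : ¬ r ∣ Nat.card K) (hlK : ¬ l ∣ Nat.card K)
    (hfix : ∀ v : V, act a v = v → v = 1) {k : X} (hk : k ∈ K) : act ⁅k, a⁆ = 1 := by
  let i : X →* Γ := SemidirectProduct.inr
  have hi : Function.Injective i := SemidirectProduct.inr_injective
  set W := (SemidirectProduct.inl : V →* Γ).range
  have hN : normalizer (W : Set Γ) = ⊤ := by
    haveI : W.Normal := by
      rw [show W = (SemidirectProduct.rightHom : Γ →* X).ker from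
        SemidirectProduct.range_inl_eq_ker_rightHom]
      infer_instance
    exact Subgroup.normalizer_eq_top _
  have h := CfsgLib.CFun.FpfComm.commutator_le_centralizer (V := W) (K := K.map i)
    (hV.of_surjective (SemidirectProduct.inl : V →* Γ).rangeRestrict
      (MonoidHom.rangeRestrict_surjective _)) hr hrl (a := i a)
    (by rw [← map_pow, har, map_one]) (by rw [hN]; trivial)
    (Subgroup.le_normalizer_map i ⟨a, haK, rfl⟩) (by rw [hN]; exact le_top)
    (by rwa [card_map_of_injective hi]) (by rwa [card_map_of_injective hi])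
    (by rwa [card_map_of_injective hi])
    (by
      rintro _ ⟨v, rfl⟩ hv
      rw [hfix v ((commute_inl_inr_iff act).1 hv), map_one])
    (commutator_mem_commutator (mem_map_of_mem i hk) (mem_zpowers (i a)))
  rw [← map_commutatorElement] at h
  exact MulEquiv.ext fun v =>
    (commute_inl_inr_iff act).1 ((mem_centralizer_iff.1 h (SemidirectProduct.inl v) ⟨v, rfl⟩).symm)

end CfsgLib.Bender.OddQuot
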