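import Cfsg.Agent.Lib.Bender.OddQuot.Field
import Cfsg.Agent.Lib.Bender.OddQuot.Module
import Cfsg.Agent.Lib.Bender.Good

/-!
# The quotient of a point stabilizer by the semiregular group, abstractly

`Data p D actE actV t`: `X` acts on the group `E` of involutions and faithfully on the elementary
`p`-group `V`; `D` is of odd order and transitive on `E`.
-/

set_option autoImplicit false
set_option linter.style.haveILetI false
set_option linter.unusedSectionVars false

namespace CfsgLib.Bender.OddQuot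

open Subgroup
open CfsgLib.Coprime (IsSylowIn)

universe u

variable {X E V : Type u} [Group X] [CommGroup E] [CommGroup V]

/-- Two different non-identity elements of `E` are fixed by all elements of `P`. -/
def FixesFour (actE : X →* MulAut E) (P : Subgroup X) : Prop :=
  ∃ e f : E, e ≠ 1 ∧ f ≠ 1 ∧ e ≠ f ∧ ∀ g ∈ P, actE g e = e ∧ actE g f = f

/-- The hypotheses on `X`. -/
structure Data (p : ℕ) (D : Subgroup X) (actE : X →* MulAut E) (actV : X →* MulAut V) (t : E) :
    Prop where
  prime : p.Prime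
  ne_two : p ≠ 2
  expE : ∀ e : E, e * e = 1
  card_four : 4 ≤ Nat.card E
  t_ne : t ≠ 1
  expV : ∀ v : V, v ^ p = 1
  ntV : Nontrivial V
  faithful : Function.Injective actV
  irred : ∀ W : Subgroup V, (∀ g : X, ∀ w ∈ W, actV g w ∈ W) → W = ⊥ ∨ W = ⊤
  oddD : Odd (Nat.card D)
  trans : ∀ e : E, e ≠ 1 → ∃ d ∈ D, actE d t = e
  sylow : ∀ (s : ℕ) (R : Subgroup X), s.Prime → s ∣ Nat.card E - 1 → IsSylowIn s R D →
    IsSylowIn s R ⊤ ∧ IsCyclic R
  freeE : ∀ g ∈ D, (orderOf g).Prime → orderOf g ∣ Nat.card E - 1 →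
    ∀ e : E, actE g e = e → e = 1
  freeV : ∀ g ∈ D, (orderOf g).Prime → orderOf g ∣ Nat.card E - 1 →
    ∀ v : V, actV g v = v → v = 1
  normalizer_le : ∀ g ∈ D, (orderOf g).Prime → orderOf g ∣ Nat.card E - 1 →
    normalizer (zpowers g : Set X) ≤ D
  four_free : ∀ d ∈ D, d ≠ 1 → ∀ e f : E, e ≠ 1 → f ≠ 1 → e ≠ f → actE d e = e → actE d f = f →
    ∀ v : V, actV d v = v → v = 1
  line : ∀ d ∈ D, (orderOf d).Prime → Nat.card {v : V // actV d v = v} ≤ p
  fix_trans : ∀ P : Subgroup X, P ≤ D → FixesFour actE P →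
    ∀ g : X, (∀ d ∈ P, g⁻¹ * d * g ∈ D) → ∃ c ∈ centralizer (P : Set X), c⁻¹ * g ∈ D
  kernel : ∀ P : Subgroup X, P ≤ D → P ≠ ⊥ → FixesFour actE P →
    ∀ K : Subgroup X, K ≤ centralizer (P : Set X) → Odd (Nat.card K) →
      centralizer (P : Set X) ≤ normalizer (K : Set X) →
      (∀ k ∈ K, ∀ e : E, (∀ d ∈ P, actE d e = e) → actE k e = e) → K ≤ D

namespace Data

variable [Finite X] [Finite E] [Finite V] {p : ℕ} {D : Subgroup X} {actE : X →* MulAut E}
  {actV : X →* MulAut V} {t : E} (S : Data p D actE actV t)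
include S

theorem fact_prime : Fact p.Prime := ⟨S.prime⟩

theorem isPGroup : IsPGroup p V := fun v => ⟨1, by rw [pow_one]; exact S.expV v⟩

theorem dvd_cardV : p ∣ Nat.card V := by
  haveI := S.fact_prime
  haveI := S.ntV
  obtain ⟨k, hk⟩ := IsPGroup.iff_card.1 S.isPGroup
  rcases k with _ | k
  · exact absurd (hk.trans (pow_zero p)) (Finite.one_lt_card (α := V)).ne'
  · exact hk ▸ dvd_pow_self p k.succ_ne_zero

theorem coprime_card {s : ℕ} (hs : s.Prime) (hsp : s ≠ p) : (Nat.card V).Coprime s := by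
  haveI := S.fact_prime
  obtain ⟨k, hk⟩ := IsPGroup.iff_card.1 S.isPGroup
  rw [hk]
  exact ((Nat.coprime_primes S.prime hs).2 (Ne.symm hsp)).pow_left k

theorem two_lt_prime_of_dvd {s : ℕ} (hs : s.Prime) (h : s ∣ Nat.card E - 1) : s ≠ 2 := by
  rintro rfl
  obtain ⟨k, hk⟩ : ∃ k, Nat.card E = 2 ^ k := by
    haveI : Fact (Nat.Prime 2) := ⟨Nat.prime_two⟩
    exact IsPGroup.iff_card.1 (show IsPGroup 2 E from fun e =>
      ⟨1, by rw [pow_one, pow_two]; exact S.expE e⟩)
  have h4 := S.card_four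
  rw [hk] at h h4
  rcases k with _ | k
  · simp at h4
  · have h2 : 2 ∣ 2 ^ (k + 1) := dvd_pow_self 2 k.succ_ne_zero
    omega

/-- A non-trivial element of `D` of prime order dividing `|E| - 1` exists. -/
theorem exists_free {s : ℕ} (hs : s.Prime) (h : s ∣ Nat.card E - 1) :
    ∃ f ∈ D, orderOf f = s := by
  haveI := Fact.mk hs
  haveI : Fintype E := Fintype.ofFinite E
  have hD : s ∣ Nat.card D := by
    refine h.trans ?_
    let φ : D →* MulAut E := actE.comp D.subtype
    letI : MulAction D E := MulAction.compHom E φ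
    have horb : MulAction.orbit D t = {e : E | e ≠ 1} := by
      ext e
      refine ⟨?_, fun he => ?_⟩
      · rintro ⟨d, rfl⟩ h'
        exact S.t_ne ((actE (d : X)).injective (h'.trans (map_one _).symm))
      · obtain ⟨d, hd, hde⟩ := S.trans e he
        exact ⟨⟨d, hd⟩, hde⟩
    have hc := MulAction.index_stabilizer D t
    rw [horb, show ({e : E | e ≠ 1} : Set E) = {1}ᶜ from rfl, Set.ncard_compl,
      Set.ncard_singleton] at hc
    exact hc ▸ Subgroup.index_dvd_card _
  obtain ⟨f, hf⟩ := exists_prime_orderOf_dvd_card' (G := D) s hD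
  exact ⟨f, f.2, by rw [Subgroup.orderOf_coe]; exact hf⟩

theorem exists_prime_dvd : ∃ s : ℕ, s.Prime ∧ s ∣ Nat.card E - 1 := by
  have := S.card_four
  exact Nat.exists_prime_and_dvd (by omega)

theorem not_dvd_p : ¬ p ∣ Nat.card E - 1 := fun h => by
  haveI := S.fact_prime
  obtain ⟨f, hf, hfo⟩ := S.exists_free S.prime h
  have hp : IsPGroup p (zpowers f) := IsPGroup.of_card (n := 1) (by
    rw [Nat.card_zpowers, hfo, pow_one])
  letI : MulAction (zpowers f) V := MulAction.compHom V (actV.comp (zpowers f).subtype)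
  obtain ⟨v, hv, hv1⟩ := hp.exists_fixed_point_of_prime_dvd_card_of_fixed_point V S.dvd_cardV
    (a := (1 : V)) fun g => map_one (actV (g : X))
  exact hv1 (S.freeV f hf (hfo ▸ S.prime) (hfo ▸ h) v (hv ⟨f, mem_zpowers f⟩)).symm

theorem centralizer_le {g : X} (hg : g ∈ D) (hgp : (orderOf g).Prime)
    (hgm : orderOf g ∣ Nat.card E - 1) : centralizer ({g} : Set X) ≤ D :=
  fun k hk => S.normalizer_le g hg hgp hgm (by
    rw [← CfsgLib.Coprime.conjBy_eq_self_iff, CfsgLib.Coprime.conjBy, MonoidHom.map_zpowers]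
    show zpowers (k * g * k⁻¹) = _
    rw [mem_centralizer_singleton_iff.1 hk, mul_inv_cancel_right])

/-- An element of `D` fixing a non-identity element of `E` has order prime to `|E| - 1`. -/
theorem coprime_of_fix {d : X} (hd : d ∈ D) {e : E} (he : e ≠ 1) (hde : actE d e = e) :
    (orderOf d).Coprime (Nat.card E - 1) := by
  refine Nat.coprime_of_dvd fun s hs hsd hsm => he ?_
  have ho : orderOf (d ^ (orderOf d / s)) = s := orderOf_pow_orderOf_div (orderOf_pos d).ne' hsd
  refine S.freeE _ (pow_mem hd _) (ho.symm ▸ hs) (ho.symm ▸ hsm) e ?_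
  rw [map_pow]
  exact (show actE d ∈ MulAction.stabilizer (MulAut E) e from hde) |> fun h => pow_mem h _

/-- A `2`-subgroup normalized by an element of `D` of prime order dividing `|E| - 1` is trivial. -/
theorem two_group_eq_bot {f : X} (hf : f ∈ D) (hfp : (orderOf f).Prime)
    (hfm : orderOf f ∣ Nat.card E - 1) {P : Subgroup X} (hP : IsPGroup 2 P)
    (hfP : f ∈ normalizer (P : Set X)) : P = ⊥ := by
  classical
  haveI : Fact (Nat.Prime 2) := ⟨Nat.prime_two⟩
  haveI := Fact.mk hfp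
  obtain ⟨k, hk⟩ := IsPGroup.iff_card.1 hP
  have hfix1 : ∀ u ∈ P, f * u = u * f → u = 1 := fun u hu hc => by
    have huD : u ∈ D := S.centralizer_le hf hfp hfm (mem_centralizer_singleton_iff.2 hc.symm)
    obtain ⟨j, hj⟩ := IsPGroup.iff_orderOf.1 hP ⟨u, hu⟩
    rw [← Subgroup.orderOf_coe] at hj
    rcases j with _ | j
    · exact orderOf_eq_one_iff.1 hj
    · exact absurd (even_iff_two_dvd.2 (hj ▸ dvd_pow_self 2 j.succ_ne_zero))
        (Nat.not_even_iff_odd.2 (S.oddD.of_dvd_nat (Subgroup.orderOf_dvd_natCard _ huD)))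
  have hfpf : ∀ e ∈ zpowers f, e ≠ 1 → ∀ u ∈ P, e * u = u * e → u = 1 := by
    intro e he he1 u hu hc
    have heq : zpowers e = zpowers f := eq_of_le_of_card_ge (zpowers_le.2 he) (by
      rw [Nat.card_zpowers, Nat.card_zpowers]
      rcases (Nat.dvd_prime hfp).1 (orderOf_dvd_of_mem_zpowers he) with h | h
      · exact absurd (orderOf_eq_one_iff.1 h) he1
      · exact h.ge)
    obtain ⟨i, rfl⟩ := mem_zpowers_iff.1 (heq ▸ mem_zpowers f : f ∈ zpowers e)
    exact hfix1 u hu ((show Commute e u from hc).zpow_left i).eq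
  have hinf : P ⊓ zpowers f = ⊥ := by
    refine inf_eq_bot_of_coprime ?_
    rw [hk, Nat.card_zpowers]
    exact ((Nat.coprime_primes Nat.prime_two hfp).2 (S.two_lt_prime_of_dvd hfp hfm).symm).pow_left k
  have hnorm : zpowers f ≤ normalizer (P : Set X) := zpowers_le.2 hfP
  have hcop : (Nat.card V).Coprime (Nat.card ↥(P ⊔ zpowers f)) := by
    have hdvd : Nat.card ↥(P ⊔ zpowers f) ∣ Nat.card (zpowers f) * Nat.card P := by
      rw [sup_comm]
      exact CfsgLib.Coprime.card_sup_dvd_of_le_normalizer hnorm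
    refine Nat.Coprime.coprime_dvd_right hdvd (Nat.Coprime.mul_right ?_ ?_)
    · rw [Nat.card_zpowers]
      exact S.coprime_card hfp fun e => S.not_dvd_p (e ▸ hfm)
    · rw [hk]
      exact (S.coprime_card Nat.prime_two S.ne_two.symm).pow_right k
  have h := card_fixPts_frobenius actV P (zpowers f) hinf
    (fun e he u hu => (mem_normalizer_iff.1 (hnorm he) u).1 hu) hfpf hcop
  have h1 : ∀ T : Subgroup X, zpowers f ≤ T → Nat.card (fixPts actV (T : Set X)) = 1 := fun T hT =>
    card_eq_one.2 ((eq_bot_iff_forall _).2 fun v hv =>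
      S.freeV f hf hfp hfm v (hv f (hT (mem_zpowers f))))
  rw [h1 _ le_sup_right, h1 _ le_rfl, one_pow, one_mul, one_mul] at h
  refine (eq_bot_iff_forall _).2 fun g hg => S.faithful ?_
  rw [map_one]
  refine MulEquiv.ext fun v => ?_
  have htop : fixPts actV (P : Set X) = ⊤ := eq_top_of_card_eq _ h.symm
  exact (show v ∈ fixPts actV (P : Set X) by rw [htop]; exact mem_top v) g hg

end Data

end CfsgLib.Bender.OddQuot
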