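import Cfsg.Agent.Lib.Bender.OddQuot.Move

/-!
# The centralizer of a Galois subgroup of prime index is even

Descent along subgroups `B` of the Galois part.
-/

set_option autoImplicit false
set_option linter.style.haveILetI false
set_option linter.unusedSectionVars false

namespace CfsgLib.Bender.OddQuot

open Subgroup
open CfsgLib.Coprime (IsSylowIn)

universe u

/-- In a cyclic group, if `x ^ l ∈ H` and `x ∉ H` then `|H|` divides `|G| / l`. -/
theorem card_dvd_div_of_pow_mem {G : Type*} [Group G] [Finite G] {H : Subgroup G} {x : G} {l : ℕ}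
    (hl : l.Prime) (hx : x ∉ H) (hxl : x ^ l ∈ H) [H.Normal] :
    l ∣ Nat.card G ∧ Nat.card H ∣ Nat.card G / l := by
  have ho : orderOf (QuotientGroup.mk' H x) = l := by
    refine orderOf_eq_prime (hp := ⟨hl⟩) ?_ ?_
    · rw [← map_pow]; exact (QuotientGroup.eq_one_iff _).2 hxl
    · exact fun h => hx ((QuotientGroup.eq_one_iff _).1 h)
  have h1 : l ∣ Nat.card (G ⧸ H) := ho ▸ orderOf_dvd_natCard _
  obtain ⟨c, hc⟩ := h1
  rw [Subgroup.card_eq_card_quotient_mul_card_subgroup H, hc, mul_assoc,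
    Nat.mul_div_cancel_left _ hl.pos]
  exact ⟨Dvd.intro _ rfl, Dvd.intro_left _ rfl⟩

variable {X E V : Type u} [Group X] [CommGroup E] [CommGroup V] [Finite X] [Finite E] [Finite V]
  {p : ℕ} {D : Subgroup X} {actE : X →* MulAut E} {actV : X →* MulAut V} {t : E}

/-- The part of the Galois part centralizing the scalars of degree `d`. -/
noncomputable def Frame.galFix (f : Frame D actE t) (d : ℕ) : Subgroup X :=
  galoisPart D actE t ⊓ centralizer ({f.sub d} : Set X)

theorem Frame.mem_galFix {f : Frame D actE t} {d : ℕ} {g : X} :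
    g ∈ f.galFix d ↔ g ∈ galoisPart D actE t ∧ Commute g (f.sub d) := by
  rw [Frame.galFix, mem_inf, mem_centralizer_singleton_iff]
  rfl

theorem Frame.card_gal (f : Frame D actE t) :
    Nat.card (f.L.F ≃ₐ[ZMod 2] f.L.F) = f.k := by
  haveI : Fact (Nat.Prime 2) := ⟨Nat.prime_two⟩
  haveI : FiniteDimensional (ZMod 2) f.L.F := Module.Finite.of_finite
  exact IsGalois.card_aut_eq_finrank (ZMod 2) f.L.F

namespace Data

variable (S : Data p D actE actV t)
include S

theorem two_le_k (f : Frame D actE t) : 2 ≤ f.k := by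
  have h := S.card_four
  rw [f.card_eq, show (4 : ℕ) = 2 ^ 2 from rfl] at h
  exact (Nat.pow_le_pow_iff_right one_lt_two).1 h

/-- A free element inside the scalars of degree `d`. -/
theorem exists_free_sub (f : Frame D actE t) {d : ℕ} (hd : d ∣ f.k) (hd2 : 2 ≤ d) :
    ∃ (g : X) (j : ℕ), g = f.sub d ^ j ∧ g ∈ D ∧ (orderOf g).Prime ∧
      orderOf g ∣ Nat.card E - 1 ∧ orderOf g ∣ 2 ^ d - 1 := by
  have h4 : (4 : ℕ) ≤ 2 ^ d := le_trans (by norm_num) (Nat.pow_le_pow_right two_pos hd2)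
  obtain ⟨s, hs, hsd⟩ := Nat.exists_prime_and_dvd (n := 2 ^ d - 1) (by omega)
  have ho : orderOf (f.sub d ^ ((2 ^ d - 1) / s)) = s := by
    rw [← S.orderOf_sub f hd] at hsd ⊢
    exact orderOf_pow_orderOf_div (orderOf_pos _).ne' hsd
  exact ⟨_, _, rfl, pow_mem (f.sub_mem d) _, ho.symm ▸ hs,
    ho.symm ▸ hsd.trans (f.dvd_card_sub hd), ho.symm ▸ hsd⟩

/-- Elements of the free closure in `D` with field automorphism killed by `k / d` commute with the
scalars of degree `d`. -/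
theorem commute_sub (hX : Even (Nat.card X)) (f : Frame D actE t) {g : X} (hg : g ∈ D)
    (hgY : g ∈ freeClosure D (Nat.card E - 1)) {d : ℕ} (hd : d ∣ f.k)
    (h : f.L.gal ⟨g, hg⟩ ^ (f.k / d) = 1) : Commute g (f.sub d) :=
  S.commute_sub_of_pow hX f (g := ⟨g, hg⟩) hgY hd h

/-- The Galois part maps onto the group of field automorphisms. -/
theorem exists_galoisPart_gal (hX : Even (Nat.card X)) (f : Frame D actE t)
    (τ : f.L.F ≃ₐ[ZMod 2] f.L.F) :
    ∃ (g : X) (hg : g ∈ galoisPart D actE t),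
      f.L.gal ⟨g, (mem_galoisPart.1 hg).1⟩ = τ := by
  classical
  have hle : galoisPart D actE t ≤ D := fun z hz => (mem_galoisPart.1 hz).1
  let φ : galoisPart D actE t →* (f.L.F ≃ₐ[ZMod 2] f.L.F) :=
    f.L.gal.comp (Subgroup.inclusion hle)
  suffices htop : φ.range = ⊤ by
    obtain ⟨g, hg⟩ := MonoidHom.range_eq_top.1 htop τ
    exact ⟨g, g.2, hg⟩
  by_contra hne
  haveI : Fact (Nat.Prime 2) := ⟨Nat.prime_two⟩
  haveI : FiniteDimensional (ZMod 2) f.L.F := Module.Finite.of_finite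
  have hidx : φ.range.index ≠ 1 := fun h => hne (Subgroup.index_eq_one.1 h)
  obtain ⟨l, hl, hli⟩ := Nat.exists_prime_and_dvd hidx
  have hk : φ.range.index * Nat.card φ.range = f.k := by
    rw [mul_comm, Subgroup.card_mul_index, f.card_gal]
  have hlk : l ∣ f.k := hk ▸ hli.trans (Dvd.intro _ rfl)
  have hdiv : Nat.card φ.range ∣ f.k / l := by
    obtain ⟨c, hc⟩ := hli
    rw [← hk, hc, mul_assoc, Nat.mul_div_cancel_left _ hl.pos]
    exact Dvd.intro_left _ rfl
  obtain ⟨g, j, hgj, hg, hgp, hgm, -⟩ := S.exists_free_sub f hlk hl.two_le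
  obtain ⟨y, hy, hyD, hne'⟩ := S.exists_move hg hgp hgm (mem_freeClosure hg hgp hgm)
    (S.freeClosure_even hX)
  refine hne' ?_
  obtain ⟨i, c, hc, rfl⟩ := S.exists_decomp f hyD hy
  rw [hgj]
  refine (Commute.mul_left ?_ ?_).pow_right j
  · exact (Commute.refl _).pow_pow _ _
  · refine S.commute_sub hX f (hle hc) (mem_galoisPart.1 hc).2.1 hlk ?_
    obtain ⟨e, he⟩ := hdiv
    have hcr : φ ⟨c, hc⟩ ∈ φ.range := ⟨_, rfl⟩
    rw [he, pow_mul]
    show (φ ⟨c, hc⟩ ^ Nat.card φ.range) ^ e = 1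
    rw [show φ ⟨c, hc⟩ ^ Nat.card φ.range = 1 from congrArg Subtype.val
      (pow_card_eq_one' (x := (⟨φ ⟨c, hc⟩, hcr⟩ : φ.range))), one_pow]

/-- A Galois element whose field automorphism is trivial lies in the kernel on `E`. -/
theorem mem_ker_of_gal (f : Frame D actE t) {g : X} (hg : g ∈ galoisPart D actE t)
    (h : f.L.gal ⟨g, (mem_galoisPart.1 hg).1⟩ = 1) : g ∈ actE.ker :=
  MonoidHom.mem_ker.2 (f.L.act_eq_one (g := ⟨g, (mem_galoisPart.1 hg).1⟩)
    (mem_galoisPart.1 hg).2.2 h)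

theorem ker_inf_le_galoisPart :
    actE.ker ⊓ freeClosure D (Nat.card E - 1) ≤ galoisPart D actE t := fun g hg =>
  mem_galoisPart.2 ⟨S.ker_le hg.1, hg.2, by rw [MonoidHom.mem_ker.1 hg.1]; rfl⟩

theorem galFix_comm (f : Frame D actE t) (hX : Even (Nat.card X)) {d : ℕ} {g h : X}
    (hg : g ∈ galoisPart D actE t) (hh : h ∈ f.galFix d) : g * h = h * g :=
  S.galoisPart_comm hX hg (Frame.mem_galFix.1 hh).1

/-- An odd centralizer in the free closure of a subgroup of the Galois part lies in `D`, and then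
so does the whole centralizer. -/
theorem centralizer_le_of_odd (hX : Even (Nat.card X)) (f : Frame D actE t) {d : ℕ} (hd : d ∣ f.k)
    (hd2 : 2 ≤ d) {B : Subgroup X} (hB : B ≤ f.galFix d)
    (hkB : actE.ker ⊓ freeClosure D (Nat.card E - 1) ≤ B)
    (hodd : Odd (Nat.card ↥(centralizer (B : Set X) ⊓ freeClosure D (Nat.card E - 1)))) :
    centralizer (B : Set X) ≤ D := by
  classical
  set Y := freeClosure D (Nat.card E - 1) with hY
  set H := centralizer (B : Set X) ⊓ Y with hH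
  obtain ⟨g, j, hgj, hg, hgp, hgm, -⟩ := S.exists_free_sub f hd hd2
  have hgH : g ∈ H := by
    refine ⟨mem_centralizer_iff.2 fun b hb => ?_, mem_freeClosure hg hgp hgm⟩
    rw [hgj]
    exact ((Frame.mem_galFix.1 (hB hb)).2.pow_right j).eq
  suffices hHD : H ≤ D by
    intro c hc
    refine S.mem_of_conj_mem hg hgp hgm (S.unique_free hX hg hgp hgm (hHD ?_) ?_)
    · refine ⟨(centralizer (B : Set X)).mul_mem ((centralizer (B : Set X)).mul_mem hc hgH.1)
        ((centralizer (B : Set X)).inv_mem hc), ?_⟩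
      exact (inferInstance : Y.Normal).conj_mem _ hgH.2 c
    · exact (MulAut.conj c).orderOf_eq g
  -- the fixed points of `B`
  let W : Subgroup E := {
    carrier := {e | ∀ b ∈ B, actE b e = e}
    one_mem' := fun b _ => map_one _
    mul_mem' := fun {a c} ha hc b hb => by rw [map_mul, ha b hb, hc b hb]
    inv_mem' := fun {a} ha b hb => by rw [map_inv, ha b hb] }
  have hWinv : ∀ h ∈ centralizer (B : Set X), ∀ e ∈ W, actE h e ∈ W := fun h hh e he b hb => by
    rw [← MulAut.mul_apply, ← map_mul, mem_centralizer_iff.1 hh b hb, map_mul, MulAut.mul_apply,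
      he b hb]
  let act : H →* MulAut W := {
    toFun := fun h =>
      { toFun := fun e => ⟨actE (h : X) e, hWinv h h.2.1 e e.2⟩
        invFun := fun e => ⟨actE ((h : X)⁻¹) e, hWinv _ (inv_mem h.2.1) e e.2⟩
        left_inv := fun e => Subtype.ext (by
          show actE ((h : X)⁻¹) (actE (h : X) e) = e
          rw [← MulAut.mul_apply, ← map_mul, inv_mul_cancel, map_one, MulAut.one_apply])
        right_inv := fun e => Subtype.ext (by
          show actE (h : X) (actE ((h : X)⁻¹) e) = e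
          rw [← MulAut.mul_apply, ← map_mul, mul_inv_cancel, map_one, MulAut.one_apply])
        map_mul' := fun a c => Subtype.ext (map_mul (actE (h : X)) (a : E) c) }
    map_one' := MulEquiv.ext fun e => Subtype.ext (by
      show actE ((1 : H) : X) e = e
      rw [Subgroup.coe_one, map_one]; rfl)
    map_mul' := fun a c => MulEquiv.ext fun e => Subtype.ext (by
      show actE ((a * c : H) : X) e = actE (a : X) (actE (c : X) e)
      rw [Subgroup.coe_mul, map_mul]; rfl) }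
  have htW : t ∈ W := fun b hb => (mem_galoisPart.1 (Frame.mem_galFix.1 (hB hb)).1).2.2
  have htrans : ∀ e : W, e ≠ 1 → ∃ h : H, act h ⟨t, htW⟩ = e := by
    intro e he
    have he1 : (e : E) ≠ 1 := fun h => he (Subtype.ext h)
    obtain ⟨i, hi⟩ := f.σgen (f.L.e (Additive.ofMul (e : E)))
      (fun h => he1 (f.L.e_eq_zero.1 h))
    have hact : actE ((f.σ ^ i : D) : X) t = e := by
      rw [f.L.mult_eq] at hi
      exact congrArg Additive.toMul (f.L.e.injective hi)
    refine ⟨⟨(f.σ ^ i : D), mem_centralizer_iff.2 fun b hb => ?_, f.pow_mem_closure i⟩,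
      Subtype.ext hact⟩
    have hbG := (Frame.mem_galFix.1 (hB hb)).1
    have hbD := (mem_galoisPart.1 hbG).1
    have hfix : f.L.gal ⟨b, hbD⟩ (f.L.mult (f.σ ^ i)) = f.L.mult (f.σ ^ i) := by
      rw [hi]
      refine (f.L.fixes_iff (g := ⟨b, hbD⟩) (mem_galoisPart.1 hbG).2.2 _).1 ?_
      exact e.2 b hb
    rw [Subgroup.coe_pow]
    exact ((S.commute_pow_iff hX f (g := ⟨b, hbD⟩) (mem_galoisPart.1 hbG).2.1 i).2 hfix).eq
  obtain ⟨L'⟩ := CfsgLib.Bender.OddQuot.exists_semilin hodd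
    (fun e : W => Subtype.ext (S.expE e)) act (t := ⟨t, htW⟩)
    (fun h => S.t_ne (congrArg Subtype.val h)) htrans
  -- the kernel on the fixed points
  set K := (act.ker).map H.subtype with hK
  have hKY : ∀ k ∈ K, k ∈ H ∧ ∀ e : E, (∀ b ∈ B, actE b e = e) → actE k e = e := by
    rintro _ ⟨k, hk, rfl⟩
    exact ⟨k.2, fun e he => congrArg Subtype.val (DFunLike.congr_fun (MonoidHom.mem_ker.1 hk)
      (⟨e, he⟩ : W))⟩
  have hKmem : ∀ k ∈ H, (∀ e : E, (∀ b ∈ B, actE b e = e) → actE k e = e) → k ∈ K := fun k hk h =>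
    ⟨⟨k, hk⟩, MonoidHom.mem_ker.2 (MulEquiv.ext fun e => Subtype.ext (h e e.2)), rfl⟩
  have hKD : K ≤ D := by
    rcases eq_or_ne B ⊥ with hbot | hbot
    · intro k hk
      refine S.ker_le (MonoidHom.mem_ker.2 (MulEquiv.ext fun e => ?_))
      exact (hKY k hk).2 e fun b hb => by
        rw [hbot, mem_bot] at hb
        rw [hb, map_one]; rfl
    · obtain ⟨e₁, he₁⟩ : ∃ e₁ : E, e₁ ≠ 1 ∧ e₁ ≠ t ∧ e₁ ∈ W := by
        refine ⟨actE g t, fun h => S.t_ne ((actE g).injective (h.trans (map_one _).symm)),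
          fun h => S.t_ne (S.freeE g hg hgp hgm t h), ?_⟩
        exact hWinv g hgH.1 t htW
      refine S.kernel B (fun b hb => (mem_galoisPart.1 (Frame.mem_galFix.1 (hB hb)).1).1) hbot
        ⟨t, e₁, S.t_ne, he₁.1, fun h => he₁.2.1 h.symm, fun b hb => ⟨htW b hb, he₁.2.2 b hb⟩⟩ K
        (fun k hk => (hKY k hk).1.1) (hodd.of_dvd_nat ?_) ?_ fun k hk e he => (hKY k hk).2 e he
      · exact card_dvd_of_le (fun k hk => (hKY k hk).1)
      · intro c hc
        refine mem_normalizer_iff.2 fun k => ?_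
        have hconj : ∀ c ∈ centralizer (B : Set X), ∀ k ∈ K, c * k * c⁻¹ ∈ K := by
          intro c hc k hk
          refine hKmem _ ⟨(centralizer (B : Set X)).mul_mem
            ((centralizer (B : Set X)).mul_mem hc (hKY k hk).1.1)
            ((centralizer (B : Set X)).inv_mem hc),
            (inferInstance : Y.Normal).conj_mem _ (hKY k hk).1.2 c⟩ fun e he => ?_
          rw [map_mul, map_mul, MulAut.mul_apply, MulAut.mul_apply,
            (hKY k hk).2 _ (hWinv _ (inv_mem hc) e he), ← MulAut.mul_apply, ← map_mul,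
            mul_inv_cancel, map_one, MulAut.one_apply]
        refine ⟨hconj c hc k, fun h => ?_⟩
        simpa [mul_assoc] using hconj _ (inv_mem hc) _ h
  -- `H` normalizes the free subgroup
  have hgal : L'.gal ⟨g, hgH⟩ = 1 := by
    by_contra hne
    have hord : orderOf (L'.gal ⟨g, hgH⟩) = orderOf g := by
      rcases (Nat.dvd_prime hgp).1 ((orderOf_map_dvd L'.gal ⟨g, hgH⟩).trans
        (by rw [Subgroup.orderOf_mk])) with h | h
      · exact absurd (orderOf_eq_one_iff.1 h) hne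
      · exact h
    obtain ⟨v, hv1, hv⟩ := L'.exists_fixed (fun h => S.t_ne (congrArg Subtype.val h)) ⟨g, hgH⟩ (by
      rw [hord, show (⟨g, hgH⟩ : H) ^ orderOf g = 1 from Subtype.ext (pow_orderOf_eq_one g),
        map_one])
    exact hv1 (Subtype.ext (S.freeE g hg hgp hgm v (congrArg Subtype.val hv)))
  intro h hh
  refine S.mem_of_conj_mem hg hgp hgm (S.unique_free hX hg hgp hgm ?_
    ((MulAut.conj h).orderOf_eq g))
  -- the conjugate is congruent to a power of `g`
  set s := orderOf g with hs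
  haveI := Fact.mk hgp
  letI := Fintype.ofFinite L'.F
  have hmul : ∀ a c : H, L'.gal a = 1 → L'.mult (a * c) = L'.mult a * L'.mult c := by
    intro a c ha
    rw [L'.mult_eq, map_mul, MulAut.mul_apply, L'.apply, ha, AlgEquiv.one_apply, ← L'.mult_eq]
  have hone : L'.mult (1 : H) = 1 := by rw [L'.mult_eq, map_one, MulAut.one_apply, L'.et]
  have hpow : ∀ a : H, L'.gal a = 1 → ∀ n : ℕ, L'.mult (a ^ n) = L'.mult a ^ n := by
    intro a ha n
    induction n with
    | zero => rw [pow_zero, pow_zero, hone]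
    | succ n ih => rw [pow_succ', hmul _ _ ha, ih, pow_succ']
  set g' : H := ⟨g, hgH⟩ with hg'
  set h' : H := ⟨h, hh⟩ with hh'
  have hg1 : L'.mult g' ^ s = 1 := by
    rw [← hpow g' hgal, show g' ^ s = 1 from Subtype.ext (pow_orderOf_eq_one g), hone]
  have hgord : orderOf (L'.mult g') = s := by
    refine orderOf_eq_prime hg1 fun h1 => S.t_ne ?_
    refine S.freeE g hg hgp hgm t ?_
    rw [L'.mult_eq, ← L'.et] at h1
    exact congrArg Subtype.val (congrArg Additive.toMul (L'.e.injective h1))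
  have hgal' : L'.gal (h' * g' * h'⁻¹) = 1 := by
    rw [map_mul, map_mul, hgal, mul_one, map_inv, mul_inv_cancel]
  have hg2 : L'.mult (h' * g' * h'⁻¹) ^ s = 1 := by
    rw [← hpow _ hgal', show (h' * g' * h'⁻¹) ^ s = 1 by
      rw [_root_.conj_pow, show g' ^ s = 1 from Subtype.ext (pow_orderOf_eq_one g), mul_one,
        mul_inv_cancel], hone]
  obtain ⟨n, -, hn⟩ := (IsPrimitiveRoot.iff_orderOf.2 hgord).eq_pow_of_pow_eq_one hg2
  have hker : (g' ^ n)⁻¹ * (h' * g' * h'⁻¹) ∈ act.ker := by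
    have hgn : L'.gal (g' ^ n) = 1 := by rw [map_pow, hgal, one_pow]
    have hgi : L'.gal ((g' ^ n)⁻¹ * (h' * g' * h'⁻¹)) = 1 := by
      rw [map_mul, map_inv, hgn, hgal', inv_one, one_mul]
    refine MonoidHom.mem_ker.2 (L'.act_eq_one ?_ hgi)
    refine congrArg Additive.toMul (L'.e.injective (a₁ := Additive.ofMul (act _ ⟨t, htW⟩))
      (a₂ := Additive.ofMul (⟨t, htW⟩ : W)) ?_)
    rw [← L'.mult_eq, L'.et]
    refine mul_left_cancel₀ (L'.mult_ne_zero (fun h => S.t_ne (congrArg Subtype.val h)) (g' ^ n)) ?_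
    rw [← hmul _ _ hgn, mul_inv_cancel_left, mul_one, hpow g' hgal, hn]
  have hmemD : ((g' ^ n)⁻¹ * (h' * g' * h'⁻¹) : H).1 ∈ D := hKD ⟨_, hker, rfl⟩
  show h * g * h⁻¹ ∈ D
  have heq : h * g * h⁻¹ = g ^ n * ((g' ^ n)⁻¹ * (h' * g' * h'⁻¹) : H).1 := by
    rw [Subgroup.coe_mul, Subgroup.coe_inv, Subgroup.coe_pow]
    simp [hg', hh']
  rw [heq]
  exact mul_mem (pow_mem hg n) hmemD

/-- Commutators in the free closure inside `D` are scalars. -/
theorem commutator_mem_zpowers (hX : Even (Nat.card X)) (f : Frame D actE t) {g h : X} (hg : g ∈ D)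
    (hgY : g ∈ freeClosure D (Nat.card E - 1)) (hh : h ∈ D)
    (hhY : h ∈ freeClosure D (Nat.card E - 1)) : g * h * g⁻¹ * h⁻¹ ∈ zpowers (f.σ : X) := by
  obtain ⟨a, u, hu, rfl⟩ := S.exists_decomp f hg hgY
  obtain ⟨c, v, hv, rfl⟩ := S.exists_decomp f hh hhY
  have key : ∀ (w : X) (n : ℕ), w ∈ galoisPart D actE t →
      ∃ n' : ℕ, w * (f.σ : X) ^ n = (f.σ : X) ^ n' * w := by
    intro w n hw
    obtain ⟨n', hn', -⟩ := S.conj_pow hX f (g := ⟨w, (mem_galoisPart.1 hw).1⟩)
      (mem_galoisPart.1 hw).2.1 n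
    refine ⟨n', mul_inv_eq_iff_eq_mul.1 ?_⟩
    have := congrArg Subtype.val hn'
    rwa [Subgroup.coe_mul, Subgroup.coe_mul, Subgroup.coe_inv, Subgroup.coe_pow,
      Subgroup.coe_pow] at this
  obtain ⟨c', hc'⟩ := key u c hu
  obtain ⟨a', ha'⟩ := key v a hv
  have h1 : (f.σ : X) ^ a * u * ((f.σ : X) ^ c * v) = (f.σ : X) ^ (a + c') * (u * v) := by
    calc (f.σ : X) ^ a * u * ((f.σ : X) ^ c * v)
        = (f.σ : X) ^ a * (u * (f.σ : X) ^ c) * v := by group
      _ = _ := by rw [hc', pow_add]; group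
  have h2 : (f.σ : X) ^ c * v * ((f.σ : X) ^ a * u) = (f.σ : X) ^ (c + a') * (u * v) := by
    calc (f.σ : X) ^ c * v * ((f.σ : X) ^ a * u)
        = (f.σ : X) ^ c * (v * (f.σ : X) ^ a) * u := by group
      _ = _ := by rw [ha', pow_add, S.galoisPart_comm hX hu hv]; group
  refine mem_zpowers_iff.2 ⟨((a + c' : ℕ) : ℤ) - ((c + a' : ℕ) : ℤ), Eq.symm ?_⟩
  calc (f.σ : X) ^ a * u * ((f.σ : X) ^ c * v) * ((f.σ : X) ^ a * u)⁻¹ * ((f.σ : X) ^ c * v)⁻¹
      = (f.σ : X) ^ a * u * ((f.σ : X) ^ c * v) * ((f.σ : X) ^ c * v * ((f.σ : X) ^ a * u))⁻¹ := by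
        group
    _ = (f.σ : X) ^ (a + c') * ((f.σ : X) ^ (c + a'))⁻¹ := by rw [h1, h2]; group
    _ = (f.σ : X) ^ (((a + c' : ℕ) : ℤ) - ((c + a' : ℕ) : ℤ)) := by
        rw [zpow_sub, zpow_natCast, zpow_natCast]

/-- The centralizer in the free closure of the Galois part centralizing the scalars of prime
degree is even. -/
theorem even_centralizer (hX : Even (Nat.card X)) (f : Frame D actE t) {q : ℕ} (hq : q.Prime)
    (hqk : q ∣ f.k) :
    Even (Nat.card ↥(centralizer (f.galFix q : Set X) ⊓ freeClosure D (Nat.card E - 1))) := by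
  classical
  set Y := freeClosure D (Nat.card E - 1) with hY
  have hker : actE.ker ⊓ Y ≤ f.galFix q := fun g hg => Frame.mem_galFix.2
    ⟨S.ker_inf_le_galoisPart hg,
      mem_centralizer_iff.1 (S.closure_le_centralizer (f.sub_mem_closure q)) g hg.1⟩
  have hbase : Even (Nat.card ↥(centralizer ((actE.ker ⊓ Y : Subgroup X) : Set X) ⊓ Y)) := by
    have he : centralizer ((actE.ker ⊓ Y : Subgroup X) : Set X) ⊓ Y = Y :=
      inf_eq_right.2 fun y hy => mem_centralizer_iff.2 fun g hg =>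
        mem_centralizer_iff.1 (S.closure_le_centralizer hy) g hg.1
    rw [he]
    exact S.freeClosure_even hX
  obtain ⟨B, ⟨hkB, hBq, hBe⟩, hmax⟩ := (Set.toFinite {B : Subgroup X | actE.ker ⊓ Y ≤ B ∧
    B ≤ f.galFix q ∧ Even (Nat.card ↥(centralizer (B : Set X) ⊓ Y))}).exists_maximal
      ⟨actE.ker ⊓ Y, le_rfl, hker, hbase⟩
  rcases hBq.lt_or_eq with hlt | heq
  swap
  · rw [← heq]; exact hBe
  exfalso
  set G := galoisPart D actE t with hG
  have hleD : G ≤ D := fun z hz => (mem_galoisPart.1 hz).1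
  have hBG : B ≤ G := hBq.trans inf_le_left
  -- an element of prime power order just above `B`
  obtain ⟨b, l, hl, hbq, hbB, hblB, hb⟩ : ∃ (b : X) (l : ℕ), l.Prime ∧ b ∈ f.galFix q ∧ b ∉ B ∧
      b ^ l ∈ B ∧ ∃ e, orderOf b = l ^ e := by
    obtain ⟨g, hg, hgB⟩ := SetLike.exists_of_lt hlt
    have hex : ∃ n, 0 < n ∧ g ^ n ∈ B := ⟨orderOf g, orderOf_pos g, by
      rw [pow_orderOf_eq_one]; exact B.one_mem⟩
    set n := Nat.find hex with hn
    obtain ⟨hn0, hnB⟩ := Nat.find_spec hex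
    rw [← hn] at hn0 hnB
    have hn1 : n ≠ 1 := fun h => hgB (by rw [h, pow_one] at hnB; exact hnB)
    obtain ⟨l, hl, hln⟩ := Nat.exists_prime_and_dvd hn1
    have hdl : 0 < n / l := Nat.div_pos (Nat.le_of_dvd hn0 hln) hl.pos
    have h1 : g ^ (n / l) ∉ B := fun h =>
      Nat.find_min hex (Nat.div_lt_self hn0 hl.one_lt) ⟨hdl, h⟩
    have h2 : (g ^ (n / l)) ^ l ∈ B := by rw [← pow_mul, Nat.div_mul_cancel hln]; exact hnB
    obtain ⟨e, c, hc, hec⟩ :=
      Nat.exists_eq_pow_mul_and_not_dvd (orderOf_pos (g ^ (n / l))).ne' l hl.ne_one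
    refine ⟨(g ^ (n / l)) ^ c, l, hl, pow_mem (pow_mem hg _) _, fun h => h1 ?_, ?_, e, ?_⟩
    · have hb := Nat.gcd_eq_gcd_ab l c
      rw [(hl.coprime_iff_not_dvd.2 hc).gcd_eq_one, Nat.cast_one] at hb
      rw [← zpow_one (g ^ (n / l)), hb, zpow_add, zpow_mul, zpow_mul, zpow_natCast, zpow_natCast]
      exact mul_mem (zpow_mem h2 _) (zpow_mem h _)
    · rw [← pow_mul, mul_comm, pow_mul]; exact pow_mem h2 c
    · rw [orderOf_pow, hec, Nat.gcd_eq_right (Dvd.intro_left _ rfl),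
        Nat.mul_div_cancel _ (Nat.pos_of_ne_zero fun h => hc (by rw [h]; exact dvd_zero l))]
  obtain ⟨e, hbe⟩ := hb
  haveI := Fact.mk hl
  have hbG : b ∈ G := inf_le_left (a := G) hbq
  have hbD := hleD hbG
  -- `l` is prime to `|E| - 1`
  have hlm : ¬ l ∣ Nat.card E - 1 := fun h => by
    have hcop := S.coprime_of_fix hbD S.t_ne (mem_galoisPart.1 hbG).2.2
    rcases e with _ | e
    · rw [pow_zero, orderOf_eq_one_iff] at hbe
      exact hbB (hbe ▸ B.one_mem)
    · rw [hbe] at hcop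
      exact hl.not_dvd_one (hcop ▸ Nat.dvd_gcd (dvd_pow_self l e.succ_ne_zero) h)
  -- automorphisms of `B`
  let φ : G →* (f.L.F ≃ₐ[ZMod 2] f.L.F) := f.L.gal.comp (Subgroup.inclusion hleD)
  haveI : Fact (Nat.Prime 2) := ⟨Nat.prime_two⟩
  haveI : FiniteDimensional (ZMod 2) f.L.F := Module.Finite.of_finite
  letI : CommGroup (f.L.F ≃ₐ[ZMod 2] f.L.F) := IsCyclic.commGroup
  set HB := (B.subgroupOf G).map φ with hHB
  haveI : HB.Normal := Subgroup.normal_of_comm HB
  obtain ⟨hlk, hdiv⟩ := card_dvd_div_of_pow_mem (H := HB) (x := φ ⟨b, hbG⟩) hl (by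
      rintro ⟨⟨c, hcG⟩, hc, hce⟩
      have hk : c⁻¹ * b ∈ actE.ker ⊓ Y := by
        refine ⟨S.mem_ker_of_gal f (G.mul_mem (G.inv_mem hcG) hbG) ?_,
          Y.mul_mem (Y.inv_mem (mem_galoisPart.1 hcG).2.1) (mem_galoisPart.1 hbG).2.1⟩
        show φ (⟨c, hcG⟩⁻¹ * ⟨b, hbG⟩) = 1
        rw [map_mul, map_inv, hce, inv_mul_cancel]
      refine hbB ?_
      rw [← mul_inv_cancel_left c b]
      exact mul_mem hc (hkB hk))
    ⟨⟨b ^ l, pow_mem hbG l⟩, hblB, by rw [← map_pow]; rfl⟩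
  rw [f.card_gal] at hlk hdiv
  set B' := B ⊔ zpowers b with hB'
  have hB'q : B' ≤ f.galFix q := sup_le hBq (zpowers_le.2 hbq)
  have hodd : Odd (Nat.card ↥(centralizer (B' : Set X) ⊓ Y)) := by
    rw [← Nat.not_even_iff_odd]
    intro h
    exact hbB (hmax ⟨hkB.trans le_sup_left, hB'q, h⟩ le_sup_left
      (mem_sup_right (mem_zpowers b)))
  have hcD := S.centralizer_le_of_odd hX f hqk hq.two_le hB'q (hkB.trans le_sup_left) hodd
  set C := centralizer (B : Set X) ⊓ Y with hC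
  have hbC : b ∈ C := ⟨mem_centralizer_iff.2 fun c hc => S.galoisPart_comm hX (hBG hc) hbG,
    (mem_galoisPart.1 hbG).2.1⟩
  obtain ⟨g₀, j₀, hgj₀, hg₀, hgp₀, hgm₀, -⟩ := S.exists_free_sub f hqk hq.two_le
  have hfour : FixesFour actE B' := by
    refine ⟨t, actE g₀ t, S.t_ne,
      fun h => S.t_ne ((actE g₀).injective (h.trans (map_one _).symm)),
      fun h => S.t_ne (S.freeE g₀ hg₀ hgp₀ hgm₀ t h.symm), fun c hc => ?_⟩
    have hcq := Frame.mem_galFix.1 (hB'q hc)
    have hct := (mem_galoisPart.1 hcq.1).2.2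
    refine ⟨hct, ?_⟩
    rw [← MulAut.mul_apply, ← map_mul, hgj₀, (hcq.2.pow_right j₀).eq, map_mul, MulAut.mul_apply,
      hct]
  have hmem : ∀ c : X, c ∈ C → c⁻¹ * b * c ∈ D → c ∈ D := by
    intro c hc hbc
    have hle : B' ≤ D.comap (MulAut.conj c⁻¹).toMonoidHom := by
      refine sup_le (fun z hz => ?_) (zpowers_le.2 ?_)
      · show c⁻¹ * z * c⁻¹⁻¹ ∈ D
        rw [inv_inv, mul_assoc, mem_centralizer_iff.1 hc.1 z hz, inv_mul_cancel_left]
        exact hleD (hBG hz)
      · show c⁻¹ * b * c⁻¹⁻¹ ∈ D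
        rwa [inv_inv]
    obtain ⟨z, hz, hzD⟩ := S.fix_trans B'
      (sup_le (hBG.trans hleD) (zpowers_le.2 hbD)) hfour c fun d hd => by
        have : c⁻¹ * d * c⁻¹⁻¹ ∈ D := hle hd
        rwa [inv_inv] at this
    have := mul_mem (hcD hz) hzD
    rwa [mul_inv_cancel_left] at this
  -- a Sylow subgroup inside `D`
  let bC : C := ⟨b, hbC⟩
  have hbP : IsPGroup l (zpowers bC) := IsPGroup.of_card (n := e) (by
    rw [Nat.card_zpowers, Subgroup.orderOf_mk, hbe])
  obtain ⟨P, hP⟩ := hbP.exists_le_sylow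
  set DC := D.subgroupOf C with hDC
  have hfix : ∀ x : C ⧸ DC, (∀ z : zpowers bC, (z : C) • x = x) → x = ((1 : C) : C ⧸ DC) := by
    intro x hx
    obtain ⟨c, rfl⟩ := QuotientGroup.mk_surjective x
    have h1 : bC • ((c : C) : C ⧸ DC) = c := hx ⟨bC, mem_zpowers _⟩
    have h2 : (bC * c)⁻¹ * c ∈ DC := QuotientGroup.eq.1 h1
    refine QuotientGroup.eq.2 ?_
    rw [mul_one]
    refine inv_mem (hmem c c.2 ?_)
    have h3 := D.inv_mem (mem_subgroupOf.1 h2)
    simpa [bC, mul_assoc] using h3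
  have hindex : ¬ l ∣ DC.index := by
    intro hd
    have hone : ∀ z : zpowers bC, z • (((1 : C) : C ⧸ DC)) = ((1 : C) : C ⧸ DC) := by
      intro z
      refine QuotientGroup.eq.2 ?_
      simp only [smul_eq_mul, mul_one]
      refine inv_mem ?_
      obtain ⟨n, hn⟩ := mem_zpowers_iff.1 z.2
      show ((z : C) : X) ∈ D
      rw [← hn, Subgroup.coe_zpow]
      exact zpow_mem hbD n
    obtain ⟨x, hx, hne⟩ := hbP.exists_fixed_point_of_prime_dvd_card_of_fixed_point (C ⧸ DC) hd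
      (a := ((1 : C) : C ⧸ DC)) hone
    exact hne (hfix x hx).symm
  have hPD : ∀ z ∈ (P : Subgroup C), (z : X) ∈ D := by
    obtain ⟨x, hx⟩ := P.2.nonempty_fixed_point_of_prime_not_dvd_card (C ⧸ DC) hindex
    have hx1 : x = ((1 : C) : C ⧸ DC) := hfix x fun z => hx ⟨z, hP z.2⟩
    intro z hz
    have h1 : (z : C) • x = x := hx ⟨z, hz⟩
    rw [hx1] at h1
    have h2 := QuotientGroup.eq.1 h1
    simp only [smul_eq_mul, mul_one] at h2
    exact inv_mem_iff.1 h2
  have hNC : normalizer ((P : Subgroup C) : Set C) ≤ centralizer ((P : Subgroup C) : Set C) := by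
    intro n hn
    have hnD : (n : X) ∈ D := by
      refine hmem n n.2 ?_
      have h := (mem_normalizer_iff.1 ((normalizer ((P : Subgroup C) : Set C)).inv_mem hn) bC).1
        (hP (mem_zpowers _))
      simpa [bC] using hPD _ h
    refine mem_centralizer_iff.2 fun z hz => ?_
    obtain ⟨i, hi⟩ := mem_zpowers_iff.1 (S.commutator_mem_zpowers hX f hnD n.2.2 (hPD z hz) z.2.2)
    have hz' : n * z * n⁻¹ * z⁻¹ ∈ (P : Subgroup C) :=
      mul_mem ((mem_normalizer_iff.1 hn z).1 hz) (inv_mem hz)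
    obtain ⟨a, ha⟩ := IsPGroup.iff_orderOf.1 P.2 ⟨_, hz'⟩
    rw [Subgroup.orderOf_mk] at ha
    have hdm : orderOf (n * z * n⁻¹ * z⁻¹) ∣ Nat.card E - 1 := by
      rw [← Subgroup.orderOf_coe, Subgroup.coe_mul, Subgroup.coe_mul, Subgroup.coe_mul,
        Subgroup.coe_inv, Subgroup.coe_inv, ← hi, ← f.σord, ← Subgroup.orderOf_coe]
      exact orderOf_dvd_of_mem_zpowers (zpow_mem (mem_zpowers _) i)
    have h1 : n * z * n⁻¹ * z⁻¹ = 1 := by
      rw [← orderOf_eq_one_iff, ha]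
      rcases a with _ | a
      · exact pow_zero l
      · exact absurd ((dvd_pow_self l a.succ_ne_zero).trans (ha ▸ hdm)) hlm
    exact (mul_inv_eq_iff_eq_mul.1 (mul_inv_eq_one.1 h1)).symm
  -- the normal complement contains a moved free element
  set K := (MonoidHom.transferSylow P hNC).ker with hK
  have hcompl := MonoidHom.ker_transferSylow_isComplement' P hNC
  have hlK : ¬ l ∣ Nat.card K := MonoidHom.not_dvd_card_ker_transferSylow P hNC
  obtain ⟨g, j, hgj, hg, hgp, hgm, -⟩ := S.exists_free_sub f hlk hl.two_le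
  have hgC : g ∈ C := by
    refine ⟨mem_centralizer_iff.2 fun c hc => ?_, mem_freeClosure hg hgp hgm⟩
    rw [hgj]
    refine ((S.commute_sub hX f (hleD (hBG hc)) (mem_galoisPart.1 (hBG hc)).2.1 hlk ?_).pow_right
      j).eq
    obtain ⟨r, hr⟩ := hdiv
    have hcm : φ ⟨c, hBG hc⟩ ∈ HB := ⟨⟨c, hBG hc⟩, hc, rfl⟩
    show φ ⟨c, hBG hc⟩ ^ (f.k / l) = 1
    rw [hr, pow_mul, show φ ⟨c, hBG hc⟩ ^ Nat.card HB = 1 from congrArg Subtype.val
      (pow_card_eq_one' (x := (⟨φ ⟨c, hBG hc⟩, hcm⟩ : HB))), one_pow]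
  have hgK : g ∈ K.map C.subtype := by
    refine ⟨⟨g, hgC⟩, MonoidHom.mem_ker.2 ?_, rfl⟩
    rw [← orderOf_eq_one_iff]
    obtain ⟨a, ha⟩ := IsPGroup.iff_orderOf.1 P.2 (MonoidHom.transferSylow P hNC ⟨g, hgC⟩)
    have hd := orderOf_map_dvd (MonoidHom.transferSylow P hNC) (⟨g, hgC⟩ : C)
    rw [ha, Subgroup.orderOf_mk] at hd
    rw [ha]
    rcases a with _ | a
    · exact pow_zero l
    · have := (dvd_pow_self l a.succ_ne_zero).trans hd
      exact absurd (this.trans hgm) hlm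
  have hKe : Even (Nat.card (K.map C.subtype)) := by
    rw [card_map_of_injective C.subtype_injective]
    have h := hcompl.card_mul
    rw [← hK] at h
    have h2 : Even (Nat.card K * Nat.card (P : Subgroup C)) := h.symm ▸ hBe
    obtain ⟨a, ha⟩ := IsPGroup.iff_card.1 P.2
    have hlodd : Odd (Nat.card (P : Subgroup C)) := by
      rw [ha]
      rcases hl.eq_two_or_odd' with h' | h'
      · exfalso
        subst h'
        rcases e with _ | e
        · rw [pow_zero, orderOf_eq_one_iff] at hbe; exact hbB (hbe ▸ B.one_mem)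
        · have := Nat.not_even_iff_odd.2 (S.oddD.of_dvd_nat (Subgroup.orderOf_dvd_natCard _ hbD))
          rw [hbe] at this
          exact this (even_iff_two_dvd.2 (dvd_pow_self 2 e.succ_ne_zero))
      · exact h'.pow
    rcases Nat.even_mul.1 h2 with h3 | h3
    · exact h3
    · exact absurd h3 (Nat.not_even_iff_odd.2 hlodd)
  obtain ⟨y, hy, hyD, hne⟩ := S.exists_move hg hgp hgm hgK hKe
  refine hne ?_
  obtain ⟨z, hzK, rfl⟩ := hy
  rw [hgj]
  refine (S.commute_sub hX f hyD z.2.2 hlk ?_).pow_right j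
  set τ := f.L.gal ⟨(z : X), hyD⟩ with hτ
  rw [← orderOf_dvd_iff_pow_eq_one]
  have h1 : orderOf τ ∣ f.k := f.card_gal ▸ orderOf_dvd_natCard _
  have h2 : orderOf τ ∣ Nat.card K := by
    refine (orderOf_map_dvd f.L.gal (⟨(z : X), hyD⟩ : D)).trans ?_
    rw [← Subgroup.orderOf_coe]
    show orderOf (z : X) ∣ _
    rw [Subgroup.orderOf_coe]
    exact Subgroup.orderOf_dvd_natCard _ hzK
  have h3 : (orderOf τ).Coprime l :=
    (hl.coprime_iff_not_dvd.2 fun h => hlK (h.trans h2)).symm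
  refine h3.dvd_of_dvd_mul_right ?_
  rwa [Nat.div_mul_cancel hlk]

end Data

end CfsgLib.Bender.OddQuot
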