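import Mathlib

/-!
# A non-trivial involution of determinant one of a three-dimensional space fixes only a line
-/

set_option autoImplicit false
set_option linter.style.haveILetI false

namespace CfsgLib.Bender.OddQuot

universe u

theorem card_fixed_le_of_det {p : ℕ} [Fact p.Prime] (hp : p ≠ 2) {W : Type u} [AddCommGroup W]
    [Module (ZMod p) W] [Finite W] (hW : Module.finrank (ZMod p) W = 3)
    (L : Module.End (ZMod p) W) (hL : L * L = 1) (hne : L ≠ 1) (hdet : LinearMap.det L = 1) :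
    Nat.card {v : W // L v = v} ≤ p := by
  classical
  haveI : Module.Finite (ZMod p) W := Module.Finite.of_finite
  haveI : Fact (2 < p) := ⟨lt_of_le_of_ne (Fact.out : p.Prime).two_le (Ne.symm hp)⟩
  have h2 : (2 : ZMod p) ≠ 0 := by
    intro h
    have h' : ((2 : ℕ) : ZMod p) = 0 := by exact_mod_cast h
    exact hp ((Nat.prime_dvd_prime_iff_eq (Fact.out : p.Prime) Nat.prime_two).1
      ((ZMod.natCast_eq_zero_iff 2 p).1 h'))
  have hLL : ∀ v, L (L v) = v := fun v => by rw [← Module.End.mul_apply, hL]; rfl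
  set W1 := LinearMap.ker (L - 1) with hW1
  set W2 := LinearMap.ker (L + 1) with hW2
  have hm1 : ∀ v, v ∈ W1 ↔ L v = v := fun v => by
    rw [hW1, LinearMap.mem_ker, LinearMap.sub_apply, Module.End.one_apply, sub_eq_zero]
  have hm2 : ∀ v, v ∈ W2 ↔ L v = -v := fun v => by
    rw [hW2, LinearMap.mem_ker, LinearMap.add_apply, Module.End.one_apply, add_eq_zero_iff_eq_neg]
  have hc : IsCompl W1 W2 := by
    refine ⟨Submodule.disjoint_def.2 fun v hv1 hv2 => ?_, ?_⟩
    · rw [hm1] at hv1
      rw [hm2, hv1] at hv2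
      have h : (2 : ZMod p) • v = 0 := by rw [two_smul]; nth_rewrite 1 [hv2]; exact neg_add_cancel v
      exact (smul_eq_zero.1 h).resolve_left h2
    · rw [codisjoint_iff, Submodule.eq_top_iff']
      intro v
      refine Submodule.mem_sup.2 ⟨(2 : ZMod p)⁻¹ • (v + L v), ?_, (2 : ZMod p)⁻¹ • (v - L v), ?_, ?_⟩
      · rw [hm1, map_smul, map_add, hLL, add_comm]
      · rw [hm2, map_smul, map_sub, hLL, ← smul_neg, neg_sub]
      · rw [← smul_add, add_add_sub_cancel, ← two_smul (ZMod p), smul_smul, inv_mul_cancel₀ h2,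
          one_smul]
  have hconj : (W1.prodEquivOfIsCompl W2 hc : (W1 × W2) →ₗ[ZMod p] W) ∘ₗ
      (LinearMap.prodMap (LinearMap.id : W1 →ₗ[ZMod p] W1)
        ((-1 : ZMod p) • (LinearMap.id : W2 →ₗ[ZMod p] W2))) ∘ₗ
      ((W1.prodEquivOfIsCompl W2 hc).symm : W →ₗ[ZMod p] (W1 × W2)) = L := by
    refine LinearMap.ext fun v => ?_
    obtain ⟨⟨a, c⟩, rfl⟩ := (W1.prodEquivOfIsCompl W2 hc).surjective v
    rw [LinearMap.comp_apply, LinearMap.comp_apply, LinearEquiv.coe_coe, LinearEquiv.coe_coe,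
      LinearEquiv.symm_apply_apply]
    show W1.prodEquivOfIsCompl W2 hc (a, (-1 : ZMod p) • c) = L _
    rw [Submodule.coe_prodEquivOfIsCompl', Submodule.coe_prodEquivOfIsCompl', map_add,
      (hm1 a).1 a.2, (hm2 c).1 c.2]
    simp
  rw [← hconj, LinearMap.det_conj, LinearMap.det_prodMap, LinearMap.det_id, one_mul,
    LinearMap.det_smul, LinearMap.det_id, mul_one] at hdet
  have heven : Even (Module.finrank (ZMod p) W2) := by
    rcases Nat.even_or_odd (Module.finrank (ZMod p) W2) with h | h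
    · exact h
    · rw [h.neg_one_pow] at hdet
      exact absurd hdet (ZMod.neg_one_ne_one)
  have hpos : Module.finrank (ZMod p) W2 ≠ 0 := fun h => by
    refine hne (LinearMap.ext fun v => ?_)
    have hb : W2 = ⊥ := Submodule.finrank_eq_zero.1 h
    have ht : W1 = ⊤ := eq_top_of_isCompl_bot (hb ▸ hc)
    exact (hm1 v).1 (ht ▸ Submodule.mem_top)
  have hsum := Submodule.finrank_add_eq_of_isCompl hc
  rw [hW] at hsum
  have hle : Module.finrank (ZMod p) W1 ≤ 1 := by
    obtain ⟨k, hk⟩ := heven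
    omega
  have hcard : Nat.card {v : W // L v = v} = Nat.card W1 :=
    Nat.card_congr (Equiv.subtypeEquivRight fun v => (hm1 v).symm)
  rw [hcard, Module.natCard_eq_pow_finrank (K := ZMod p) (V := W1), Nat.card_zmod]
  calc p ^ Module.finrank (ZMod p) W1 ≤ p ^ 1 := Nat.pow_le_pow_right (Fact.out : p.Prime).pos hle
    _ = p := pow_one p

end CfsgLib.Bender.OddQuot
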