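import Cfsg.Agent.Lib.Bender.OddQuot.PFree

/-!
# The shape of an even quotient, given a Galois element of prime order

`Shape f q y`: `|E| = 2 ^ q` with `q` an odd prime and `y` of order `q` squares the scalars.
-/

set_option autoImplicit false
set_option linter.style.haveILetI false
set_option linter.unusedSectionVars false

namespace CfsgLib.Bender.OddQuot

open Subgroup
open scoped commutatorElement

universe u

variable {X E V : Type u} [Group X] [CommGroup E] [CommGroup V] [Finite X] [Finite E] [Finite V]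
  {p : ℕ} {D : Subgroup X} {actE : X →* MulAut E} {actV : X →* MulAut V} {t : E}

/-- The shape. -/
structure Frame.Shape (f : Frame D actE t) (actV : X →* MulAut V) (p q : ℕ) (y : X) : Prop where
  qprime : q.Prime
  qodd : Odd q
  deg : f.k = q
  mem : y ∈ galoisPart D actE t
  raises : f.Raises y 1
  twisted : Twisted actV p q (Nat.card E - 1) (f.σ : X) y

namespace Data

variable (S : Data p D actE actV t)
include S

theorem sub_k (f : Frame D actE t) : f.sub f.k = (f.σ : X) := by
  have h : 0 < Nat.card E - 1 := by have := S.card_four; omega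
  rw [f.card_eq] at h
  rw [Frame.sub, f.card_eq, Nat.div_self h, pow_one]

/-- Non-identity scalars are fixed point free on `V`. -/
theorem sigma_free (f : Frame D actE t) {z : X} (hz : z ∈ zpowers (f.σ : X)) (hz1 : z ≠ 1) {v : V}
    (hv : actV z v = v) : v = 1 := by
  obtain ⟨r, hr, hrz⟩ := Nat.exists_prime_and_dvd (fun h => hz1 (orderOf_eq_one_iff.1 h))
  have hzm : orderOf z ∣ Nat.card E - 1 := by
    have h := orderOf_dvd_of_mem_zpowers hz
    rwa [Subgroup.orderOf_coe, f.σord] at h
  have ho : orderOf (z ^ (orderOf z / r)) = r := orderOf_pow_orderOf_div (orderOf_pos _).ne' hrz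
  refine S.freeV _ (pow_mem ((zpowers_le.2 f.σ.2) hz) _) (ho.symm ▸ hr)
    (ho.symm ▸ hrz.trans hzm) v ?_
  rw [map_pow]
  exact (show actV z ∈ MulAction.stabilizer (MulAut V) v from hv) |> fun h => pow_mem h _

/-- A Galois element of order `q` moving the scalars of degree `q` forces `k = q`. -/
theorem exists_shape (f : Frame D actE t) {q : ℕ} (hq : q.Prime) (hqk : q ∣ f.k) {y : X}
    (hy : y ∈ galoisPart D actE t) (hyq : y ^ q = 1) {i : ℕ} (hi : f.Raises y i)
    (hne : ¬ Commute y (f.sub q)) : ∃ z : X, f.Shape actV p q z := by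
  classical
  haveI := S.fact_prime
  have hqi : ¬ q ∣ i := fun h => hne ((S.commute_sub_iff f hqk hi).2 h)
  have hyD := (mem_galoisPart.1 hy).1
  have hyt := (mem_galoisPart.1 hy).2.2
  have hy1 : y ≠ 1 := fun h => hne (h ▸ Commute.one_left _)
  have hyo : orderOf y = q :=
    haveI := Fact.mk hq
    orderOf_eq_prime hyq hy1
  have hqp : q ≠ p := fun h => S.not_dvd_card (h ▸ hyo ▸ Subgroup.orderOf_dvd_natCard _ hyD)
  have hqodd : Odd q := S.oddD.of_dvd_nat (hyo ▸ Subgroup.orderOf_dvd_natCard _ hyD)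
  -- `y` fixes a non-trivial element of `V`
  obtain ⟨g, j, hgj, hg, hgp, hgm, hg2⟩ := S.exists_free_sub f hqk hq.two_le
  have hconj : y * g * y⁻¹ = g ^ 2 ^ i := by
    rw [hgj, ← _root_.conj_pow, hi.conj_sub, ← pow_mul, ← pow_mul, mul_comm]
  have hmove : ¬ Commute y g := by
    intro hc
    rw [hc.eq, mul_inv_cancel_right] at hconj
    have h1 : orderOf g ∣ 2 ^ i - 1 := by
      refine (Nat.modEq_iff_dvd' Nat.one_le_two_pow).1 (pow_eq_pow_iff_modEq.1 ?_)
      rw [pow_one, ← hconj]
    have h2 := Nat.dvd_gcd hg2 h1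
    rw [Nat.pow_sub_one_gcd_pow_sub_one, (hq.coprime_iff_not_dvd.2 hqi).gcd_eq_one] at h2
    exact hgp.not_dvd_one h2
  obtain ⟨v, hv, hv1⟩ : ∃ v : V, actV y v = v ∧ v ≠ 1 := by
    by_contra hno
    push Not at hno
    have hN : y ∈ normalizer (zpowers g : Set X) := by
      rw [← CfsgLib.Coprime.conjBy_eq_self_iff, CfsgLib.Coprime.conjBy, MonoidHom.map_zpowers]
      refine eq_of_le_of_card_ge (zpowers_le.2 ?_) ?_
      · show y * g * y⁻¹ ∈ zpowers g
        rw [hconj]; exact pow_mem (mem_zpowers g) _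
      · rw [Nat.card_zpowers, Nat.card_zpowers]
        exact (MulAut.conj y).orderOf_eq g |>.ge
    have hcard : Nat.card (zpowers g) = orderOf g := Nat.card_zpowers g
    have hqs : ¬ q ∣ Nat.card (zpowers g) := by
      rw [hcard]
      intro h
      have hgq : orderOf g = q := ((Nat.prime_dvd_prime_iff_eq hq hgp).1 h).symm
      rw [hgq] at hg2
      haveI := Fact.mk hq
      have h2 : ((2 : ℕ) : ZMod q) ^ q = ((2 : ℕ) : ZMod q) := ZMod.pow_card _
      have h3 : (2 ^ q : ℕ) ≡ 2 [MOD q] := (ZMod.natCast_eq_natCast_iff _ _ _).1 (by push_cast; exact h2)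
      have h4 : (2 ^ q : ℕ) ≡ 1 [MOD q] :=
        ((Nat.modEq_iff_dvd' Nat.one_le_two_pow).2 hg2).symm
      have h5 := (Nat.modEq_iff_dvd' (by norm_num : 1 ≤ 2)).1 (h4.symm.trans h3)
      exact hq.not_dvd_one h5
    have hps : ¬ p ∣ Nat.card (zpowers g) := by
      rw [hcard]
      exact fun h => S.not_dvd_p (h.trans hgm)
    have h := act_commutator_eq_one actV S.isPGroup hq hqp hyq hN
      (hcard ▸ S.oddD.of_dvd_nat (Subgroup.orderOf_dvd_natCard _ hg)) hqs hps
      (fun v hv => hno v hv) (mem_zpowers g)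
    refine hmove ?_
    have h1 : ⁅g, y⁆ = 1 := S.faithful (by rw [h, map_one])
    exact (commutatorElement_eq_one_iff_mul_comm.1 h1).symm
  -- `k = q`
  have hk : f.k = q := by
    by_contra hkq
    obtain ⟨d, hd⟩ := hqk
    have hdk : d ∣ f.k := Dvd.intro_left q hd.symm
    have hd2 : 2 ≤ d := by
      rcases d with _ | _ | d
      · have := S.two_le_k f; omega
      · exact absurd (by rw [hd]; simp) hkq
      · omega
    have hdi : d ∣ i := by
      have h0 : (f.σ : X) ^ 1 = (f.σ : X) ^ 2 ^ (i * q) := by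
        have h := (hi.pow q) 1
        rw [hyq, one_mul, inv_one, mul_one, one_mul] at h
        exact h
      rw [pow_eq_pow_iff_modEq, Subgroup.orderOf_coe, f.σord, f.card_eq] at h0
      have h1 := Nat.dvd_gcd dvd_rfl ((Nat.modEq_iff_dvd' Nat.one_le_two_pow).1 h0)
      rw [Nat.pow_sub_one_gcd_pow_sub_one] at h1
      have h2 : f.k = Nat.gcd f.k (i * q) := by
        refine Nat.pow_right_injective (le_refl 2) ?_
        show 2 ^ f.k = 2 ^ Nat.gcd f.k (i * q)
        have hle := Nat.le_of_dvd (by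
          have hg0 : 0 < Nat.gcd f.k (i * q) :=
            Nat.gcd_pos_of_pos_left _ (by have := S.two_le_k f; omega)
          have : 2 ≤ 2 ^ Nat.gcd f.k (i * q) :=
            le_trans (by norm_num) (Nat.pow_le_pow_right two_pos hg0)
          omega) h1
        have h3 : 2 ^ Nat.gcd f.k (i * q) ≤ 2 ^ f.k :=
          Nat.pow_le_pow_right two_pos (Nat.le_of_dvd (by have := S.two_le_k f; omega)
            (Nat.gcd_dvd_left _ _))
        have := Nat.one_le_two_pow (n := f.k)
        have := Nat.one_le_two_pow (n := Nat.gcd f.k (i * q))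
        omega
      have h4 : f.k ∣ i * q := h2 ▸ Nat.gcd_dvd_right _ _
      rw [hd, mul_comm q d] at h4
      exact Nat.dvd_of_mul_dvd_mul_right hq.pos h4
    have hcomm : Commute y (f.sub d) := by
      have h := hi.conj_sub d
      refine mul_inv_eq_iff_eq_mul.1 (h.trans ?_)
      conv_rhs => rw [← pow_one (f.sub d)]
      rw [pow_eq_pow_iff_modEq, S.orderOf_sub f hdk]
      exact ((Nat.modEq_iff_dvd' Nat.one_le_two_pow).2
        (Nat.pow_sub_one_dvd_pow_sub_one 2 hdi)).symm
    have hfix : actE y (actE (f.sub d) t) = actE (f.sub d) t := by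
      rw [← MulAut.mul_apply, ← map_mul, hcomm.eq, map_mul, MulAut.mul_apply, hyt]
    refine hv1 (S.four_free y hyD hy1 t _ S.t_ne
      (fun h => S.t_ne ((actE (f.sub d)).injective (h.trans (map_one _).symm))) (fun h => ?_)
      hyt hfix v hv)
    have hcop := S.coprime_of_fix (f.sub_mem d) S.t_ne h.symm
    rw [S.orderOf_sub f hdk] at hcop
    have h1 : 2 ^ d - 1 = 1 := Nat.eq_one_of_dvd_coprimes hcop dvd_rfl (f.dvd_card_sub hdk)
    have h4 : 4 ≤ 2 ^ d := le_trans (by norm_num) (Nat.pow_le_pow_right two_pos hd2)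
    omega
  -- normalize the twist
  obtain ⟨c, hc⟩ : ∃ c : ℕ, i * c ≡ 1 [MOD q] := by
    obtain ⟨c, hc⟩ := Nat.exists_mul_mod_eq_one_of_coprime
      (hq.coprime_iff_not_dvd.2 hqi).symm hq.one_lt
    exact ⟨c, by rw [Nat.ModEq, hc.2, Nat.mod_eq_of_lt hq.one_lt]⟩
  have hm : Nat.card E - 1 = 2 ^ q - 1 := by rw [f.card_eq, hk]
  have hraise : f.Raises (y ^ c) 1 := by
    intro n
    rw [(hi.pow c) n, pow_eq_pow_iff_modEq, Subgroup.orderOf_coe, f.σord, hm]
    refine Nat.ModEq.mul_left n ?_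
    have hic : i * c = q * (i * c / q) + 1 := by
      conv_lhs => rw [← Nat.div_add_mod (i * c) q]
      rw [show (i * c) % q = 1 from by rw [hc, Nat.mod_eq_of_lt hq.one_lt]]
    have h1 : 2 ^ q ≡ 1 [MOD 2 ^ q - 1] :=
      ((Nat.modEq_iff_dvd' Nat.one_le_two_pow).2 dvd_rfl).symm
    rw [hic, pow_add, pow_mul]
    have h2 := (h1.pow (i * c / q)).mul_right (2 ^ 1)
    simpa using h2
  refine ⟨y ^ c, hq, hqodd, hk, pow_mem hy c, hraise, ⟨S.prime, hq, S.expV, S.ntV, ?_, hm ▸ dvd_rfl,
    by have := S.card_four; omega, fun z hz hz1 v hv => S.sigma_free f hz hz1 hv, ?_, ?_, ?_⟩⟩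
  · rw [Subgroup.orderOf_coe, f.σord]
  · have h := hraise 1
    rw [pow_one, one_mul, pow_one] at h
    exact h
  · rw [← pow_mul, mul_comm, pow_mul, hyq, one_pow]
  · refine S.line _ (pow_mem hyD c) ?_
    have hqc : ¬ q ∣ c := fun h => hq.not_dvd_one
      ((Nat.ModEq.dvd_iff hc dvd_rfl).1 (h.trans (dvd_mul_left c i)))
    rw [Nat.Coprime.orderOf_pow (hyo.symm ▸ hq.coprime_iff_not_dvd.2 hqc), hyo]
    exact hq

/-- In the even shape `p` exceeds `2 ^ q`, `|V| = p ^ q`, and `p` does not divide `|X|`. -/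
theorem shape_facts (f : Frame D actE t) {q : ℕ} {y : X} (h : f.Shape actV p q y) :
    Nat.card E = 2 ^ q ∧ Nat.card V = p ^ q ∧ 2 ^ q < p ∧ ¬ p ∣ Nat.card X := by
  classical
  have hE : Nat.card E = 2 ^ q := by rw [f.card_eq, h.deg]
  have hq3 : 3 ≤ q := by
    have h2 := h.qprime.two_le
    obtain ⟨r, hr⟩ := h.qodd
    omega
  have h8 : 8 ≤ 2 ^ q := le_trans (by norm_num) (Nat.pow_le_pow_right two_pos hq3)
  obtain ⟨l, hl, hmod⟩ := h.twisted.exists_modEq
  have hp3 : 3 ≤ p := by have := S.prime.two_le; have := S.ne_two; omega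
  have hlm : 2 ^ l < Nat.card E - 1 := by
    rw [hE]
    have h1 : 2 ^ l * 2 ≤ 2 ^ q := by rw [← pow_succ]; exact Nat.pow_le_pow_right two_pos hl
    omega
  have hgt : 2 ^ q < p := by
    rcases Nat.lt_or_ge p (Nat.card E - 1) with hlt | hge
    · have heq := hmod.eq_of_lt_of_lt hlt hlm
      rcases l with _ | l
      · rw [pow_zero] at heq; omega
      · exact absurd ((Nat.prime_dvd_prime_iff_eq Nat.prime_two S.prime).1
          (heq ▸ dvd_pow_self 2 l.succ_ne_zero)).symm S.ne_two
    · rw [hE] at hge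
      rcases Nat.lt_or_ge (2 ^ q) p with h' | h'
      · exact h'
      · exfalso
        have hev : 2 ∣ 2 ^ q := dvd_pow_self 2 h.qprime.ne_zero
        have hnd : ¬ 2 ∣ p := fun h2 =>
          S.ne_two ((Nat.prime_dvd_prime_iff_eq Nat.prime_two S.prime).1 h2).symm
        have hpe : p = 2 ^ q - 1 := by omega
        refine S.not_dvd_p ?_
        rw [hE, ← hpe]
  refine ⟨hE, h.twisted.card_facts.2, hgt, fun hpX => ?_⟩
  haveI := S.fact_prime
  obtain ⟨g, hg⟩ := exists_prime_orderOf_dvd_card' (G := X) p hpX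
  have hpg : IsPGroup p (zpowers g) := IsPGroup.of_card (n := 1) (by
    rw [Nat.card_zpowers, hg, pow_one])
  letI : MulAction (zpowers g) E := MulAction.compHom E (actE.comp (zpowers g).subtype)
  haveI : Fintype E := Fintype.ofFinite E
  have htriv : actE g = 1 := MulEquiv.ext fun e => by
    by_contra hne
    obtain ⟨r, hr⟩ := hpg.card_orbit e
    rcases r with _ | r
    · rw [pow_zero, Nat.card_eq_one_iff_unique] at hr
      have h1 : (⟨g, mem_zpowers g⟩ : zpowers g) • e = e := congrArg Subtype.val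
        (hr.1.elim ⟨_, MulAction.mem_orbit e ⟨g, mem_zpowers g⟩⟩ ⟨e, MulAction.mem_orbit_self e⟩)
      exact hne h1
    · have hle : Nat.card (MulAction.orbit (zpowers g) e) ≤ Nat.card E :=
        Nat.card_le_card_of_injective _ Subtype.val_injective
      rw [hr, hE] at hle
      have : p ≤ p ^ (r + 1) := Nat.le_self_pow r.succ_ne_zero p
      omega
  exact S.not_dvd_card (hg ▸ Subgroup.orderOf_dvd_natCard _ (S.ker_le (MonoidHom.mem_ker.2 htriv)))

end Data

end CfsgLib.Bender.OddQuot
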