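import Cfsg.Agent.Lib.Bender.Core.Nilpotent
import Cfsg.Agent.Lib.Bender.Core.CaseA
import Cfsg.Agent.Lib.Bender.OddQuot.Field
import Cfsg.Agent.Lib.Coprime.UniqueOrderP

/-!
# The core of a strongly embedded subgroup: elements of a two-point stabilizer

`Base H b Y C`: `Y` is a non-trivial elementary abelian normal `p`-subgroup of `G_b` inside the
semiregular normal subgroup `C` containing the involutions at `b`.
-/

set_option autoImplicit false
set_option linter.style.haveILetI false

namespace CfsgLib.Bender.OddQuot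

open Subgroup MulAction
open CfsgLib.Bender.Core
open CfsgLib.Coprime (IsSylowIn conjBy)
open CfsgLib.Invol (fixed_unique invol_conj invol_smul_smul invol_inv invol_mul_self)

universe u

variable {G : Type u} [Group G] {H : Subgroup G}

/-- The setting: `Y` elementary, normal in `G_b`, inside the semiregular group `C`. -/
structure Base (H : Subgroup G) (b : G ⧸ H) (p : ℕ) (Y C : Subgroup G) : Prop where
  ctx : Ctx H
  prime : p.Prime
  ne_two : p ≠ 2
  atY : AtPoints Y b
  elem : Cfsg.IsElementaryAbelian p Y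
  ne_bot : Y ≠ ⊥
  yle : Y ≤ C
  atC : AtPoints C b
  reg : Semiregular C b
  invol : ∀ t : G, orderOf t = 2 → t • b = b → t ∈ C

variable [Finite G] {b x : G ⧸ H} {p : ℕ} {Y C : Subgroup G}

namespace Base

variable (B : Base H b p Y C)
include B

theorem isPGroup : IsPGroup p Y :=
  haveI := Fact.mk B.prime
  CfsgLib.Invol.isPGroup_of_isElementaryAbelian B.elem

theorem odd_card : Odd (Nat.card Y) := by
  haveI := Fact.mk B.prime
  exact odd_card_of_isPGroup B.ne_two B.isPGroup

theorem orderOf_ne_two (hxb : x ≠ b) {d : G} (hd : d ∈ pairStab b x) : orderOf d ≠ 2 := fun e => by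
  have h := (odd_pairStab B.ctx.se hxb.symm).of_dvd_nat (Subgroup.orderOf_dvd_natCard _ hd)
  rw [e] at h
  exact absurd h (by decide)

/-- An element of prime order fixing a third point centralizes an involution at `b`. -/
theorem exists_commute_invol (hxb : x ≠ b) {d : G} (hd : d ∈ pairStab b x)
    (hdp : (orderOf d).Prime) {z : G ⧸ H} (hzb : z ≠ b) (hzx : z ≠ x) (hdz : d • z = z) :
    ∃ t : G, orderOf t = 2 ∧ t • b = b ∧ Commute t d := by
  haveI := Fact.mk hdp
  have hdq : IsPGroup (orderOf d) (zpowers d) := IsPGroup.of_card (n := 1) (by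
    rw [Nat.card_zpowers, pow_one])
  have hfix : ∀ a : G ⧸ H, d • a = a → a ∈ fixSet (zpowers d) H := fun a ha =>
    zpowers_le.2 (mem_stabilizer_iff.2 ha)
  have h3 : 2 < (fixSet (zpowers d) H).ncard := (Set.two_lt_ncard_iff (Set.toFinite _)).2
    ⟨b, x, z, hfix b (mem_stabilizer_iff.1 hd.1), hfix x (mem_stabilizer_iff.1 hd.2), hfix z hdz,
      hxb.symm, hzb.symm, hzx.symm⟩
  obtain ⟨Q, -, hdQ, hbQ, -, -, hinv⟩ := B.ctx.exists_local_centralized B.atC B.reg B.invol
    (B.orderOf_ne_two hxb hd) hdq (hfix b (mem_stabilizer_iff.1 hd.1)) h3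
  obtain ⟨v, hvQ, hv, hvb⟩ := hinv b hbQ
  exact ⟨v, hv, hvb, (mem_centralizer_iff.1 hvQ d (hdQ (mem_zpowers d))).symm⟩

/-- An element of a pair of prime order dividing the number of involutions is fixed point free on `Y`. -/
theorem eq_one_of_commute_dvd (hxb : x ≠ b) {d : G} (hd : d ∈ pairStab b x)
    (hdp : (orderOf d).Prime) (hdm : orderOf d ∣ numInv H) {y : G} (hy : y ∈ Y)
    (hyd : Commute y d) : y = 1 := by
  by_contra hy1
  exact (B.ctx.centralizes_unique_invol B.atC B.reg B.invol B.atY B.yle B.odd_card hxb hd hdp hy hy1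
    hyd).2 hdm

/-- (F1) A Sylow subgroup of a pair for a prime dividing the number of involutions is cyclic and all
its non-identity elements fix only the pair. -/
theorem sylow_dvd (hxb : x ≠ b) {s : ℕ} [Fact s.Prime] (hs : s ∣ numInv H) {R : Subgroup G}
    (hR : IsSylowIn s R (pairStab b x)) :
    IsCyclic R ∧ ∀ g ∈ R, g ≠ 1 → ∀ z : G ⧸ H, g • z = z → z = b ∨ z = x := by
  classical
  have h := B.ctx
  haveI := Fact.mk B.prime
  obtain ⟨hRb, hR2⟩ := h.sylow_of_dvd_numInv B.atC B.reg B.invol hs hxb hR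
  have hs2 : s ≠ 2 := by
    rintro rfl
    obtain ⟨t, ht, htb⟩ := CfsgLib.Invol.exists_invol_fixing h.se b
    have hdvd : 2 ∣ Nat.card (pairStab b x) := hs.trans
      ((relIndex_fix h.se hxb.symm ht htb) ▸ relIndex_dvd_card (Subgroup.centralizer ({t} : Set G))
        (pairStab b x))
    exact Nat.not_even_iff_odd.2 (odd_pairStab h.se hxb.symm) (even_iff_two_dvd.2 hdvd)
  have hcyc : IsCyclic R := by
    refine CfsgLib.Coprime.isCyclic_of_unique_odd hs2 hR.isPGroup ?_
    have hcomm : ∀ u w : R, u ^ s = 1 → w ^ s = 1 → u ≠ 1 → Commute u w → w ∈ zpowers u := by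
      intro u w hu hw hu1 huw
      by_contra hwu
      set U := closure ({(u : G), (w : G)} : Set G) with hU
      have huw' : Commute (u : G) w := congrArg Subtype.val huw
      haveI : IsMulCommutative U := Subgroup.isMulCommutative_closure (by
        rintro a (rfl | rfl) c (rfl | rfl)
        exacts [rfl, huw'.eq, huw'.eq.symm, rfl])
      have hUR : U ≤ R := (closure_le _).2 (by
        rintro a (rfl | rfl)
        exacts [u.2, w.2])
      have hexp : ∀ a ∈ U, a ^ s = 1 := by
        intro a ha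
        induction ha using closure_induction with
        | mem a ha =>
          rcases ha with rfl | rfl
          exacts [congrArg Subtype.val hu, congrArg Subtype.val hw]
        | one => exact one_pow _
        | mul a c ha hc iha ihc =>
          rw [Commute.mul_pow (congrArg Subtype.val (mul_comm' (⟨a, ha⟩ : U) ⟨c, hc⟩)), iha, ihc,
            one_mul]
        | inv a ha iha => rw [inv_pow, iha, inv_one]
      have hnc : ¬ IsCyclic U := by
        intro hc
        have h1 : Nat.card U ∣ s := by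
          obtain ⟨g, hg⟩ := hc.exists_generator
          rw [← orderOf_eq_card_of_forall_mem_zpowers hg]
          exact orderOf_dvd_of_pow_eq_one (Subtype.ext (hexp _ g.2))
        have h2 : zpowers (u : G) ≤ U := zpowers_le.2 (subset_closure (Or.inl rfl))
        have h3 : zpowers (u : G) = U := eq_of_le_of_card_ge h2 (by
          rw [Nat.card_zpowers, orderOf_eq_prime (congrArg Subtype.val hu)
            (fun e => hu1 (Subtype.ext e))]
          exact Nat.le_of_dvd (Fact.out : s.Prime).pos h1)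
        have hwU : (w : G) ∈ zpowers (u : G) := by
          rw [h3]
          exact subset_closure (Or.inr rfl)
        obtain ⟨k, hk⟩ := mem_zpowers_iff.1 hwU
        exact hwu ⟨k, Subtype.ext hk⟩
      have hcop : (Nat.card U).Coprime (Nat.card Y) := by
        obtain ⟨i, hi⟩ := IsPGroup.iff_card.1 (hR.isPGroup.to_le hUR)
        obtain ⟨j, hj⟩ := IsPGroup.iff_card.1 B.isPGroup
        rw [hi, hj]
        refine Nat.Coprime.pow i j ((Nat.coprime_primes Fact.out B.prime).2 ?_)
        rintro rfl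
        refine Nat.Prime.one_lt B.prime |>.ne' ?_
        refine Nat.dvd_one.1 ((h.coprime_card_numInv B.atC B.reg B.invol) ▸ Nat.dvd_gcd ?_ hs)
        rcases j with _ | j
        · exact absurd (card_eq_one.1 (by rw [hj, pow_zero])) B.ne_bot
        · exact ((dvd_pow_self s j.succ_ne_zero).trans (dvd_of_eq hj.symm)).trans
            (card_dvd_of_le B.yle)
      refine B.ne_bot (le_bot_iff.1 (CfsgLib.Coprime.le_of_centralizers_le hnc
        ((hUR.trans (hR.1.trans inf_le_left)).trans B.atY.norm) hcop fun a ha ha1 y hy => ?_))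
      have hao : orderOf a = s := orderOf_eq_prime (hexp a ha) ha1
      exact mem_bot.2 (B.eq_one_of_commute_dvd hxb (hR.1 (hUR ha)) (hao ▸ Fact.out) (hao ▸ hs) hy.1
        (mem_centralizer_singleton_iff.1 hy.2))
    intro u w hu hw hu1
    haveI : Nontrivial R := ⟨⟨u, 1, hu1⟩⟩
    haveI := hR.isPGroup.center_nontrivial
    obtain ⟨z, hz⟩ := exists_prime_orderOf_dvd_card' (G := center R) s (by
      obtain ⟨k, hk⟩ := IsPGroup.iff_card.1 (hR.isPGroup.to_subgroup (center R))
      rcases k with _ | k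
      · rw [pow_zero] at hk
        exact absurd hk (Finite.one_lt_card (α := center R)).ne'
      · exact hk ▸ dvd_pow_self s k.succ_ne_zero)
    have hz1 : (z : R) ≠ 1 := fun e => (Fact.out : s.Prime).ne_one (by
      rw [← hz, show z = 1 from Subtype.ext e, orderOf_one])
    have hzs : (z : R) ^ s = 1 := by rw [← hz, ← Subgroup.coe_pow, pow_orderOf_eq_one]; rfl
    have h1 := hcomm z u hzs hu hz1 (mem_center_iff.1 z.2 u).symm
    have h2 := hcomm z w hzs hw hz1 (mem_center_iff.1 z.2 w).symm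
    have h3 : zpowers u = zpowers (z : R) := eq_of_le_of_card_ge (zpowers_le.2 h1) (by
      rw [Nat.card_zpowers, Nat.card_zpowers, orderOf_eq_prime hu hu1, orderOf_eq_prime hzs hz1])
    exact h3 ▸ h2
  refine ⟨hcyc, fun g hg hg1 => ?_⟩
  obtain ⟨v, hv, hvb, hvR⟩ := exists_swapper_normalizing h.se hxb.symm hR
  haveI := hcyc
  obtain ⟨g₀, hg₀⟩ := hcyc.exists_generator
  have hpm : v * (g₀ : G) * v⁻¹ = g₀ ∨ v * (g₀ : G) * v⁻¹ = (g₀ : G)⁻¹ := by
    set w : R := ⟨v * g₀ * v⁻¹, (mem_normalizer_iff.1 hvR _).1 g₀.2⟩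
    obtain ⟨i, hi⟩ := mem_zpowers_iff.1 (hg₀ w)
    have hi' : (g₀ : G) ^ i = v * g₀ * v⁻¹ := congrArg Subtype.val hi
    have h1 : (g₀ : G) ^ (i * i) = g₀ := by
      rw [zpow_mul, hi', conj_zpow, hi', invol_inv hv]
      simp only [← mul_assoc, invol_mul_self hv, one_mul]
      rw [mul_assoc, invol_mul_self hv, mul_one]
    obtain ⟨k, hk⟩ := IsPGroup.iff_orderOf.1 hR.isPGroup g₀
    rw [← Subgroup.orderOf_coe] at hk
    have h2 : ((s : ℤ) ^ k) ∣ (i - 1) * (i + 1) := by
      rw [show ((s : ℤ) ^ k) = (orderOf (g₀ : G) : ℤ) by rw [hk]; push_cast; rfl,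
        orderOf_dvd_iff_zpow_eq_one, show (i - 1) * (i + 1) = i * i - 1 by ring, zpow_sub_one, h1,
        mul_inv_cancel]
    have hps : Prime (s : ℤ) := Nat.prime_iff_prime_int.1 Fact.out
    have h3 : ¬ ((s : ℤ) ∣ i - 1 ∧ (s : ℤ) ∣ i + 1) := by
      rintro ⟨ha, hb⟩
      have h4 : (s : ℤ) ∣ ((2 : ℕ) : ℤ) := by simpa using (Int.dvd_sub hb ha)
      exact hs2 ((Nat.prime_dvd_prime_iff_eq Fact.out Nat.prime_two).1 (Int.natCast_dvd_natCast.1 h4))
    rcases em ((s : ℤ) ∣ i + 1) with hb | hb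
    · refine Or.inr ?_
      have h4 := hps.pow_dvd_of_dvd_mul_left k (fun ha => h3 ⟨ha, hb⟩) h2
      rw [show ((s : ℤ) ^ k) = (orderOf (g₀ : G) : ℤ) by rw [hk]; push_cast; rfl,
        orderOf_dvd_iff_zpow_eq_one, zpow_add_one, hi'] at h4
      exact eq_inv_of_mul_eq_one_left h4
    · refine Or.inl ?_
      rw [mul_comm] at h2
      have h4 := hps.pow_dvd_of_dvd_mul_left k hb h2
      rw [show ((s : ℤ) ^ k) = (orderOf (g₀ : G) : ℤ) by rw [hk]; push_cast; rfl,
        orderOf_dvd_iff_zpow_eq_one, zpow_sub_one, hi'] at h4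
      exact mul_inv_eq_one.1 h4
  rcases hpm with hc | hc
  · exfalso
    obtain ⟨c, hcv⟩ := exists_fixed h.se hv
    have hcR : c ∈ fixSet R H := fun r hr => by
      obtain ⟨i, hi⟩ := mem_zpowers_iff.1 (hg₀ ⟨r, hr⟩)
      have hi' : (g₀ : G) ^ i = r := congrArg Subtype.val hi
      have hcr : Commute v r := hi' ▸ Commute.zpow_right (mul_inv_eq_iff_eq_mul.1 hc) i
      refine mem_stabilizer_iff.2 (fixed_unique h.se hv ?_ hcv)
      rw [smul_smul, hcr.eq, mul_smul, hcv]
    rcases hR2 c hcR with rfl | rfl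
    · exact hxb (by rw [← hvb, hcv])
    · exact hxb (by rw [← invol_smul_smul hv (a := b), hvb, hcv])
  · obtain ⟨i, hi⟩ := mem_zpowers_iff.1 (hg₀ ⟨g, hg⟩)
    have hi' : (g₀ : G) ^ i = g := congrArg Subtype.val hi
    refine h.fix_of_inverted B.atC B.reg B.invol hxb (hR.1 hg) hg1 hv hvb ?_
    rw [← hi', ← conj_zpow, hc, inv_zpow]

/-- (F1) An element of a pair of prime order dividing the number of involutions fixes only the pair. -/
theorem fix_of_dvd (hxb : x ≠ b) {g : G} (hg : g ∈ pairStab b x) (hgp : (orderOf g).Prime)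
    (hgm : orderOf g ∣ numInv H) : ∀ z : G ⧸ H, g • z = z → z = b ∨ z = x := by
  haveI := Fact.mk hgp
  obtain ⟨R, hR, hgR⟩ := exists_sylowIn_ge (K := pairStab b x) (P := zpowers g)
    (IsPGroup.of_card (n := 1) (by rw [Nat.card_zpowers, pow_one])) (zpowers_le.2 hg)
  exact (B.sylow_dvd hxb hgm hR).2 g (hgR (mem_zpowers g))
    (fun e => hgp.ne_one (by rw [e, orderOf_one]))

/-- Such an element has its normalizer in `G_b` inside the pair. -/
theorem normalizer_le_of_dvd (hxb : x ≠ b) {g : G} (hg : g ∈ pairStab b x) (hgp : (orderOf g).Prime)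
    (hgm : orderOf g ∣ numInv H) {k : G} (hk : k ∈ stabilizer G b)
    (hkN : k ∈ normalizer (zpowers g : Set G)) : k ∈ pairStab b x := by
  refine ⟨hk, mem_stabilizer_iff.2 ?_⟩
  have h1 := smul_eq_of_mem (smul_mem_fixSet hkN
    (show x ∈ fixSet (zpowers g) H from zpowers_le.2 hg.2)) (mem_zpowers g)
  rcases B.fix_of_dvd hxb hg hgp hgm _ h1 with e | e
  · exact absurd (smul_left_cancel k (e.trans (mem_stabilizer_iff.1 hk).symm)) hxb
  · exact e

/-- Such an element centralizes no involution at `b`. -/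
theorem not_commute_invol_of_dvd (hxb : x ≠ b) {g : G} (hg : g ∈ pairStab b x)
    (hgp : (orderOf g).Prime) (hgm : orderOf g ∣ numInv H) {t : G} (ht : orderOf t = 2)
    (htb : t • b = b) (htg : Commute t g) : False := by
  have h1 : g • t • x = t • x := by rw [smul_smul, ← htg.eq, mul_smul, mem_stabilizer_iff.1 hg.2]
  rcases B.fix_of_dvd hxb hg hgp hgm _ h1 with e | e
  · exact hxb (smul_left_cancel t (e.trans htb.symm))
  · exact hxb (fixed_unique B.ctx.se ht e htb)

/-- (F2) A subgroup of a pair centralizing an involution at `b` has order prime to their number. -/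
theorem coprime_numInv (hxb : x ≠ b) {P : Subgroup G} (hP : P ≤ pairStab b x) {t : G}
    (ht : orderOf t = 2) (htb : t • b = b) (htP : ∀ d ∈ P, Commute t d) :
    (Nat.card P).Coprime (numInv H) := by
  refine Nat.coprime_of_dvd fun s hs hsP hsm => ?_
  haveI := Fact.mk hs
  obtain ⟨d, hd⟩ := exists_prime_orderOf_dvd_card' (G := P) s hsP
  rw [← Subgroup.orderOf_coe] at hd
  exact B.not_commute_invol_of_dvd hxb (hP d.2) (hd ▸ hs) (hd ▸ hsm) ht htb (htP d d.2)

/-- (F2) An element of a pair centralizing two involutions at `b` centralizes no odd element of `C`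
normal in `G_b`. -/
theorem eq_one_of_four (hxb : x ≠ b) {Z : Subgroup G} (hZ : AtPoints Z b) (hZC : Z ≤ C)
    (hZodd : Odd (Nat.card Z)) {d : G} (hd : d ∈ pairStab b x) (hd1 : d ≠ 1) {t s : G}
    (ht : orderOf t = 2) (htb : t • b = b) (htd : Commute t d) (hs : orderOf s = 2)
    (hsb : s • b = b) (hsd : Commute s d) (hne : t ≠ s) {z : G} (hz : z ∈ Z) (hzd : Commute z d) :
    z = 1 := by
  by_contra hz1
  obtain ⟨q, hq, hqd⟩ := Nat.exists_prime_and_dvd (n := orderOf d)
    (fun e => hd1 (orderOf_eq_one_iff.1 e))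
  have hd' : orderOf (d ^ (orderOf d / q)) = q := orderOf_pow_orderOf_div (orderOf_pos d).ne' hqd
  obtain ⟨⟨v, -, huniq⟩, -⟩ := B.ctx.centralizes_unique_invol B.atC B.reg B.invol hZ hZC hZodd hxb
    (pow_mem hd (orderOf d / q)) (hd'.symm ▸ hq) hz hz1 (hzd.pow_right _)
  exact hne ((huniq t ⟨ht, htb, htd.pow_right _⟩).trans (huniq s ⟨hs, hsb, hsd.pow_right _⟩).symm)

/-- (F3) The elements of `Y` centralized by an element of prime order of a pair form a group of order
at most `p`. -/
theorem card_inf_centralizer_le (hxb : x ≠ b) {d : G} (hd : d ∈ pairStab b x)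
    (hdp : (orderOf d).Prime) :
    Nat.card ↥(Y ⊓ Subgroup.centralizer ({d} : Set G)) ≤ p := by
  haveI := Fact.mk B.prime
  set X := Y ⊓ Subgroup.centralizer ({d} : Set G) with hX
  rcases (Subgroup.bot_or_exists_ne_one X) with e | ⟨y, hy, hy1⟩
  · rw [e, card_bot]; exact B.prime.one_le
  have hyd : Commute y d := mem_centralizer_singleton_iff.1 hy.2
  obtain ⟨⟨v, ⟨hv, hvb, hvd⟩, huniq⟩, -⟩ := B.ctx.centralizes_unique_invol B.atC B.reg B.invol B.atY
    B.yle B.odd_card hxb hd hdp hy.1 hy1 hyd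
  set L := Subgroup.centralizer ({d} : Set G) with hL
  have hvL : v ∈ L := mem_centralizer_singleton_iff.2 hvd.eq
  have hlone : Lonely L := (lonely_of_one hvL hv fun w hwL hwo hcw => huniq w
    ⟨hwo, mem_stabilizer_iff.1 (centralizer_le_stabilizer B.ctx.se hv hvb
      (mem_centralizer_singleton_iff.2 hcw.symm.eq)), mem_centralizer_singleton_iff.1 hwL⟩).1
  haveI := Fact.mk hdp
  have hyb : y • b = b := mem_stabilizer_iff.1 (B.atY.le hy.1)
  have h3 : 2 < (fixSet (zpowers d) H).ncard := by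
    have hfix : ∀ a : G ⧸ H, d • a = a → a ∈ fixSet (zpowers d) H := fun a ha =>
      zpowers_le.2 (mem_stabilizer_iff.2 ha)
    exact (Set.two_lt_ncard_iff (Set.toFinite _)).2
      ⟨b, x, y • x, hfix b (mem_stabilizer_iff.1 hd.1), hfix x (mem_stabilizer_iff.1 hd.2),
        hfix _ (by rw [smul_smul, ← hyd.eq, mul_smul, mem_stabilizer_iff.1 hd.2]), hxb.symm,
        fun e => hxb (smul_left_cancel y (e.symm.trans hyb.symm)),
        fun e => hy1 (B.reg y (B.yle hy.1) x hxb e.symm)⟩
  obtain ⟨g, hgd, hgb⟩ := B.ctx.exists_commute_moving B.atC B.reg B.invol (B.orderOf_ne_two hxb hd)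
    (IsPGroup.of_card (n := 1) (by rw [Nat.card_zpowers, pow_one])) (mem_stabilizer_iff.1 hd.1) h3
  haveI := B.elem.1
  refine card_le_of_fix_one B.ctx.se hlone hvL hv hvb (mem_centralizer_singleton_iff.2 hgd.eq) hgb
    inf_le_right (inf_le_left.trans B.atY.le) ⟨⟨⟨fun u w => Subtype.ext ?_⟩⟩, ?_⟩ fun z hz hz1 c hc => ?_
  · exact (congrArg Subtype.val (mul_comm' (⟨u, u.2.1⟩ : Y) ⟨w, w.2.1⟩) : (u : G) * w = w * u)
  · exact fun z hz => B.elem.2 z hz.1
  · by_contra hcb
    exact hz1 (B.reg z (B.yle hz.1) c hcb hc)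

end Base

end CfsgLib.Bender.OddQuot
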