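import Cfsg.Agent.Lib.Bender.OddQuot.FixTrans
import Cfsg.Agent.Lib.CFun.OddFpfCentralize
import Cfsg.Agent.Lib.SolvSignalizer.Act
import Cfsg.Agent.S0205

/-!
# An odd group acting trivially on the involutions of the fixed points lies in the pair

`mul_conj_mem_centralizer`: an odd group `W` acting on a two-group `S`, trivially on its
involutions, and an operator `f` of odd prime order without fixed points on `S` commute modulo the
centralizer of `S`. `Base.le_pair_sup_of_odd_image`: the subgroups of the centralizer of `P` in `G_b`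
which are odd modulo `C` and trivial on the involutions at `b` centralizing `P` lie in the pair
modulo `C`.
-/

set_option autoImplicit false
set_option linter.style.haveILetI false

namespace CfsgLib.Bender.OddQuot

open Subgroup MulAction
open CfsgLib.Bender.Core
open CfsgLib.Coprime (IsSylowIn conjBy)
open CfsgLib.Invol (fixed_unique invol_conj invol_smul_smul invol_inv invol_mul_self)
open scoped commutatorElement

universe u

section Generic

variable {Γ : Type u} [Group Γ] [Finite Γ] {S W : Subgroup Γ} {f : Γ} {r : ℕ}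

theorem commute_of_trivial_on_invol (hS : IsPGroup 2 S) (hW : Odd (Nat.card W)) (hr : r.Prime)
    (hr2 : r ≠ 2) (hfr : f ^ r = 1) (hfS : f ∈ normalizer (S : Set Γ))
    (hfW : f ∈ normalizer (W : Set Γ)) (hWS : W ≤ normalizer (S : Set Γ))
    (hfix : ∀ s ∈ S, f * s = s * f → s = 1)
    (htriv : ∀ w ∈ W, ∀ s ∈ S, s * s = 1 → Commute w s)
    (hfaith : ∀ w ∈ W, (∀ s ∈ S, Commute w s) → w = 1) {w : Γ} (hw : w ∈ W) : Commute w f := by
  classical
  haveI := Fact.mk hr
  haveI : Fact (Nat.Prime 2) := ⟨Nat.prime_two⟩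
  have hrW : ¬ r ∣ Nat.card W := by
    intro hd
    obtain ⟨k₀, hk₀⟩ := exists_prime_orderOf_dvd_card' (G := W) r hd
    have hk₀1 : (k₀ : Γ) ≠ 1 := fun e => hr.ne_one (by
      rw [← hk₀, show k₀ = 1 from Subtype.ext e, orderOf_one])
    have hfr' : IsPGroup r (zpowers f) := by
      rintro ⟨_, i, rfl⟩
      exact ⟨1, Subtype.ext (by
        show (f ^ i) ^ r ^ 1 = 1
        rw [pow_one, ← zpow_natCast, zpow_comm, zpow_natCast, hfr, one_zpow])⟩
    set U := W ⊔ zpowers f with hU
    obtain ⟨R, hR, hfR⟩ := CfsgLib.Bender.exists_sylowIn_ge (K := U) hfr' le_sup_right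
    obtain ⟨g, hg, hgR⟩ := CfsgLib.Bender.exists_conjBy_le (Q := zpowers (k₀ : Γ))
      (IsPGroup.of_card (n := 1) (by
        rw [Nat.card_zpowers, Subgroup.orderOf_coe, hk₀, pow_one]))
      (zpowers_le.2 (mem_sup_left k₀.2)) hR
    have hUW : U ≤ normalizer (W : Set Γ) := sup_le le_normalizer (zpowers_le.2 hfW)
    have hgk : g * (k₀ : Γ) * g⁻¹ ∈ R ⊓ W :=
      ⟨hgR ⟨_, mem_zpowers _, rfl⟩, (mem_normalizer_iff.1 (hUW hg) _).1 k₀.2⟩
    have hne : R ⊓ W ≠ ⊥ := fun e => hk₀1 (conj_eq_one_iff.1 ((eq_bot_iff_forall _).1 e _ hgk))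
    have hnorm : zpowers f ≤ normalizer ((R ⊓ W : Subgroup Γ) : Set Γ) :=
      zpowers_le.2 (mem_normalizer_inf (le_normalizer (hfR (mem_zpowers f))) hfW)
    obtain ⟨k₁, hk₁, hk₁1⟩ := (Subgroup.bot_or_exists_ne_one _).resolve_left
      (CfsgLib.SolvSignalizer.exists_fixed_ne_one (hR.isPGroup.to_le inf_le_left) hfr' hnorm hne)
    obtain ⟨j, hj⟩ := IsPGroup.iff_orderOf.1 hR.isPGroup ⟨k₁, hk₁.1.1⟩
    rw [← Subgroup.orderOf_coe] at hj
    change orderOf k₁ = r ^ j at hj
    obtain ⟨j, rfl⟩ : ∃ i, j = i + 1 := ⟨j - 1, by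
      rcases j with _ | j
      · exact absurd (orderOf_eq_one_iff.1 (hj.trans (pow_zero r))) hk₁1
      · rfl⟩
    set k := k₁ ^ r ^ j with hk
    have hko : orderOf k = r := by
      rw [hk, orderOf_pow' _ (pow_ne_zero j hr.ne_zero), hj,
        Nat.gcd_eq_right (pow_dvd_pow r j.le_succ), Nat.pow_div j.le_succ hr.pos]
      simp
    have hkW : k ∈ W := pow_mem hk₁.1.2 _
    have hkf : Commute k f :=
      (show Commute k₁ f from (mem_centralizer_iff.1 hk₁.2 f (mem_zpowers f)).symm).pow_left _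
    have hk1 : k ≠ 1 := fun e => hr.ne_one (by rw [← hko, e, orderOf_one])
    -- there is an involution in `S`
    obtain ⟨e, heS, he2, he1⟩ : ∃ e ∈ S, e * e = 1 ∧ e ≠ 1 := by
      by_contra hcon
      push Not at hcon
      refine hk1 (hfaith k hkW fun s hs => ?_)
      suffices s = 1 by rw [this]; exact Commute.one_right k
      obtain ⟨i, hi⟩ := hS ⟨s, hs⟩
      have hi' : s ^ 2 ^ i = 1 := congrArg Subtype.val hi
      clear hi
      induction i with
      | zero => simpa using hi'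
      | succ i ih =>
        refine ih (hcon _ (pow_mem hs _) ?_)
        rw [← pow_two, ← pow_mul, ← pow_succ]
        exact hi'
    set A := closure ({f, k} : Set Γ) with hA
    haveI : IsMulCommutative A := Subgroup.isMulCommutative_closure (by
      rintro a (rfl | rfl) c (rfl | rfl)
      exacts [rfl, hkf.eq.symm, hkf.eq, rfl])
    have hform : ∀ a ∈ A, ∃ i j : ℕ, a = f ^ i * k ^ j := by
      intro a ha
      induction ha using closure_induction with
      | mem a ha =>
        rcases ha with rfl | rfl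
        exacts [⟨1, 0, by simp⟩, ⟨0, 1, by simp⟩]
      | one => exact ⟨0, 0, by simp⟩
      | mul a c _ _ iha ihc =>
        obtain ⟨i, j, rfl⟩ := iha
        obtain ⟨i', j', rfl⟩ := ihc
        refine ⟨i + i', j + j', ?_⟩
        rw [mul_assoc, ← mul_assoc (k ^ j), (hkf.pow_pow j i').eq, mul_assoc, ← mul_assoc,
          ← pow_add, ← pow_add]
      | inv a _ iha =>
        obtain ⟨i, j, rfl⟩ := iha
        refine ⟨(r - 1) * i, (r - 1) * j, inv_eq_of_mul_eq_one_right ?_⟩
        rw [mul_assoc, ← mul_assoc (k ^ j), (hkf.pow_pow j _).eq, mul_assoc, ← mul_assoc,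
          ← pow_add, ← pow_add]
        have hr1 : ∀ n : ℕ, n + (r - 1) * n = r * n := fun n => by
          rw [← one_add_mul, Nat.add_sub_cancel' hr.one_le]
        rw [hr1, hr1, pow_mul, pow_mul, hfr, ← hko, pow_orderOf_eq_one, one_pow, one_pow, one_mul]
    have hAexp : ∀ a ∈ A, a ^ r = 1 := fun a ha => by
      obtain ⟨i, j, rfl⟩ := hform a ha
      rw [(hkf.symm.pow_pow i j).mul_pow, ← pow_mul, ← pow_mul, mul_comm i, mul_comm j, pow_mul,
        pow_mul, hfr, ← hko, pow_orderOf_eq_one, one_pow, one_pow, one_mul]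
    have hkA : k ∈ A := subset_closure (Or.inr rfl)
    have hfne : ∀ i : ℕ, ¬ r ∣ i → ∀ s ∈ S, f ^ i * s = s * f ^ i → s = 1 := by
      intro i hi s hs h
      obtain ⟨i', hi'⟩ := Nat.exists_mul_mod_eq_one_of_coprime
        ((hr.coprime_iff_not_dvd.2 hi).symm) hr.one_lt
      refine hfix s hs ?_
      have h2 : (f ^ i) ^ i' = f := by
        rw [← pow_mul]
        conv_lhs => rw [← Nat.div_add_mod (i * i') r, hi'.2, pow_add, pow_mul, hfr, one_pow, one_mul,
          pow_one]
      rw [← h2]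
      exact ((show Commute (f ^ i) s from h).pow_left i').eq
    have hnc : ¬ IsCyclic A := by
      intro hc
      obtain ⟨g, hg⟩ := hc.exists_generator
      have hcard : Nat.card A ∣ r := by
        rw [← orderOf_eq_card_of_forall_mem_zpowers hg]
        exact orderOf_dvd_of_pow_eq_one (Subtype.ext (hAexp _ g.2))
      have hzk : zpowers k = A := eq_of_le_of_card_ge (zpowers_le.2 hkA) (by
        rw [Nat.card_zpowers, hko]
        exact Nat.le_of_dvd hr.pos hcard)
      obtain ⟨i, hi⟩ := mem_zpowers_iff.1 (hzk ▸ subset_closure (Or.inl rfl) : f ∈ zpowers k)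
      exact he1 (hfix e heS (hi ▸ ((htriv k hkW e heS he2).zpow_left i).eq))
    have hAS : A ≤ normalizer (S : Set Γ) := (closure_le _).2 (by
      rintro a (rfl | rfl)
      exacts [hfS, hWS hkW])
    have hcop : (Nat.card A).Coprime (Nat.card S) := by
      obtain ⟨i, hi⟩ := IsPGroup.iff_card.1 hS
      obtain ⟨l, hl⟩ := IsPGroup.iff_card.1
        (show IsPGroup r A from fun a => ⟨1, Subtype.ext (by simpa using hAexp a a.2)⟩)
      rw [hi, hl]
      exact Nat.Coprime.pow l i ((Nat.coprime_primes hr Nat.prime_two).2 hr2)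
    have hSk : S ≤ Subgroup.centralizer ({k} : Set Γ) := by
      refine CfsgLib.Coprime.le_of_centralizers_le hnc hAS hcop fun a ha ha1 => ?_
      obtain ⟨i, j, rfl⟩ := hform a ha
      rintro s ⟨hsS, hsa⟩
      by_cases hi : r ∣ i
      · obtain ⟨i', rfl⟩ := hi
        rw [pow_mul, hfr, one_pow, one_mul] at ha1 hsa
        have hj : ¬ r ∣ j := fun hd => by
          obtain ⟨j', rfl⟩ := hd
          exact ha1 (by rw [pow_mul, ← hko, pow_orderOf_eq_one, one_pow])
        have hzk : zpowers (k ^ j) = zpowers k :=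
          eq_of_le_of_card_ge (zpowers_le.2 (pow_mem (mem_zpowers k) j)) (by
            rw [Nat.card_zpowers, Nat.card_zpowers, orderOf_pow' (n := j) k (fun e => hj (by rw [e]; exact dvd_zero r)),
              hko, Nat.Coprime.gcd_eq_one (hr.coprime_iff_not_dvd.2 hj), Nat.div_one])
        obtain ⟨l, hl⟩ := mem_zpowers_iff.1 (hzk ▸ mem_zpowers k : k ∈ zpowers (k ^ j))
        rw [mem_centralizer_singleton_iff, ← hl]
        exact ((show Commute s (k ^ j) from mem_centralizer_singleton_iff.1 hsa).zpow_right l).eq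
      · suffices s = 1 by rw [this]; exact one_mem _
        obtain ⟨l, hl⟩ := hS ⟨s, hsS⟩
        have hl' : s ^ 2 ^ l = 1 := congrArg Subtype.val hl
        clear hl
        induction l with
        | zero => simpa using hl'
        | succ l ih =>
          refine ih ?_
          have h2 : s ^ 2 ^ l * s ^ 2 ^ l = 1 := by
            rw [← pow_two, ← pow_mul, ← pow_succ]
            exact hl'
          refine hfne i hi _ (pow_mem hsS _) ?_
          have h3 : Commute (f ^ i * k ^ j) (s ^ 2 ^ l) :=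
            (show Commute (f ^ i * k ^ j) s from
              (mem_centralizer_singleton_iff.1 hsa).symm).pow_right _
          have h4 : Commute (k ^ j) (s ^ 2 ^ l) :=
            (htriv k hkW _ (pow_mem hsS _) h2).pow_left j
          have h5 := h3.mul_left h4.inv_left
          rw [mul_inv_cancel_right] at h5
          exact h5.eq
    exact hk1 (hfaith k hkW fun s hs => (mem_centralizer_singleton_iff.1 (hSk hs)).symm)
  have h2W : ¬ 2 ∣ Nat.card W := fun h => Nat.not_even_iff_odd.2 hW (even_iff_two_dvd.2 h)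
  have hc : ⁅w, f⁆ ∈ centralizer (S : Set Γ) :=
    CfsgLib.CFun.FpfComm.commutator_le_centralizer hS hr hr2 hfr hfS hfW hWS hW hrW h2W hfix
      (commutator_mem_commutator hw (mem_zpowers f))
  have hmem : ⁅w, f⁆ ∈ W := by
    rw [commutatorElement_def, mul_assoc, mul_assoc]
    exact mul_mem hw (by rw [← mul_assoc]; exact (mem_normalizer_iff.1 hfW _).1 (inv_mem hw))
  exact commutatorElement_eq_one_iff_mul_comm.1
    (hfaith _ hmem fun s hs => (mem_centralizer_iff.1 hc s hs).symm)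

theorem mul_conj_mem_centralizer (hS : IsPGroup 2 S) (hW : Odd (Nat.card W)) (hr : r.Prime)
    (hr2 : r ≠ 2) (hfr : f ^ r = 1) (hfS : f ∈ normalizer (S : Set Γ))
    (hfW : f ∈ normalizer (W : Set Γ)) (hWS : W ≤ normalizer (S : Set Γ))
    (hfix : ∀ s ∈ S, f * s = s * f → s = 1)
    (htriv : ∀ w ∈ W, ∀ s ∈ S, s * s = 1 → Commute w s) {w : Γ} (hw : w ∈ W) :
    w * f * w⁻¹ * f⁻¹ ∈ W ⊓ centralizer (S : Set Γ) := by
  classical
  set O := W ⊓ centralizer (S : Set Γ) with hO
  set N := normalizer (O : Set Γ) with hN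
  have hcent : ∀ g ∈ normalizer (S : Set Γ),
      g ∈ normalizer (centralizer (S : Set Γ) : Set Γ) :=
    fun g hg => CfsgLib.Coprime.normalizer_le_normalizer_centralizer S hg
  have hfN : f ∈ N := mem_normalizer_inf hfW (hcent f hfS)
  have hWN : W ≤ N := fun g hg => mem_normalizer_inf (le_normalizer hg) (hcent g (hWS hg))
  have hSN : S ≤ N := fun g hg => mem_normalizer_iff.2 fun z => by
    have h1 : ∀ {g : Γ}, g ∈ S → ∀ {z : Γ}, z ∈ O → g * z * g⁻¹ = z := fun hg z hz => by
      rw [mem_centralizer_iff.1 hz.2 _ hg, mul_inv_cancel_right]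
    refine ⟨fun hz => by rwa [h1 hg hz], fun hz => ?_⟩
    have h2 := h1 (inv_mem hg) hz
    have h3 : z = g * z * g⁻¹ := by
      conv_lhs => rw [show z = g⁻¹ * (g * z * g⁻¹) * g⁻¹⁻¹ by group, h2]
    rwa [h3]
  have hSW : ∀ z ∈ S, z ∈ W → z = 1 := fun z hzS hzW => by
    obtain ⟨i, hi⟩ := IsPGroup.iff_card.1 hS
    exact orderOf_eq_one_iff.1 (Nat.eq_one_of_dvd_coprimes
      ((Nat.coprime_two_left.2 hW).pow_left i) (hi ▸ Subgroup.orderOf_dvd_natCard _ hzS)
      (Subgroup.orderOf_dvd_natCard _ hzW))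
  haveI : (O.subgroupOf N).Normal := (normal_subgroupOf_iff_le_normalizer le_normalizer).2 le_rfl
  let π := QuotientGroup.mk' (O.subgroupOf N)
  have hπ : ∀ {g : N}, π g = 1 ↔ (g : Γ) ∈ O := fun {g} => by
    rw [QuotientGroup.mk'_apply, QuotientGroup.eq_one_iff, mem_subgroupOf]
  have hnorm : ∀ {K : Subgroup Γ}, ∀ g : N, (g : Γ) ∈ normalizer (K : Set Γ) →
      π g ∈ normalizer ((K.subgroupOf N).map π : Set _) := fun {K} g hg =>
    Subgroup.le_normalizer_map π ⟨g, mem_normalizer_iff.2 fun z => mem_normalizer_iff.1 hg z, rfl⟩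
  have hcomm : ∀ a c : N, Commute (π a) (π c) →
      (a : Γ) * c * (a : Γ)⁻¹ * (c : Γ)⁻¹ ∈ O := fun a c h => by
    have h1 : π (a * c * a⁻¹ * c⁻¹) = 1 := by
      simp only [map_mul, map_inv]
      rw [h.eq, mul_inv_cancel_right, mul_inv_cancel]
    exact hπ.1 h1
  have hoddW : Odd (Nat.card ↥((W.subgroupOf N).map π)) :=
    hW.of_dvd_nat ((card_map_dvd _ _).trans (Nat.card_congr (subgroupOfEquivOfLe hWN).toEquiv).dvd)
  have key := commute_of_trivial_on_invol (S := (S.subgroupOf N).map π) (W := (W.subgroupOf N).map π)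
    (f := π ⟨f, hfN⟩) (r := r) ((hS.comap_subtype).map _) hoddW hr hr2
    (by rw [← map_pow, show (⟨f, hfN⟩ : N) ^ r = 1 from Subtype.ext hfr, map_one])
    (hnorm _ hfS) (hnorm _ hfW)
    (by rintro _ ⟨a, ha, rfl⟩; exact hnorm _ (hWS ha))
    (by
      rintro _ ⟨z, hz, rfl⟩ hfz
      have h1 := hcomm ⟨f, hfN⟩ z hfz
      have h2 : (f * (z : Γ) * f⁻¹) * (z : Γ)⁻¹ = 1 :=
        hSW _ (mul_mem ((mem_normalizer_iff.1 hfS _).1 hz) (inv_mem hz)) h1.1
      rw [show z = 1 from Subtype.ext (hfix z hz (mul_inv_eq_iff_eq_mul.1 (mul_inv_eq_one.1 h2))),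
        map_one])
    (by
      rintro _ ⟨a, ha, rfl⟩ _ ⟨z, hz, rfl⟩ hz2
      rw [← map_mul, hπ] at hz2
      have h1 : (z : Γ) * z = 1 := hSW _ (mul_mem hz hz) hz2.1
      have h2 : a * z = z * a := Subtype.ext (htriv _ ha _ hz h1).eq
      exact (show Commute a z from h2).map π)
    (by
      rintro _ ⟨a, ha, rfl⟩ h
      refine hπ.2 ⟨ha, mem_centralizer_iff.2 fun z hz => ?_⟩
      have h1 := hcomm a ⟨z, hSN hz⟩ (h _ ⟨⟨z, hSN hz⟩, hz, rfl⟩)
      have h2 : (a : Γ) * z * (a : Γ)⁻¹ * z⁻¹ = 1 :=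
        hSW _ (mul_mem ((mem_normalizer_iff.1 (hWS ha) _).1 hz) (inv_mem hz)) h1.1
      exact (mul_inv_eq_iff_eq_mul.1 (mul_inv_eq_one.1 h2)).symm)
    (w := π ⟨w, hWN hw⟩) ⟨_, hw, rfl⟩
  exact hcomm _ _ key

end Generic

variable {G : Type u} [Group G] [Finite G] {H : Subgroup G} {b x : G ⧸ H} {p : ℕ} {Y C : Subgroup G}

namespace Base

variable (B : Base H b p Y C)
include B

/-- A subgroup of a pair centralizing two involutions at `b` has order prime to `|C|`. -/
theorem coprime_semireg (hxb : x ≠ b) {P : Subgroup G} (hP : P ≤ pairStab b x) {t s : G}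
    (ht : orderOf t = 2) (htb : t • b = b) (hs : orderOf s = 2) (hsb : s • b = b) (hts : t ≠ s)
    (htP : ∀ d ∈ P, Commute t d) (hsP : ∀ d ∈ P, Commute s d) :
    (Nat.card P).Coprime (Nat.card C) := by
  refine Nat.coprime_of_dvd fun q hq hqP hqC => ?_
  haveI := Fact.mk hq
  have hPodd := (odd_pairStab B.ctx.se hxb.symm).of_dvd_nat (card_dvd_of_le hP)
  have hq2 : q ≠ 2 := by
    rintro rfl
    exact Nat.not_even_iff_odd.2 hPodd (even_iff_two_dvd.2 hqP)
  haveI := B.ctx.isNilpotent B.atC B.reg B.invol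
  let Q : Sylow q C := default
  haveI := Q.characteristic_of_normal
    (((Group.isNilpotent_of_finite_tfae (G := C)).out 0 3 rfl rfl).1 inferInstance q ⟨hq⟩ Q)
  set Z := (Q : Subgroup C).map C.subtype with hZ
  have hZat := Ctx.atPoints_map_subtype B.atC (Q : Subgroup C)
  obtain ⟨d, hd⟩ := exists_prime_orderOf_dvd_card' (G := P) q hqP
  rw [← Subgroup.orderOf_coe] at hd
  have hne : Z ≠ ⊥ := by
    rw [hZ, Ne, Subgroup.map_eq_bot_iff_of_injective _ C.subtype_injective]
    exact Q.ne_bot_of_dvd_card hqC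
  obtain ⟨z, hz, hz1⟩ := (Subgroup.bot_or_exists_ne_one _).resolve_left
    (CfsgLib.SolvSignalizer.exists_fixed_ne_one (Q.2.map C.subtype)
      (IsPGroup.of_card (n := 1) (by rw [Nat.card_zpowers, hd, pow_one]))
      (zpowers_le.2 (hZat.norm (hP d.2).1)) hne)
  exact hz1 (B.eq_one_of_four hxb hZat (map_subtype_le _)
    (odd_card_of_isPGroup hq2 (Q.2.map C.subtype)) (hP d.2)
    (fun e => hq.ne_one (by rw [← hd, e, orderOf_one])) ht htb (htP d d.2) hs hsb (hsP d d.2) hts
    hz.1 (mem_centralizer_iff.1 hz.2 _ (mem_zpowers _)).symm)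

/-- The fixed points in `C` of such a subgroup form a two-group. -/
theorem isPGroup_inf_centralizer (hxb : x ≠ b) {P : Subgroup G} (hP : P ≤ pairStab b x)
    (hP1 : P ≠ ⊥) {t s : G} (ht : orderOf t = 2) (htb : t • b = b) (hs : orderOf s = 2)
    (hsb : s • b = b) (hts : t ≠ s) (htP : ∀ d ∈ P, Commute t d) (hsP : ∀ d ∈ P, Commute s d) :
    IsPGroup 2 ↥(C ⊓ Subgroup.centralizer (P : Set G)) := by
  set K := C ⊓ Subgroup.centralizer (P : Set G) with hK
  refine IsPGroup.of_card (n := (Nat.card K).primeFactorsList.length)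
    (Nat.eq_prime_pow_of_unique_prime_dvd Nat.card_pos.ne' fun {q} hq hqK => ?_)
  by_contra hq2
  haveI := Fact.mk hq
  obtain ⟨⟨z, hzC, hzP⟩, hz⟩ := exists_prime_orderOf_dvd_card' (G := K) q hqK
  rw [← Subgroup.orderOf_coe] at hz
  change orderOf z = q at hz
  haveI := B.ctx.isNilpotent B.atC B.reg B.invol
  let Q : Sylow q C := default
  haveI hQn := ((Group.isNilpotent_of_finite_tfae (G := C)).out 0 3 rfl rfl).1 inferInstance q ⟨hq⟩ Q
  haveI := Q.characteristic_of_normal hQn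
  obtain ⟨Q', hQ'⟩ := (IsPGroup.of_card (p := q) (n := 1) (by
    rw [Nat.card_zpowers, pow_one, ← Subgroup.orderOf_coe, ← hz]) :
      IsPGroup q (zpowers (⟨z, hzC⟩ : C))).exists_le_sylow
  letI := Sylow.unique_of_normal Q hQn
  have hzQ : z ∈ (Q : Subgroup C).map C.subtype :=
    ⟨⟨z, hzC⟩, Subsingleton.elim Q' Q ▸ hQ' (mem_zpowers _), rfl⟩
  obtain ⟨d, hd, hd1⟩ := (Subgroup.bot_or_exists_ne_one P).resolve_left hP1
  have h1 := B.eq_one_of_four hxb (Ctx.atPoints_map_subtype B.atC _) (map_subtype_le _)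
    (odd_card_of_isPGroup hq2 (Q.2.map C.subtype)) (hP hd) hd1 ht htb (htP d hd) hs hsb (hsP d hd)
    hts hzQ (mem_centralizer_iff.1 hzP d hd).symm
  rw [h1, orderOf_one] at hz
  exact hq.ne_one hz.symm

/-- A subgroup of a pair centralizing an involution at each point is centralized by a swapper taking
one involution to the other. -/
theorem exists_swapper_centralizing (hxb : x ≠ b) {P : Subgroup G} {t v : G} (ht : orderOf t = 2)
    (htb : t • b = b) (htP : ∀ d ∈ P, Commute t d) (hv : orderOf v = 2) (hvx : v • x = x)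
    (hvP : ∀ d ∈ P, Commute v d) :
    ∃ u ∈ Subgroup.centralizer (P : Set G), orderOf u = 2 ∧ u • b = x ∧ u * t * u⁻¹ = v := by
  rcases Nat.even_or_odd (orderOf (t * v)) with hev | hodd
  · exfalso
    set z' := (t * v) ^ (orderOf (t * v) / 2) with hz'
    have hzo : orderOf z' = 2 := CfsgLib.Invol.orderOf_pow_half hev
    have hzu : Commute z' t :=
      CfsgLib.Invol.commute_pow_half (CfsgLib.Invol.invol_conj_mul ht hv) hev
    have hzw : Commute z' v :=
      CfsgLib.Invol.commute_pow_half (CfsgLib.Invol.invol_conj_mul' ht hv) hev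
    have hzb' : z' • b = b := mem_stabilizer_iff.1 (centralizer_le_stabilizer B.ctx.se ht htb
      (mem_centralizer_singleton_iff.2 hzu.eq))
    have hzz : z' • x = x := mem_stabilizer_iff.1 (centralizer_le_stabilizer B.ctx.se hv hvx
      (mem_centralizer_singleton_iff.2 hzw.eq))
    exact hxb (fixed_unique B.ctx.se hzo hzz hzb')
  obtain ⟨d, hd, he⟩ := CfsgLib.Invol.exists_conj_eq_of_odd ht hv hodd
  obtain ⟨i, hi⟩ := mem_zpowers_iff.1 hd
  have hinv : t * d * t⁻¹ = d⁻¹ := by
    rw [← hi, ← conj_zpow, ← zpow_neg, ← inv_zpow']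
    congr 1
    rw [mul_inv_rev, invol_inv ht, invol_inv hv, ← mul_assoc t t, invol_mul_self ht, one_mul]
  have hL : ∀ g ∈ ({t, v} : Set G), g ∈ Subgroup.centralizer (P : Set G) := by
    rintro g (rfl | rfl)
    exacts [mem_centralizer_iff.2 fun a ha => (htP a ha).symm.eq,
      mem_centralizer_iff.2 fun a ha => (hvP a ha).symm.eq]
  have hdL : d ∈ Subgroup.centralizer (P : Set G) :=
    zpowers_le.2 (mul_mem (hL t (Or.inl rfl)) (hL v (Or.inr rfl))) hd
  have hdb : d • b = x := (fixed_unique B.ctx.se hv hvx (by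
    rw [← he, mul_smul, mul_smul, inv_smul_smul, htb])).symm
  have hub : (d * t) • b = x := by rw [mul_smul, htb, hdb]
  refine ⟨d * t, mul_mem hdL (hL t (Or.inl rfl)), orderOf_eq_prime ?_ fun e => ?_, hub, ?_⟩
  · rw [pow_two, mul_assoc, ← mul_assoc t d t]
    nth_rw 2 [← invol_inv ht]
    rw [hinv, mul_inv_cancel]
  · rw [e, one_smul] at hub
    exact hxb hub.symm
  · rw [← he, mul_inv_rev, invol_inv ht]
    simp only [mul_assoc]
    rw [← mul_assoc t t d⁻¹, invol_mul_self ht, one_mul]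

/-- A subgroup of the centralizer of `P` in `G_b` which is odd modulo `C` and fixes the involutions
at `b` centralizing `P` lies in the pair modulo `C`. -/
theorem le_pair_sup_of_odd_image (hxb : x ≠ b) {P : Subgroup G} (hP : P ≤ pairStab b x)
    (hP1 : P ≠ ⊥) {t s : G} (ht : orderOf t = 2) (htb : t • b = b) (hs : orderOf s = 2)
    (hsb : s • b = b) (hts : t ≠ s) (htP : ∀ d ∈ P, Commute t d) (hsP : ∀ d ∈ P, Commute s d)
    {W : Subgroup G} (hWL : W ≤ Subgroup.centralizer (P : Set G) ⊓ stabilizer G b)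
    (hWC : C ⊓ Subgroup.centralizer (P : Set G) ≤ W)
    (hodd : Odd ((C ⊓ Subgroup.centralizer (P : Set G)).relIndex W))
    (hWn : Subgroup.centralizer (P : Set G) ⊓ stabilizer G b ≤ normalizer (W : Set G))
    (htriv : ∀ w ∈ W, ∀ e ∈ C ⊓ Subgroup.centralizer (P : Set G), e * e = 1 → Commute w e) :
    W ≤ pairStab b x ⊔ C := by
  classical
  have h := B.ctx
  set L := Subgroup.centralizer (P : Set G) ⊓ stabilizer G b with hL
  set S := C ⊓ Subgroup.centralizer (P : Set G) with hS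
  have hS2 : IsPGroup 2 S := B.isPGroup_inf_centralizer hxb hP hP1 ht htb hs hsb hts htP hsP
  have hLS : L ≤ normalizer (S : Set G) := fun g hg =>
    mem_normalizer_inf (B.atC.norm hg.2) (le_normalizer hg.1)
  -- a swapper inverting an element of the pair centralizing `P`
  obtain ⟨v, hv, hvx, hvP⟩ := B.exists_invol_centralized hxb (P := P)
    (le_inf (hP.trans inf_le_right) (hP.trans inf_le_left)) (B.coprime_numInv hxb hP ht htb htP)
  obtain ⟨u, huL, hu, hub, hut⟩ := B.exists_swapper_centralizing hxb ht htb htP hv hvx hvP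
  obtain ⟨u', hu'L, hu', hu'b, hu't⟩ := B.exists_swapper_centralizing hxb hs hsb hsP hv hvx hvP
  have hux : u • x = b := by rw [← hub, invol_smul_smul hu]
  have hu'x : u' • x = b := by rw [← hu'b, invol_smul_smul hu']
  have hf₀ : u * u' ∈ pairStab b x :=
    ⟨mem_stabilizer_iff.2 (by rw [mul_smul, hu'b, hux]),
      mem_stabilizer_iff.2 (by rw [mul_smul, hu'x, hub])⟩
  have hf₀1 : u * u' ≠ 1 := fun e => by
    rw [eq_inv_of_mul_eq_one_left e, invol_inv hu'] at hut
    exact hts (mul_left_cancel (mul_right_cancel (hut.trans hu't.symm)))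
  obtain ⟨r, hr, hrf⟩ := Nat.exists_prime_and_dvd (n := orderOf (u * u'))
    (fun e => hf₀1 (orderOf_eq_one_iff.1 e))
  set f := (u * u') ^ (orderOf (u * u') / r) with hf
  have hfo : orderOf f = r := orderOf_pow_orderOf_div (orderOf_pos _).ne' hrf
  have hfD : f ∈ pairStab b x := pow_mem hf₀ _
  have hf1 : f ≠ 1 := fun e => hr.ne_one (by rw [← hfo, e, orderOf_one])
  have hfinv : u * f * u⁻¹ = f⁻¹ := by
    rw [hf, ← conj_pow, ← inv_pow]
    congr 1
    rw [← mul_assoc u u u', invol_mul_self hu, one_mul, mul_inv_rev, invol_inv hu, invol_inv hu']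
  have hr2 : r ≠ 2 := hfo ▸ B.orderOf_ne_two hxb hfD
  have hfL : f ∈ L :=
    ⟨pow_mem ((Subgroup.centralizer (P : Set G)).mul_mem huL hu'L) _, hfD.1⟩
  have hfix := h.fix_of_inverted B.atC B.reg B.invol hxb hfD hf1 hu hub hfinv
  have hfree := h.inf_centralizer_of_inverted B.atC B.reg B.invol hxb hfD hf1 hu hub hfinv
  -- a complement normalized by `f`
  set U := W ⊔ zpowers f with hU
  have hUL : U ≤ L := sup_le hWL (zpowers_le.2 hfL)
  have hSU : S ≤ U := hWC.trans le_sup_left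
  haveI : (S.subgroupOf U).Normal :=
    (normal_subgroupOf_iff_le_normalizer hSU).2 (hUL.trans hLS)
  obtain ⟨n, hn⟩ := IsPGroup.iff_card.1 hS2
  have hidx : Odd (S.relIndex U) := by
    refine ((hodd.mul (show Odd r from hr.odd_of_ne_two hr2)).of_dvd_nat ?_ : Odd (S.relIndex U))
    have h1 : S.relIndex W * W.relIndex U = S.relIndex U := relIndex_mul_relIndex _ _ _ hWC le_sup_left
    rw [← h1]
    refine Nat.mul_dvd_mul_left _ ?_
    rw [← hfo, ← Nat.card_zpowers]
    refine Nat.dvd_of_mul_dvd_mul_left (Nat.card_pos (α := W)) ?_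
    have h2 : Nat.card W * W.relIndex U = Nat.card U := by
      rw [← relIndex_bot_left W, ← relIndex_bot_left U]
      exact relIndex_mul_relIndex _ _ _ bot_le le_sup_left
    rw [h2, mul_comm, hU, sup_comm]
    exact CfsgLib.Coprime.card_sup_dvd_of_le_normalizer (zpowers_le.2 (hWn hfL))
  have hScard : Nat.card (S.subgroupOf U) = 2 ^ n := by
    rw [Nat.card_congr (subgroupOfEquivOfLe hSU).toEquiv, hn]
  obtain ⟨U₀', hU₀'⟩ := exists_right_complement'_of_coprime (N := S.subgroupOf U)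
    (by rw [hScard]; exact (Nat.coprime_two_left.2 hidx).pow_left n)
  set U₀ := U₀'.map U.subtype with hU₀
  have hU₀U : U₀ ≤ U := map_subtype_le _
  have hU₀odd : Odd (Nat.card U₀) := by
    rw [hU₀, card_map_of_injective U.subtype_injective, ← hU₀'.symm.index_eq_card]
    exact hidx
  have hdec : ∀ g ∈ U, ∃ a ∈ S, ∃ c ∈ U₀, g = a * c := fun g hg => by
    obtain ⟨⟨a, c⟩, hac⟩ := hU₀'.surjective ⟨g, hg⟩
    exact ⟨_, a.2, _, ⟨c, c.2, rfl⟩, (congrArg Subtype.val hac).symm⟩
  have hSU₀ : ∀ z ∈ S, z ∈ U₀ → z = 1 := fun z hzS hz0 =>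
    orderOf_eq_one_iff.1 (Nat.eq_one_of_dvd_coprimes ((Nat.coprime_two_left.2 hU₀odd).pow_left n)
      (hn ▸ Subgroup.orderOf_dvd_natCard _ hzS) (Subgroup.orderOf_dvd_natCard _ hz0))
  have hfS : f ∈ normalizer (S : Set G) := hLS hfL
  haveI := Fact.mk hr
  haveI : Group.IsSolvable U₀ := Cfsg.Agent.S0205.result hU₀odd
  obtain ⟨y, hy, hyf⟩ : ∃ y ∈ U, conjBy y (zpowers f) ≤ U₀ := by
    obtain ⟨R, hR, -⟩ := exists_sylowIn_ge (K := U₀) (P := ⊥) (IsPGroup.of_bot (p := r)) bot_le
    have hRU : IsSylowIn r R U := by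
      refine ⟨hR.1.trans hU₀U, le_antisymm (isPGroup_card_le hR.isPGroup (hR.1.trans hU₀U)) ?_⟩
      rw [hR.2]
      refine le_of_eq ?_
      congr 1
      rw [← (S.subgroupOf U).card_mul_index, hScard, Nat.factorization_mul (by positivity)
        index_ne_zero_of_finite, hU₀, card_map_of_injective U.subtype_injective,
        ← hU₀'.symm.index_eq_card, Finsupp.add_apply,
        Nat.factorization_eq_zero_of_not_dvd (fun hd => hr2
          ((Nat.prime_dvd_prime_iff_eq hr Nat.prime_two).1 (hr.dvd_of_dvd_pow hd))), zero_add]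
    obtain ⟨y, hy, hyR⟩ := exists_conjBy_le (Q := zpowers f) (IsPGroup.of_card (n := 1) (by
      rw [Nat.card_zpowers, hfo, pow_one])) le_sup_right hRU
    exact ⟨y, hy, hyR.trans hR.1⟩
  set U₁ := conjBy y⁻¹ U₀ with hU₁
  have hfU₁ : f ∈ U₁ := by
    refine ⟨y * f * y⁻¹, hyf ⟨f, mem_zpowers f, rfl⟩, ?_⟩
    show y⁻¹ * (y * f * y⁻¹) * y⁻¹⁻¹ = f
    group
  have hU₁odd : Odd (Nat.card U₁) := by
    rw [hU₁, CfsgLib.Coprime.card_conjBy]; exact hU₀odd
  have hSn : ∀ g ∈ U, ∀ z ∈ S, g * z * g⁻¹ ∈ S := fun g hg z hz =>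
    (mem_normalizer_iff.1 (hLS (hUL hg)) z).1 hz
  have hdec₁ : ∀ g ∈ U, ∃ a ∈ S, ∃ c ∈ U₁, g = a * c := fun g hg => by
    obtain ⟨a, ha, c, hc, e⟩ := hdec (y * g * y⁻¹) (mul_mem (mul_mem hy hg) (inv_mem hy))
    refine ⟨y⁻¹ * a * y⁻¹⁻¹, hSn _ (inv_mem hy) a ha, y⁻¹ * c * y⁻¹⁻¹, ⟨c, hc, rfl⟩, ?_⟩
    calc g = y⁻¹ * (y * g * y⁻¹) * y := by group
      _ = _ := by rw [e]; group
  set W₀ := U₁ ⊓ W with hW₀
  have hW₀odd : Odd (Nat.card W₀) := hU₁odd.of_dvd_nat (card_dvd_of_le inf_le_left)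
  set O := W₀ ⊓ Subgroup.centralizer (S : Set G) with hO
  -- the part centralizing `S` is normal
  have hOn : L ≤ normalizer (O : Set G) := by
    suffices ∀ g ∈ L, ∀ o ∈ O, g * o * g⁻¹ ∈ O from fun g hg => mem_normalizer_iff.2 fun o =>
      ⟨this g hg o, fun ho => by simpa [mul_assoc] using this g⁻¹ (inv_mem hg) _ ho⟩
    intro g hg o ho
    set o' := g * o * g⁻¹ with ho'
    have ho'W : o' ∈ W := (mem_normalizer_iff.1 (hWn hg) o).1 ho.1.2
    have ho'C : o' ∈ Subgroup.centralizer (S : Set G) :=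
      (mem_normalizer_iff.1 (CfsgLib.Coprime.normalizer_le_normalizer_centralizer S (hLS hg)) o).1
        ho.2
    have ho'o : Odd (orderOf o') := by
      rw [ho', show g * o * g⁻¹ = MulAut.conj g o from rfl, MulEquiv.orderOf_eq]
      exact hW₀odd.of_dvd_nat (Subgroup.orderOf_dvd_natCard _ ho.1)
    obtain ⟨a, ha, c, hc, e⟩ := hdec₁ o' (mem_sup_left ho'W)
    have hcW : c ∈ W := by
      have : a⁻¹ * o' ∈ W := mul_mem (inv_mem (hWC ha)) ho'W
      rwa [e, inv_mul_cancel_left] at this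
    have hco : Commute a o' := (mem_centralizer_iff.1 ho'C a ha : a * o' = o' * a)
    have hac : Commute a c := by
      have h2 := (Commute.refl a).inv_right.mul_right hco
      rwa [e, inv_mul_cancel_left] at h2
    have hk : o' ^ orderOf o' = 1 := pow_orderOf_eq_one o'
    generalize orderOf o' = k at hk ho'o
    rw [e, hac.mul_pow] at hk
    have ha1 : a ^ k = 1 := by
      refine hSU₀ _ (pow_mem ha k) ?_
      have hkU : a ^ k ∈ U₁ := by
        rw [eq_inv_of_mul_eq_one_left hk]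
        exact inv_mem (pow_mem hc k)
      obtain ⟨z, hz, hz'⟩ := hkU
      change y⁻¹ * z * y⁻¹⁻¹ = a ^ k at hz'
      have hzS : z ∈ S := by
        have := hSn y hy _ (pow_mem ha k)
        rwa [← hz', show y * (y⁻¹ * z * y⁻¹⁻¹) * y⁻¹ = z by group] at this
      have hz1 := hSU₀ z hzS hz
      have ha0 : a ^ k = 1 := by rw [← hz', hz1]; group
      rw [ha0]
      exact one_mem _
    have ha' : a = 1 := by
      obtain ⟨i, hi⟩ := hS2 ⟨a, ha⟩
      exact orderOf_eq_one_iff.1 (Nat.eq_one_of_dvd_coprimes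
        ((Nat.coprime_two_left.2 ho'o).pow_left i)
        (orderOf_dvd_of_pow_eq_one (congrArg Subtype.val hi)) (orderOf_dvd_of_pow_eq_one ha1))
    rw [ha', one_mul] at e
    exact ⟨⟨e ▸ hc, ho'W⟩, ho'C⟩
  have hOD : O ≤ pairStab b x :=
    B.le_pair_of_odd_normal hxb hP hP1 ht htb hs hsb hts htP hsP
      ((inf_le_left.trans inf_le_right).trans hWL)
      (hW₀odd.of_dvd_nat (card_dvd_of_le inf_le_left)) hOn
  -- the complement fixes `x`
  have hW₀D : W₀ ≤ pairStab b x := by
    intro w hw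
    have hwb : w • b = b := mem_stabilizer_iff.1 (hWL hw.2).2
    have h1 : w⁻¹ * f * w⁻¹⁻¹ * f⁻¹ ∈ O :=
      mul_conj_mem_centralizer hS2 hW₀odd hr hr2 (hfo ▸ pow_orderOf_eq_one f) hfS
        (mem_normalizer_inf (le_normalizer hfU₁) (hWn hfL)) (fun g hg => hLS (hWL hg.2))
        (fun z hz hzf => (eq_bot_iff_forall _).1 hfree z
          ⟨hz.1, mem_centralizer_singleton_iff.2 hzf.symm⟩)
        (fun g hg z hz hz2 => htriv g hg.2 z hz hz2) (inv_mem hw)
    have h2 : w⁻¹ * f * w ∈ pairStab b x := by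
      have := mul_mem (hOD h1) hfD
      rwa [inv_mul_cancel_right, inv_inv] at this
    have h3 : f • w • x = w • x := by
      have := mem_stabilizer_iff.1 h2.2
      rwa [mul_smul, mul_smul, inv_smul_eq_iff] at this
    rcases hfix _ h3 with e | e
    · exact absurd (smul_left_cancel w (e.trans hwb.symm)) hxb
    · exact ⟨mem_stabilizer_iff.2 hwb, mem_stabilizer_iff.2 e⟩
  intro w hw
  obtain ⟨a, ha, c, hc, e⟩ := hdec₁ w (mem_sup_left hw)
  have hcW : c ∈ W := by
    have : a⁻¹ * w ∈ W := mul_mem (inv_mem (hWC ha)) hw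
    rwa [e, inv_mul_cancel_left] at this
  rw [e]
  exact mul_mem (mem_sup_right ha.1) (mem_sup_left (hW₀D ⟨hc, hcW⟩))

end Base

end CfsgLib.Bender.OddQuot
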