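import Cfsg.Agent.Lib.Bender.OddQuot.Facts

/-!
# The centralizer of a subgroup of a pair centralizing two involutions at `b`

It is transitive on the fixed points other than `b`, and the odd normal subgroups of its point
stabilizer fix all of them.
-/

set_option autoImplicit false
set_option linter.style.haveILetI false

namespace CfsgLib.Bender.OddQuot

open Subgroup MulAction
open CfsgLib.Bender.Core
open CfsgLib.Coprime (IsSylowIn conjBy)
open CfsgLib.Invol (fixed_unique invol_conj invol_smul_smul invol_inv invol_mul_self)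

universe u

variable {G : Type u} [Group G] [Finite G] {H : Subgroup G} {b x : G ⧸ H} {p : ℕ} {Y C : Subgroup G}

namespace Base

variable (B : Base H b p Y C)
include B

theorem exists_involGroup_at (a : G ⧸ H) :
    ∃ E : Subgroup G, (∀ g : G, g ∈ E ↔ g = 1 ∨ (orderOf g = 2 ∧ g • a = a)) ∧
      stabilizer G a ≤ normalizer (E : Set G) ∧ Nat.card E = numInv H + 1 ∧
      ∀ u ∈ E, ∀ w ∈ E, u * w = w * u := by
  have hJ : ∀ t : G, orderOf t = 2 → t • a = a → t ∈ atPoint C b a :=
    fun t ht hta => B.atC.invol_mem_atPoint B.invol ht hta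
  obtain ⟨E, hE, hEC, hCE, hn, hcard⟩ := B.ctx.exists_involGroup (B.atC.atPoints_atPoint a)
    (B.atC.semiregular_atPoint B.reg a) hJ
  exact ⟨E, hE, hn, hcard, fun u hu w hw => (mem_centralizer_iff.1 (hCE (hEC hw)) u hu)⟩

/-- A subgroup of order prime to the number of involutions fixing two points centralizes an
involution at either of them. -/
theorem exists_invol_centralized {a c : G ⧸ H} (hac : a ≠ c) {P : Subgroup G}
    (hP : P ≤ pairStab a c) (hcop : (Nat.card P).Coprime (numInv H)) :
    ∃ v : G, orderOf v = 2 ∧ v • a = a ∧ ∀ d ∈ P, Commute v d := by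
  have h := B.ctx
  obtain ⟨E, hE, hn, hcard, hab⟩ := B.exists_involGroup_at a
  letI : CommGroup E :=
    { (inferInstance : Group E) with mul_comm := fun u w => Subtype.ext (hab u u.2 w w.2) }
  set D := pairStab a c with hD
  have hDn : D ≤ normalizer (E : Set G) := inf_le_left.trans hn
  let act : D →* MulAut E :=
    { toFun := fun d =>
        { toFun := fun w => ⟨d * w * (d : G)⁻¹, (mem_normalizer_iff.1 (hDn d.2) w).1 w.2⟩
          invFun := fun w => ⟨(d : G)⁻¹ * w * d, (mem_normalizer_iff''.1 (hDn d.2) w).1 w.2⟩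
          left_inv := fun w => Subtype.ext (by simp [mul_assoc])
          right_inv := fun w => Subtype.ext (by simp [mul_assoc])
          map_mul' := fun w w' => Subtype.ext (by simp [mul_assoc]) }
      map_one' := MulEquiv.ext fun w => Subtype.ext (by simp)
      map_mul' := fun d d' => MulEquiv.ext fun w => Subtype.ext (by simp [mul_assoc]) }
  obtain ⟨t, s, ht, -, -, -, hta, -⟩ := h.exists_four a
  have htE : t ∈ E := (hE t).2 (Or.inr ⟨ht, hta⟩)
  have ht1 : (⟨t, htE⟩ : E) ≠ 1 := fun e => CfsgLib.Invol.invol_ne_one ht (congrArg Subtype.val e)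
  have hexp : ∀ w : E, w * w = 1 := fun w => by
    rcases (hE w).1 w.2 with e | ⟨e, -⟩
    · exact Subtype.ext (by simp [e])
    · exact Subtype.ext (invol_mul_self e)
  obtain ⟨u, hu, hua⟩ := exists_swapper h.se hac
  obtain ⟨S⟩ := exists_semilin (odd_pairStab h.se hac) hexp act ht1 fun w hw => by
    obtain ⟨hw2, hwa⟩ := ((hE w).1 w.2).resolve_left fun e => hw (Subtype.ext e)
    obtain ⟨d, -, hda, hdc, he⟩ := transitive_fixing h.se ⊤ (u := u) (mem_top _)
      (by rw [hua]; exact hac.symm) ht (mem_top _) hta hw2 (mem_top _) hwa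
    rw [hua] at hdc
    exact ⟨⟨d, mem_stabilizer_iff.2 hda, mem_stabilizer_iff.2 hdc⟩, Subtype.ext he⟩
  obtain ⟨v, hv1, hv⟩ := S.exists_fixed_of_coprime ht1 (P.subgroupOf D) (by
    rw [Nat.card_congr (Subgroup.subgroupOfEquivOfLe hP).toEquiv, hcard, Nat.add_sub_cancel]
    exact hcop)
  obtain ⟨hv2, hva⟩ := ((hE v).1 v.2).resolve_left fun e => hv1 (Subtype.ext e)
  refine ⟨v, hv2, hva, fun d hd => ?_⟩
  have h1 : d * (v : G) * d⁻¹ = v := congrArg Subtype.val (hv ⟨d, hP hd⟩ hd)
  exact (mul_inv_eq_iff_eq_mul.1 h1).symm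

/-- The point stabilizer of the centralizer of a subgroup of a pair centralizing two involutions at
`b` is transitive on the fixed points different from `b`. -/
theorem exists_centralizer_map (hxb : x ≠ b) {P : Subgroup G} (hP : P ≤ pairStab b x)
    (hP1 : P ≠ ⊥) {t s : G} (ht : orderOf t = 2) (htb : t • b = b) (hs : orderOf s = 2)
    (hsb : s • b = b) (hts : t ≠ s) (htP : ∀ d ∈ P, Commute t d) (hsP : ∀ d ∈ P, Commute s d)
    {y : G ⧸ H} (hyb : y ≠ b) (hy : P ≤ stabilizer G y) :
    ∃ k ∈ Subgroup.centralizer (P : Set G), k • b = b ∧ k • x = y := by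
  have h := B.ctx
  set L := Subgroup.centralizer (P : Set G) with hL
  have hPy : P ≤ pairStab b y := le_inf (hP.trans inf_le_left) hy
  have hcop := B.coprime_numInv hxb hP ht htb htP
  have htL : t ∈ L := mem_centralizer_iff.2 fun d hd => (htP d hd).eq.symm
  have hsL : s ∈ L := mem_centralizer_iff.2 fun d hd => (hsP d hd).eq.symm
  have hcomm : Commute t s := mem_centralizer_singleton_iff.1
    (h.centralizes_invol B.atC B.reg B.invol hs hsb (B.invol t ht htb))
  -- every fixed point is in the orbit of `b`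
  have horb : ∀ z : G ⧸ H, z ≠ b → P ≤ stabilizer G z → ∃ g ∈ L, g • b = z := by
    intro z hzb hz
    obtain ⟨v, hv, hvz, hvP⟩ := B.exists_invol_centralized hzb
      (P := P) (le_inf hz (hP.trans inf_le_left)) hcop
    have hvL : v ∈ L := mem_centralizer_iff.2 fun d hd => (hvP d hd).eq.symm
    rcases Nat.even_or_odd (orderOf (t * v)) with hev | hodd
    · exfalso
      set z' := (t * v) ^ (orderOf (t * v) / 2) with hz'
      have hzo : orderOf z' = 2 := CfsgLib.Invol.orderOf_pow_half hev
      have hzu : Commute z' t :=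
        CfsgLib.Invol.commute_pow_half (CfsgLib.Invol.invol_conj_mul ht hv) hev
      have hzw : Commute z' v :=
        CfsgLib.Invol.commute_pow_half (CfsgLib.Invol.invol_conj_mul' ht hv) hev
      have hzb' : z' • b = b := mem_stabilizer_iff.1 (centralizer_le_stabilizer h.se ht htb
        (mem_centralizer_singleton_iff.2 hzu.eq))
      have hzz : z' • z = z := mem_stabilizer_iff.1 (centralizer_le_stabilizer h.se hv hvz
        (mem_centralizer_singleton_iff.2 hzw.eq))
      exact hzb (fixed_unique h.se hzo hzz hzb')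
    · obtain ⟨d, hd, he⟩ := CfsgLib.Invol.exists_conj_eq_of_odd ht hv hodd
      refine ⟨d, zpowers_le.2 (mul_mem htL hvL) hd, (fixed_unique h.se hv hvz ?_).symm⟩
      rw [← he, mul_smul, mul_smul, inv_smul_smul, htb]
  obtain ⟨g₁, hg₁, hg₁b⟩ := horb x hxb (hP.trans inf_le_right)
  obtain ⟨g₂, hg₂, hg₂b⟩ := horb y hyb hy
  have hSE := stronglyEmbedded_stabilizer h.se ht htL htb hg₁ (by rw [hg₁b]; exact hxb)
  have hpair : HasPair L := ⟨⟨t, htL⟩, ⟨s, hsL⟩, by rwa [← Subgroup.orderOf_coe],
    by rwa [← Subgroup.orderOf_coe], fun e => hts (congrArg Subtype.val e), Subtype.ext hcomm⟩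
  obtain ⟨k, hk, hk'⟩ := coset_transitive' hSE hpair (g₁ := ⟨g₁, hg₁⟩) (g₂ := ⟨g₂, hg₂⟩)
    (fun e => hxb (hg₁b.symm.trans (mem_stabilizer_iff.1 e)))
    (fun e => hyb (hg₂b.symm.trans (mem_stabilizer_iff.1 e)))
  refine ⟨k, k.2, mem_stabilizer_iff.1 hk, ?_⟩
  have h1 : ((g₂ : G)⁻¹ * ((k : G) * g₁)) • b = b := mem_stabilizer_iff.1 hk'
  rw [mul_smul, mul_smul, hg₁b, inv_smul_eq_iff, hg₂b] at h1
  exact h1

/-- An odd normal subgroup of the point stabilizer of that centralizer fixes `x`. -/
theorem le_pair_of_odd_normal (hxb : x ≠ b) {P : Subgroup G} (hP : P ≤ pairStab b x) (hP1 : P ≠ ⊥)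
    {t s : G} (ht : orderOf t = 2) (htb : t • b = b) (hs : orderOf s = 2)
    (hsb : s • b = b) (hts : t ≠ s) (htP : ∀ d ∈ P, Commute t d) (hsP : ∀ d ∈ P, Commute s d)
    {W : Subgroup G} (hW : W ≤ Subgroup.centralizer (P : Set G) ⊓ stabilizer G b)
    (hWodd : Odd (Nat.card W))
    (hWn : Subgroup.centralizer (P : Set G) ⊓ stabilizer G b ≤ normalizer (W : Set G)) :
    W ≤ pairStab b x := by
  have h := B.ctx
  set L := Subgroup.centralizer (P : Set G) with hL
  have htL : t ∈ L := mem_centralizer_iff.2 fun d hd => (htP d hd).eq.symm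
  have hsL : s ∈ L := mem_centralizer_iff.2 fun d hd => (hsP d hd).eq.symm
  have hcomm : Commute t s := mem_centralizer_singleton_iff.1
    (h.centralizes_invol B.atC B.reg B.invol hs hsb (B.invol t ht htb))
  have hLtop : L ≠ ⊤ := fun e => by
    obtain ⟨d, hd, hd1⟩ := (Subgroup.bot_or_exists_ne_one P).resolve_left hP1
    exact hd1 ((eq_bot_iff_forall _).1 h.center_eq_bot d (mem_center_iff.2 fun g =>
      ((mem_centralizer_iff.1 (show g ∈ L by rw [e]; exact mem_top g)) d hd).symm))
  obtain ⟨v, hv, hvx, hvP⟩ := B.exists_invol_centralized hxb (P := P)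
    (le_inf (hP.trans inf_le_right) (hP.trans inf_le_left)) (B.coprime_numInv hxb hP ht htb htP)
  have hvL : v ∈ L := mem_centralizer_iff.2 fun d hd => (hvP d hd).eq.symm
  rcases Nat.even_or_odd (orderOf (t * v)) with hev | hodd
  · exfalso
    set z' := (t * v) ^ (orderOf (t * v) / 2) with hz'
    have hzo : orderOf z' = 2 := CfsgLib.Invol.orderOf_pow_half hev
    have hzu : Commute z' t :=
      CfsgLib.Invol.commute_pow_half (CfsgLib.Invol.invol_conj_mul ht hv) hev
    have hzw : Commute z' v :=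
      CfsgLib.Invol.commute_pow_half (CfsgLib.Invol.invol_conj_mul' ht hv) hev
    have hzb' : z' • b = b := mem_stabilizer_iff.1 (centralizer_le_stabilizer h.se ht htb
      (mem_centralizer_singleton_iff.2 hzu.eq))
    have hzz : z' • x = x := mem_stabilizer_iff.1 (centralizer_le_stabilizer h.se hv hvx
      (mem_centralizer_singleton_iff.2 hzw.eq))
    exact hxb (fixed_unique h.se hzo hzz hzb')
  · obtain ⟨d, hd, he⟩ := CfsgLib.Invol.exists_conj_eq_of_odd ht hv hodd
    have hdx : d • b = x := (fixed_unique h.se hv hvx (by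
      rw [← he, mul_smul, mul_smul, inv_smul_smul, htb])).symm
    exact le_inf (hW.trans inf_le_right) (hdx ▸ h.fix_orbit hLtop ht hs hts hcomm htL hsL htb hsb
      hW hWodd hWn (zpowers_le.2 (mul_mem htL hvL) hd))

end Base

end CfsgLib.Bender.OddQuot
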