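import Cfsg.Agent.Lib.Bender.OddQuot.Sigma
import Mathlib.FieldTheory.Finite.Basic

/-!
# Scalars, Galois part and their commutation

`Frame D actE t`: a semilinear structure of `D` together with an element `σ` of order `|E| - 1`
in the free closure acting as a primitive scalar.
-/

set_option autoImplicit false
set_option linter.style.haveILetI false
set_option linter.unusedSectionVars false

namespace CfsgLib.Bender.OddQuot

open Subgroup

universe u

section field

variable {F : Type} [Field F] [Finite F] [Algebra (ZMod 2) F]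

theorem exists_pow_two (τ : F ≃ₐ[ZMod 2] F) : ∃ i : ℕ, ∀ x : F, τ x = x ^ 2 ^ i := by
  haveI : Fact (Nat.Prime 2) := ⟨Nat.prime_two⟩
  letI := Fintype.ofFinite F
  obtain ⟨⟨i, _⟩, rfl⟩ := (FiniteField.bijective_frobeniusAlgEquivOfAlgebraic_pow (ZMod 2) F).2 τ
  refine ⟨i, fun x => ?_⟩
  show (FiniteField.frobeniusAlgEquivOfAlgebraic (ZMod 2) F ^ i) x = x ^ 2 ^ i
  rw [AlgEquiv.coe_pow, FiniteField.coe_frobeniusAlgEquivOfAlgebraic_iterate, ZMod.card]

theorem exists_frobenius : ∃ φ : F ≃ₐ[ZMod 2] F, ∀ x : F, φ x = x ^ 2 := by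
  haveI : Fact (Nat.Prime 2) := ⟨Nat.prime_two⟩
  refine ⟨FiniteField.frobeniusAlgEquivOfAlgebraic (ZMod 2) F, fun x => ?_⟩
  rw [FiniteField.coe_frobeniusAlgEquivOfAlgebraic, ZMod.card]

theorem pow_two_pow_mul_eq_self {x : F} {d : ℕ} (hx : x ^ 2 ^ d = x) :
    ∀ c : ℕ, x ^ 2 ^ (d * c) = x
  | 0 => by rw [mul_zero, pow_zero, pow_one]
  | c + 1 => by rw [mul_add, mul_one, pow_add, pow_mul, pow_two_pow_mul_eq_self hx c, hx]

/-- An automorphism killed by `k / d` fixes the subfield of degree `d`. -/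
theorem apply_eq_self_of_pow {d : ℕ} (hd : d ∣ Module.finrank (ZMod 2) F) {τ : F ≃ₐ[ZMod 2] F}
    (hτ : τ ^ (Module.finrank (ZMod 2) F / d) = 1) {x : F} (hx : x ^ 2 ^ d = x) : τ x = x := by
  haveI : Fact (Nat.Prime 2) := ⟨Nat.prime_two⟩
  letI := Fintype.ofFinite F
  obtain ⟨⟨i, _⟩, rfl⟩ := (FiniteField.bijective_frobeniusAlgEquivOfAlgebraic_pow (ZMod 2) F).2 τ
  replace hτ : (FiniteField.frobeniusAlgEquivOfAlgebraic (ZMod 2) F ^ i) ^
      (Module.finrank (ZMod 2) F / d) = 1 := hτ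
  rw [← pow_mul, ← orderOf_dvd_iff_pow_eq_one,
    FiniteField.orderOf_frobeniusAlgEquivOfAlgebraic] at hτ
  obtain ⟨c, hc⟩ : d ∣ i := by
    obtain ⟨e, he⟩ := hd
    have hpos : 0 < Module.finrank (ZMod 2) F := Module.finrank_pos
    have hd0 : 0 < d := by
      rcases Nat.eq_zero_or_pos d with h | h
      · simp [h] at he; omega
      · exact h
    rw [he, Nat.mul_div_cancel_left _ hd0] at hτ
    have he0 : 0 < e := by
      rcases Nat.eq_zero_or_pos e with h | h
      · simp [h] at he; omega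
      · exact h
    exact Nat.dvd_of_mul_dvd_mul_right he0 hτ
  show (FiniteField.frobeniusAlgEquivOfAlgebraic (ZMod 2) F ^ i) x = x
  rw [AlgEquiv.coe_pow, FiniteField.coe_frobeniusAlgEquivOfAlgebraic_iterate, ZMod.card]
  show x ^ 2 ^ i = x
  rw [hc]
  exact pow_two_pow_mul_eq_self hx c

end field

variable {X E V : Type u} [Group X] [CommGroup E] [CommGroup V] [Finite X] [Finite E] [Finite V]
  {p : ℕ} {D : Subgroup X} {actE : X →* MulAut E} {actV : X →* MulAut V} {t : E}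

/-- The semilinear structure with a generator of the scalars. -/
structure Frame (D : Subgroup X) (actE : X →* MulAut E) (t : E) where
  L : Semilin (actE.comp D.subtype) t
  σ : D
  σY : (σ : X) ∈ freeClosure D (Nat.card E - 1)
  σgal : L.gal σ = 1
  σord : orderOf σ = Nat.card E - 1
  σgen : ∀ x : L.F, x ≠ 0 → ∃ i : ℕ, L.mult (σ ^ i) = x

namespace Frame

variable (f : Frame D actE t)

theorem gal_pow (i : ℕ) : f.L.gal (f.σ ^ i) = 1 := by rw [map_pow, f.σgal, one_pow]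

theorem gal_zpow (i : ℤ) : f.L.gal (f.σ ^ i) = 1 := by rw [map_zpow, f.σgal, one_zpow]

theorem pow_mem_closure (i : ℕ) : ((f.σ ^ i : D) : X) ∈ freeClosure D (Nat.card E - 1) := by
  rw [Subgroup.coe_pow]; exact pow_mem f.σY i

theorem zpow_mem_closure (i : ℤ) : ((f.σ ^ i : D) : X) ∈ freeClosure D (Nat.card E - 1) := by
  rw [Subgroup.coe_zpow]; exact zpow_mem f.σY i

theorem mem_scalarPart (i : ℕ) : f.σ ^ i ∈ scalarPart f.L :=
  ⟨f.gal_pow i, f.pow_mem_closure i⟩

/-- The degree of `E`. -/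
noncomputable abbrev k : ℕ := Module.finrank (ZMod 2) f.L.F

theorem card_eq : Nat.card E = 2 ^ f.k := f.L.card_eq

/-- The scalar generating the multiplicative group of the subfield of degree `d`. -/
noncomputable def sub (d : ℕ) : X := (f.σ : X) ^ ((Nat.card E - 1) / (2 ^ d - 1))

theorem sub_mem (d : ℕ) : f.sub d ∈ D := pow_mem f.σ.2 _

theorem sub_mem_closure (d : ℕ) : f.sub d ∈ freeClosure D (Nat.card E - 1) := pow_mem f.σY _

theorem dvd_card_sub {d : ℕ} (hd : d ∣ f.k) : 2 ^ d - 1 ∣ Nat.card E - 1 := by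
  rw [f.card_eq]
  exact Nat.pow_sub_one_dvd_pow_sub_one 2 hd

end Frame

namespace Data

variable (S : Data p D actE actV t)
include S

theorem exists_frame (hX : Even (Nat.card X)) : Nonempty (Frame D actE t) := by
  obtain ⟨L⟩ := S.exists_semilin
  obtain ⟨σ, hord, hgen⟩ := S.exists_sigma (L := L) hX
  exact ⟨⟨L, σ, σ.2.2, σ.2.1, by rw [Subgroup.orderOf_coe]; exact hord, hgen⟩⟩

theorem orderOf_sub (f : Frame D actE t) {d : ℕ} (hd : d ∣ f.k) :
    orderOf (f.sub d) = 2 ^ d - 1 := by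
  have hdvd := f.dvd_card_sub hd
  have hm : 0 < Nat.card E - 1 := by have := S.card_four; omega
  rw [Frame.sub, orderOf_pow, Subgroup.orderOf_coe, f.σord,
    Nat.gcd_eq_right (Nat.div_dvd_of_dvd hdvd), Nat.div_div_self hdvd hm.ne']

/-- A scalar of the free closure with trivial power `|E| - 1` is a power of `σ`. -/
theorem exists_eq_pow (hX : Even (Nat.card X)) (f : Frame D actE t) {a : D}
    (ha : f.L.gal a = 1) (haY : (a : X) ∈ freeClosure D (Nat.card E - 1))
    (ham : a ^ (Nat.card E - 1) = 1) : ∃ i : ℕ, a = f.σ ^ i := by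
  obtain ⟨i, hi⟩ := f.σgen _ (f.L.mult_ne_zero S.t_ne a)
  refine ⟨i, congrArg Subtype.val (S.eq_of_mult_eq (L := f.L) hX (a := ⟨a, ha, haY⟩)
    (c := ⟨f.σ ^ i, f.mem_scalarPart i⟩) (Subtype.ext ham) (Subtype.ext ?_) hi.symm)⟩
  show (f.σ ^ i) ^ (Nat.card E - 1) = 1
  rw [← pow_mul, mul_comm, pow_mul, ← f.σord, pow_orderOf_eq_one, one_pow]

/-- Two free elements of the same prime order generate the same subgroup. -/
theorem unique_free (hX : Even (Nat.card X)) {g h : X} (hg : g ∈ D) (hgp : (orderOf g).Prime)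
    (hgm : orderOf g ∣ Nat.card E - 1) (hh : h ∈ D) (ho : orderOf h = orderOf g) :
    h ∈ zpowers g := by
  obtain ⟨f⟩ := S.exists_frame hX
  have key : ∀ a : X, a ∈ D → (orderOf a).Prime → orderOf a ∣ Nat.card E - 1 →
      a ∈ zpowers (f.σ : X) := by
    intro a ha hap ham
    obtain ⟨i, hi⟩ := S.exists_eq_pow hX f (a := ⟨a, ha⟩) (S.gal_eq_one_of_free ha hap ham)
      (mem_freeClosure ha hap ham) (Subtype.ext (orderOf_dvd_iff_pow_eq_one.1 ham))
    have h' := congrArg Subtype.val hi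
    rw [Subgroup.coe_pow] at h'
    exact mem_zpowers_iff.2 ⟨i, by rw [zpow_natCast]; exact h'.symm⟩
  have h1 := key g hg hgp hgm
  have h2 := key h hh (ho ▸ hgp) (ho ▸ hgm)
  have hm : 0 < Nat.card E - 1 := by have := S.card_four; omega
  have hs : 0 < orderOf g := hgp.pos
  obtain ⟨c, hc⟩ := hgm
  have hin : ∀ a : X, a ∈ zpowers (f.σ : X) → orderOf a = orderOf g →
      a ∈ zpowers ((f.σ : X) ^ c) := by
    intro a ha hao
    obtain ⟨b, rfl⟩ := mem_zpowers_iff.1 ha
    have hd : ((Nat.card E - 1 : ℕ) : ℤ) ∣ b * (orderOf g : ℤ) := by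
      rw [← f.σord, ← Subgroup.orderOf_coe, orderOf_dvd_iff_zpow_eq_one, zpow_mul, zpow_natCast,
        ← hao, pow_orderOf_eq_one]
    rw [hc, Nat.cast_mul, mul_comm (b : ℤ)] at hd
    obtain ⟨e, he⟩ := Int.dvd_of_mul_dvd_mul_left (by exact_mod_cast hs.ne') hd
    exact mem_zpowers_iff.2 ⟨e, by rw [he, zpow_mul, zpow_natCast]⟩
  have hord : orderOf ((f.σ : X) ^ c) = orderOf g := by
    have hc0 : c ∣ Nat.card E - 1 := Dvd.intro_left _ hc.symm
    rw [orderOf_pow, Subgroup.orderOf_coe, f.σord, Nat.gcd_eq_right hc0, hc,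
      Nat.mul_div_cancel _ (Nat.pos_of_dvd_of_pos hc0 hm)]
  have heq : zpowers g = zpowers ((f.σ : X) ^ c) :=
    eq_of_le_of_card_ge (zpowers_le.2 (hin g h1 rfl)) (by
      rw [Nat.card_zpowers, Nat.card_zpowers, hord])
  exact heq ▸ hin h h2 ho

theorem mem_galoisPart_iff {d : D} :
    (d : X) ∈ galoisPart D actE t ↔
      (d : X) ∈ freeClosure D (Nat.card E - 1) ∧ actE (d : X) t = t := by
  rw [mem_galoisPart]
  exact ⟨fun h => h.2, fun h => ⟨d.2, h⟩⟩

/-- An element of `D` in the free closure is a scalar times a Galois element. -/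
theorem exists_decomp (f : Frame D actE t) {g : X} (hg : g ∈ D)
    (hgY : g ∈ freeClosure D (Nat.card E - 1)) :
    ∃ (i : ℕ) (c : X), c ∈ galoisPart D actE t ∧ g = (f.σ : X) ^ i * c := by
  obtain ⟨i, hi⟩ := f.σgen _ (f.L.mult_ne_zero S.t_ne ⟨g, hg⟩)
  refine ⟨i, ((f.σ : X) ^ i)⁻¹ * g, mem_galoisPart.2 ⟨mul_mem (inv_mem (pow_mem f.σ.2 i)) hg,
    mul_mem (inv_mem (pow_mem f.σY i)) hgY, ?_⟩, (mul_inv_cancel_left _ _).symm⟩
  rw [map_mul, map_inv, MulAut.mul_apply]
  show (actE ((f.σ : X) ^ i)).symm (actE g t) = t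
  rw [MulEquiv.symm_apply_eq]
  rw [f.L.mult_eq, f.L.mult_eq] at hi
  have := congrArg Additive.toMul (f.L.e.injective hi)
  rw [← Subgroup.coe_pow]
  exact this.symm

/-- Conjugating a power of `σ` by an element of `D` in the free closure. -/
theorem conj_pow (hX : Even (Nat.card X)) (f : Frame D actE t) {g : D}
    (hgY : (g : X) ∈ freeClosure D (Nat.card E - 1)) (i : ℕ) :
    ∃ j : ℕ, g * f.σ ^ i * g⁻¹ = f.σ ^ j ∧
      f.L.mult (f.σ ^ j) = f.L.gal g (f.L.mult (f.σ ^ i)) := by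
  have hgal : f.L.gal (g * f.σ ^ i * g⁻¹) = 1 := by
    rw [map_mul, map_mul, f.gal_pow, mul_one, map_inv, mul_inv_cancel]
  have hY : ((g * f.σ ^ i * g⁻¹ : D) : X) ∈ freeClosure D (Nat.card E - 1) := by
    rw [Subgroup.coe_mul, Subgroup.coe_mul, Subgroup.coe_inv]
    exact mul_mem (mul_mem hgY (f.pow_mem_closure i)) (inv_mem hgY)
  have hm : (g * f.σ ^ i * g⁻¹) ^ (Nat.card E - 1) = 1 := by
    rw [_root_.conj_pow, ← pow_mul, mul_comm i, pow_mul, ← f.σord, pow_orderOf_eq_one, one_pow, mul_one,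
      mul_inv_cancel]
  obtain ⟨j, hj⟩ := S.exists_eq_pow hX f hgal hY hm
  refine ⟨j, hj, ?_⟩
  rw [← hj, f.L.mult_eq, f.L.mult_eq (f.σ ^ i), map_mul, map_mul]
  set w := (actE.comp D.subtype g⁻¹) t with hw
  show f.L.e (Additive.ofMul (actE.comp D.subtype g (actE.comp D.subtype (f.σ ^ i) w))) = _
  rw [f.L.apply, f.L.apply, f.gal_pow, AlgEquiv.one_apply, map_mul]
  have h1 : f.L.mult g * f.L.gal g (f.L.e (Additive.ofMul w)) = 1 := by
    rw [← f.L.apply, hw, map_inv]
    show f.L.e (Additive.ofMul (actE.comp D.subtype g ((actE.comp D.subtype g).symm t))) = 1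
    rw [MulEquiv.apply_symm_apply, f.L.et]
  rw [mul_left_comm, h1, mul_one, f.L.mult_eq]

/-- An element of `D` in the free closure commutes with a scalar iff it fixes the multiplier. -/
theorem commute_pow_iff (hX : Even (Nat.card X)) (f : Frame D actE t) {g : D}
    (hgY : (g : X) ∈ freeClosure D (Nat.card E - 1)) (i : ℕ) :
    Commute (g : X) ((f.σ : X) ^ i) ↔
      f.L.gal g (f.L.mult (f.σ ^ i)) = f.L.mult (f.σ ^ i) := by
  obtain ⟨j, hj, hmult⟩ := S.conj_pow hX f hgY i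
  have hpow : ∀ n : ℕ, (f.σ ^ n) ^ (Nat.card E - 1) = 1 := fun n => by
    rw [← pow_mul, mul_comm, pow_mul, ← f.σord, pow_orderOf_eq_one, one_pow]
  constructor
  · intro hc
    have h1 : g * f.σ ^ i * g⁻¹ = f.σ ^ i := Subtype.ext (by
      rw [Subgroup.coe_mul, Subgroup.coe_mul, Subgroup.coe_inv, Subgroup.coe_pow, hc.eq,
        mul_inv_cancel_right])
    rw [← hmult, ← hj, h1]
  · intro hfix
    have h1 : f.σ ^ j = f.σ ^ i := congrArg Subtype.val (S.eq_of_mult_eq (L := f.L) hX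
      (a := ⟨f.σ ^ j, f.mem_scalarPart j⟩) (c := ⟨f.σ ^ i, f.mem_scalarPart i⟩)
      (Subtype.ext (hpow j)) (Subtype.ext (hpow i)) (hmult.trans hfix))
    have h2 := congrArg Subtype.val (hj.trans h1)
    rw [Subgroup.coe_mul, Subgroup.coe_mul, Subgroup.coe_inv, Subgroup.coe_pow] at h2
    exact mul_inv_eq_iff_eq_mul.1 h2

/-- An element whose field automorphism is killed by `k / d` commutes with the subfield scalar. -/
theorem commute_sub_of_pow (hX : Even (Nat.card X)) (f : Frame D actE t) {g : D}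
    (hgY : (g : X) ∈ freeClosure D (Nat.card E - 1)) {d : ℕ} (hd : d ∣ f.k)
    (h : f.L.gal g ^ (f.k / d) = 1) : Commute (g : X) (f.sub d) := by
  refine (S.commute_pow_iff hX f hgY _).2 (apply_eq_self_of_pow hd h ?_)
  set i := (Nat.card E - 1) / (2 ^ d - 1)
  have hone : 0 < 2 ^ d := Nat.two_pow_pos d
  have hmul : ∀ n : ℕ, f.L.mult ((f.σ ^ i) ^ n) = f.L.mult (f.σ ^ i) ^ n := fun n => by
    induction n with
    | zero => rw [pow_zero, pow_zero, S.mult_one]
    | succ n ih => rw [pow_succ', S.mult_mul (f.gal_pow i), ih, pow_succ']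
  calc f.L.mult (f.σ ^ i) ^ 2 ^ d
      = f.L.mult (f.σ ^ i) ^ (2 ^ d - 1) * f.L.mult (f.σ ^ i) := by
        rw [← pow_succ, Nat.sub_add_cancel hone]
    _ = f.L.mult (f.σ ^ i) := by
        rw [← hmul, ← pow_mul, Nat.div_mul_cancel (f.dvd_card_sub hd), ← f.σord,
          pow_orderOf_eq_one, S.mult_one, one_mul]

end Data

end CfsgLib.Bender.OddQuot
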