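import Cfsg.Agent.Lib.Char.TransLinear.AutCard

/-!
# Automorphisms of an elementary group of order eight

The order is 168, there are at most 21 involutions, and every element has order dividing 4, 3 or 7.
-/

set_option autoImplicit false
set_option linter.style.haveILetI false

namespace CfsgLib.Bender.OddQuot.GLThree

universe u

theorem matrix_invol :
    (Finset.univ.filter fun M : Matrix (Fin 3) (Fin 3) (ZMod 2) => M * M = 1 ∧ M ≠ 1).card = 21 := by
  decide +kernel

theorem matrix_orders : ∀ M : Matrix (Fin 3) (Fin 3) (ZMod 2),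
    M.det = 0 ∨ M ^ 4 = 1 ∨ M ^ 3 = 1 ∨ M ^ 7 = 1 := by
  decide +kernel

variable {E : Type u} [CommGroup E] [Finite E]

theorem card_mulAut (hexp : ∀ e : E, e * e = 1) (hcard : Nat.card E = 8) :
    Nat.card (MulAut E) = 168 := by
  haveI := Fact.mk Nat.prime_two
  rw [CfsgLib.Char.card_mulAut_of_exponent_prime (p := 2) (n := 3)
    (fun e => by rw [pow_two]; exact hexp e) (by rw [hcard]; norm_num)]
  unfold CfsgLib.Char.glCard
  decide

theorem exists_matrix (hexp : ∀ e : E, e * e = 1) (hcard : Nat.card E = 8) :
    ∃ ψ : MulAut E →* Matrix (Fin 3) (Fin 3) (ZMod 2), Function.Injective ψ := by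
  classical
  haveI := Fact.mk Nat.prime_two
  haveI : Finite (Additive E) := Finite.of_equiv E Additive.ofMul
  haveI : Module (ZMod 2) (Additive E) := AddCommGroup.zmodModule fun v => by
    apply Additive.toMul.injective
    rw [toMul_nsmul, toMul_zero, pow_two]
    exact hexp _
  haveI : Module.Finite (ZMod 2) (Additive E) := Module.Finite.of_finite
  have hn : Module.finrank (ZMod 2) (Additive E) = 3 := by
    apply Nat.pow_right_injective (le_refl 2)
    show 2 ^ Module.finrank (ZMod 2) (Additive E) = 2 ^ 3
    have h := Module.natCard_eq_pow_finrank (K := ZMod 2) (V := Additive E)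
    rw [Nat.card_zmod, Nat.card_congr (Additive.toMul : Additive E ≃ E), hcard] at h
    rw [← h]
  let b := Module.finBasisOfFinrankEq (ZMod 2) (Additive E) hn
  let lin : MulAut E →* Module.End (ZMod 2) (Additive E) :=
    { toFun := fun g => ({ toFun := fun v => Additive.ofMul (g v.toMul)
                           map_add' := fun a c => congrArg Additive.ofMul (map_mul g a.toMul c.toMul)
                           map_smul' := ZMod.map_smul (F := Additive E →+ Additive E)
                             (MonoidHom.toAdditive g.toMonoidHom) } :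
          Module.End (ZMod 2) (Additive E))
      map_one' := rfl
      map_mul' := fun _ _ => rfl }
  refine ⟨(LinearMap.toMatrixAlgEquiv b).toAlgHom.toRingHom.toMonoidHom.comp lin, fun φ χ h => ?_⟩
  have h1 : lin φ = lin χ := (LinearMap.toMatrixAlgEquiv b).injective h
  exact MulEquiv.ext fun e => congrArg Additive.toMul (DFunLike.congr_fun h1 (Additive.ofMul e))

/-- There are at most 21 involutions. -/
theorem ncard_invol_le (hexp : ∀ e : E, e * e = 1) (hcard : Nat.card E = 8) :
    {φ : MulAut E | φ * φ = 1 ∧ φ ≠ 1}.ncard ≤ 21 := by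
  classical
  obtain ⟨ψ, hψ⟩ := exists_matrix hexp hcard
  rw [← matrix_invol, ← Set.ncard_coe_finset]
  refine Set.ncard_le_ncard_of_injOn ψ (fun φ hφ => ?_) hψ.injOn (Set.toFinite _)
  rw [Finset.coe_filter]
  exact ⟨Finset.mem_univ _, by rw [← map_mul, hφ.1, map_one],
    fun h => hφ.2 (hψ (h.trans (map_one ψ).symm))⟩

/-- Every element has order dividing 4, 3 or 7. -/
theorem orders (hexp : ∀ e : E, e * e = 1) (hcard : Nat.card E = 8) (φ : MulAut E) :
    φ ^ 4 = 1 ∨ φ ^ 3 = 1 ∨ φ ^ 7 = 1 := by
  obtain ⟨ψ, hψ⟩ := exists_matrix hexp hcard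
  have hdet : (ψ φ).det ≠ 0 := fun h => by
    have h1 : (ψ φ).det * (ψ φ⁻¹).det = 1 := by
      rw [← Matrix.det_mul, ← map_mul, mul_inv_cancel, map_one, Matrix.det_one]
    rw [h, zero_mul] at h1
    exact zero_ne_one h1
  rcases matrix_orders (ψ φ) with h | h | h | h
  · exact absurd h hdet
  all_goals rw [← map_pow, ← map_one ψ] at h
  · exact Or.inl (hψ h)
  · exact Or.inr (Or.inl (hψ h))
  · exact Or.inr (Or.inr (hψ h))

end CfsgLib.Bender.OddQuot.GLThree
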