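import Cfsg.Agent.Lib.Bender.OddQuot.Data
import Mathlib.Analysis.Complex.Basic

/-!
# What the quotient analysis delivers

`GoodChar`: a linear character of `V` with an odd stabilizer, fit for the Galois endgame.
`ElevenCase`: the only remaining configuration, refuted by `Base.false_of_eleven`.
-/

set_option autoImplicit false
set_option linter.style.haveILetI false
set_option linter.unusedSectionVars false

namespace CfsgLib.Bender.OddQuot

open Subgroup

universe u

variable {X E V : Type u} [Group X] [CommGroup E] [CommGroup V]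

/-- The stabilizer of a linear character. -/
def charStab (actV : X →* MulAut V) (θ : V →* ℂˣ) : Subgroup X where
  carrier := {g | ∀ v, θ (actV g v) = θ v}
  one_mem' := fun v => by rw [map_one]; rfl
  mul_mem' := fun {a c} ha hc v => by rw [map_mul, MulAut.mul_apply, ha, hc]
  inv_mem' := fun {a} ha v => by
    have h := ha (actV a⁻¹ v)
    rw [← MulAut.mul_apply, ← map_mul, mul_inv_cancel, map_one, MulAut.one_apply] at h
    exact h.symm

theorem mem_charStab {actV : X →* MulAut V} {θ : V →* ℂˣ} {g : X} :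
    g ∈ charStab actV θ ↔ ∀ v, θ (actV g v) = θ v := Iff.rfl

/-- A character for the endgame; `a` is the Galois multiplier. -/
structure GoodChar (p : ℕ) (D : Subgroup X) (actE : X →* MulAut E) (actV : X →* MulAut V)
    (θ : V →* ℂˣ) (a : ℕ) : Prop where
  ne_one : θ ≠ 1
  odd : Odd (Nat.card (charStab actV θ))
  prime_dvd : ∃ r : ℕ, r.Prime ∧ r ∣ Nat.card E - 1 ∧ ¬ r ∣ Nat.card (charStab actV θ)
  fixed : ∃ e : E, e ≠ 1 ∧ ∀ g ∈ charStab actV θ, actE g e = e
  not_dvd : ¬ p ∣ Nat.card D
  coprime : a.Coprime p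
  moved : ∀ g : X, ∃ v : V, θ (actV g v) ≠ θ v ^ a

/-- The configuration with `p = 11` and scalars of order five. -/
structure ElevenCase (p : ℕ) (D : Subgroup X) (actE : X →* MulAut E) (actV : X →* MulAut V)
    (δ z w : X) : Prop where
  eleven : p = 11
  δ_mem : δ ∈ D
  δ_ord : orderOf δ = 3
  δ_fix : ∃ v : V, v ≠ 1 ∧ actV δ v = v
  z_mem : z ∈ D
  z_ord : orderOf z = 5
  z_triv : actE z = 1
  z_free : ∀ v : V, actV z v = v → v = 1
  z_comm : Commute z δ
  w_ne : w ≠ 1
  w_sq : w * w = 1
  w_inv : w * δ * w⁻¹ = δ⁻¹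
  w_comm : Commute w z
  cosets : {c : X ⧸ D | δ • c = c}.ncard ≤ 2

end CfsgLib.Bender.OddQuot
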