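import Cfsg.Agent.Lib.Bender.OddQuot.FixKernel
import Cfsg.Agent.Lib.Bender.OddQuot.Data

/-!
# The quotient of a point stabilizer by the semiregular group is a `Data`

`Setting`: `π` is the quotient map of `G_b` by `C`, acting by conjugation on the group `E` of
involutions at `b` and on `Y`. `Setting.data`: its image is a `Data`.
-/

set_option autoImplicit false
set_option linter.style.haveILetI false
set_option linter.unusedSectionVars false

namespace CfsgLib.Bender.OddQuot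

open Subgroup MulAction
open CfsgLib.Bender.Core
open CfsgLib.Coprime (IsSylowIn conjBy)
open CfsgLib.Invol (fixed_unique invol_conj invol_smul_smul invol_inv invol_mul_self)
open scoped IsMulCommutative

universe u

variable {G : Type u} [Group G] {H : Subgroup G} {b x : G ⧸ H} {p : ℕ} {Y C E : Subgroup G}
  {X : Type u} [Group X]

/-- The quotient map and the two actions. -/
structure Setting (b : G ⧸ H) (Y C E : Subgroup G) [IsMulCommutative Y] [IsMulCommutative E]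
    (π : ↥(stabilizer G b) →* X) (actE : X →* MulAut E) (actV : X →* MulAut Y) : Prop where
  surj : Function.Surjective π
  ker : ∀ g, π g = 1 ↔ (g : G) ∈ C
  memE : ∀ g : G, g ∈ E ↔ g = 1 ∨ (orderOf g = 2 ∧ g • b = b)
  conjE : ∀ (g : ↥(stabilizer G b)) (e : E), ((actE (π g) e : E) : G) = g * e * (g : G)⁻¹
  conjV : ∀ (g : ↥(stabilizer G b)) (v : Y), ((actV (π g) v : Y) : G) = g * v * (g : G)⁻¹

/-- The image of the pair. -/
def pairImg (π : ↥(stabilizer G b) →* X) (x : G ⧸ H) : Subgroup X :=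
  ((pairStab b x).subgroupOf (stabilizer G b)).map π

/-- The elements of the pair over a subgroup of the quotient. -/
def liftPair (π : ↥(stabilizer G b) →* X) (x : G ⧸ H) (P : Subgroup X) : Subgroup G :=
  (P.comap π ⊓ (pairStab b x).subgroupOf (stabilizer G b)).map (stabilizer G b).subtype

theorem mem_liftPair {π : ↥(stabilizer G b) →* X} {P : Subgroup X} {d : G} :
    d ∈ liftPair π x P ↔ ∃ hd : d ∈ stabilizer G b, π ⟨d, hd⟩ ∈ P ∧ d ∈ pairStab b x := by
  constructor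
  · rintro ⟨a, ⟨ha, ha'⟩, rfl⟩
    exact ⟨a.2, ha, ha'⟩
  · rintro ⟨hd, h1, h2⟩
    exact ⟨⟨d, hd⟩, ⟨h1, h2⟩, rfl⟩

theorem liftPair_le (π : ↥(stabilizer G b) →* X) (P : Subgroup X) :
    liftPair π x P ≤ pairStab b x := fun _ hd => (mem_liftPair.1 hd).2.2

variable [Finite G] [Finite X] [IsMulCommutative Y] [IsMulCommutative E]
  {π : ↥(stabilizer G b) →* X} {actE : X →* MulAut E} {actV : X →* MulAut Y}

/-- The setting exists. -/
theorem Base.exists_setting (B : Base H b p Y C)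
    (hC : C = stabilizer G b ⊓ Subgroup.centralizer (Y : Set G)) :
    ∃ (E : Subgroup G) (_ : IsMulCommutative E) (X : Type u) (_ : Group X) (_ : Finite X)
      (π : ↥(stabilizer G b) →* X) (actE : X →* MulAut E) (actV : X →* MulAut Y),
      Setting b Y C E π actE actV := by
  obtain ⟨E, hE, hEC, hCE, hn, -⟩ := B.ctx.exists_involGroup B.atC B.reg B.invol
  haveI : IsMulCommutative E := ⟨⟨fun u w => Subtype.ext
    (mem_centralizer_iff.1 (hCE (hEC w.2)) u u.2)⟩⟩
  haveI : (C.subgroupOf (stabilizer G b)).Normal :=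
    (normal_subgroupOf_iff_le_normalizer B.atC.le).2 B.atC.norm
  let aE : ↥(stabilizer G b) →* MulAut E :=
    (E.normalizerMonoidHom).comp (Subgroup.inclusion hn)
  let aV : ↥(stabilizer G b) →* MulAut Y :=
    (Y.normalizerMonoidHom).comp (Subgroup.inclusion B.atY.norm)
  refine ⟨E, inferInstance, ↥(stabilizer G b) ⧸ C.subgroupOf (stabilizer G b), inferInstance,
    inferInstance, QuotientGroup.mk' _,
    QuotientGroup.lift _ aE (fun c hc => ?_), QuotientGroup.lift _ aV (fun c hc => ?_),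
    QuotientGroup.mk'_surjective _, fun g => ?_, hE, fun g e => rfl, fun g v => rfl⟩
  · refine MonoidHom.mem_ker.2 (MulEquiv.ext fun e => Subtype.ext ?_)
    show (c : G) * e * (c : G)⁻¹ = e
    have h1 : (c : G) ∈ C := hc
    rw [← mem_centralizer_iff.1 (hCE h1) e e.2, mul_inv_cancel_right]
  · refine MonoidHom.mem_ker.2 (MulEquiv.ext fun v => Subtype.ext ?_)
    show (c : G) * v * (c : G)⁻¹ = v
    have h1 : (c : G) ∈ C := hc
    rw [hC] at h1
    rw [← mem_centralizer_iff.1 h1.2 v v.2, mul_inv_cancel_right]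
  · rw [QuotientGroup.mk'_apply, QuotientGroup.eq_one_iff, mem_subgroupOf]

namespace Setting

variable (T : Setting b Y C E π actE actV)
include T

theorem fixE {g : ↥(stabilizer G b)} {e : E} :
    actE (π g) e = e ↔ Commute (g : G) e := by
  rw [Subtype.ext_iff, T.conjE, mul_inv_eq_iff_eq_mul]
  rfl

theorem fixV {g : ↥(stabilizer G b)} {v : Y} :
    actV (π g) v = v ↔ Commute (g : G) v := by
  rw [Subtype.ext_iff, T.conjV, mul_inv_eq_iff_eq_mul]
  rfl

theorem invol_of_ne {e : E} (he : e ≠ 1) : orderOf (e : G) = 2 ∧ (e : G) • b = b :=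
  ((T.memE e).1 e.2).resolve_left fun h => he (Subtype.ext h)

variable (B : Base H b p Y C) (hxb : x ≠ b)
include B hxb

theorem injOn {d d' : ↥(stabilizer G b)} (hd : (d : G) ∈ pairStab b x)
    (hd' : (d' : G) ∈ pairStab b x) (h : π d = π d') : d = d' := by
  have h1 : ((d⁻¹ * d' : ↥(stabilizer G b)) : G) ∈ C :=
    (T.ker _).1 (by rw [map_mul, map_inv, h, inv_mul_cancel])
  refine inv_mul_eq_one.1 (Subtype.ext (B.reg _ h1 x hxb ?_))
  exact mem_stabilizer_iff.1 (mul_mem (inv_mem hd.2) hd'.2)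

theorem exists_lift {g : X} (hg : g ∈ pairImg π x) :
    ∃ d : ↥(stabilizer G b), (d : G) ∈ pairStab b x ∧ π d = g ∧ orderOf (d : G) = orderOf g := by
  obtain ⟨d, hd, rfl⟩ := hg
  refine ⟨d, hd, rfl, ?_⟩
  rw [Subgroup.orderOf_coe]
  refine (Nat.dvd_antisymm (orderOf_map_dvd π d) ?_).symm
  refine orderOf_dvd_of_pow_eq_one
    (T.injOn B hxb (pow_mem hd _) (one_mem ((pairStab b x).subgroupOf (stabilizer G b))) ?_)
  rw [map_pow, map_one, pow_orderOf_eq_one]

theorem card_liftPair {P : Subgroup X} (hP : P ≤ pairImg π x) :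
    Nat.card (liftPair π x P) = Nat.card P := by
  rw [liftPair, card_map_of_injective (Subgroup.subtype_injective _)]
  set K := P.comap π ⊓ (pairStab b x).subgroupOf (stabilizer G b)
  refine Nat.card_congr (Equiv.ofBijective (fun a : K => (⟨π a, a.2.1⟩ : P))
    ⟨fun a c h => Subtype.ext (T.injOn B hxb a.2.2 c.2.2 (congrArg Subtype.val h)), fun g => ?_⟩)
  obtain ⟨d, hd, hdg, -⟩ := T.exists_lift B hxb (hP g.2)
  exact ⟨⟨d, (show π d ∈ P by rw [hdg]; exact g.2), hd⟩, Subtype.ext hdg⟩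

theorem card_pairImg : Nat.card (pairImg π x) = Nat.card (pairStab b x) := by
  rw [← T.card_liftPair B hxb le_rfl]
  refine Nat.card_congr (Equiv.setCongr (congrArg SetLike.coe (le_antisymm (liftPair_le _ _) ?_)))
  exact fun d hd => mem_liftPair.2 ⟨hd.1, ⟨⟨d, hd.1⟩, hd, rfl⟩, hd⟩

/-- An element normalizing, modulo `C`, a subgroup of prime order dividing the number of
involutions normalizes it modulo `C` inside the pair. -/
theorem mem_pairImg_of_normalizer {g : X} (hg : g ∈ pairImg π x) (hgp : (orderOf g).Prime)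
    (hgm : orderOf g ∣ numInv H) {k : X} (hk : k ∈ normalizer (zpowers g : Set X)) :
    k ∈ pairImg π x := by
  obtain ⟨d, hd, rfl, hdo⟩ := T.exists_lift B hxb hg
  obtain ⟨k, rfl⟩ := T.surj k
  have hdC : zpowers (d : G) ≤ normalizer (C : Set G) := zpowers_le.2 (B.atC.norm d.2)
  have hcop : (Nat.card C).Coprime (Nat.card (zpowers (d : G))) := by
    rw [Nat.card_zpowers, hdo]
    exact (B.ctx.coprime_card_numInv B.atC B.reg B.invol).coprime_dvd_right hgm
  have hB : conjBy (k : G) (zpowers (d : G)) ≤ zpowers (d : G) ⊔ C := by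
    rw [conjBy, MonoidHom.map_zpowers, zpowers_le]
    obtain ⟨i, hi⟩ := mem_zpowers_iff.1 ((mem_normalizer_iff.1 hk _).1 (mem_zpowers (π d)))
    have h1 : (((d ^ i)⁻¹ * (k * d * k⁻¹) : ↥(stabilizer G b)) : G) ∈ C := (T.ker _).1 (by
      simp only [map_mul, map_inv, map_zpow, ← hi, inv_mul_cancel])
    show (k : G) * d * (k : G)⁻¹ ∈ _
    have h2 : (k : G) * d * (k : G)⁻¹ =
        (d : G) ^ i * (((d : G) ^ i)⁻¹ * ((k : G) * d * (k : G)⁻¹)) := by group
    rw [h2]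
    exact mul_mem_sup (zpow_mem (mem_zpowers _) i) h1
  obtain ⟨c, hc, hck⟩ := CfsgLib.Coprime.sz_conj_in hdC hcop hB (CfsgLib.Coprime.card_conjBy _ _)
    (Or.inl (CfsgLib.Coprime.isSolvable_of_isMulCommutative inferInstance))
  rw [CfsgLib.Coprime.conjBy_conjBy] at hck
  have hckb : c * k ∈ stabilizer G b := mul_mem (B.atC.le hc) k.2
  have h3 := B.normalizer_le_of_dvd hxb hd (hdo ▸ hgp) (hdo ▸ hgm) hckb
    (CfsgLib.Coprime.conjBy_eq_self_iff.1 hck)
  refine ⟨⟨c * k, hckb⟩, h3, ?_⟩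
  rw [show (⟨c * (k : G), hckb⟩ : ↥(stabilizer G b)) = ⟨c, B.atC.le hc⟩ * k from rfl, map_mul,
    (T.ker _).2 hc, one_mul]

theorem sylow (s : ℕ) (R : Subgroup X) (hs : s.Prime) (hsm : s ∣ numInv H)
    (hR : IsSylowIn s R (pairImg π x)) : IsSylowIn s R ⊤ ∧ IsCyclic R := by
  haveI := Fact.mk hs
  have hR' : IsSylowIn s (liftPair π x R) (pairStab b x) :=
    ⟨liftPair_le π R, by rw [T.card_liftPair B hxb hR.1, hR.2, T.card_pairImg B hxb]⟩
  obtain ⟨hRb, -⟩ := B.ctx.sylow_of_dvd_numInv B.atC B.reg B.invol hsm hxb hR'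
  obtain ⟨hcyc, -⟩ := B.sylow_dvd hxb hsm hR'
  refine ⟨⟨le_top, ?_⟩, ?_⟩
  · rw [← T.card_liftPair B hxb hR.1, hRb.2, card_top]
    congr 1
    have hk : π.ker = C.subgroupOf (stabilizer G b) := Subgroup.ext fun g => T.ker g
    rw [← π.ker.card_mul_index, hk, ← hk, Subgroup.index_ker, MonoidHom.range_eq_top.2 T.surj,
      card_top, Nat.factorization_mul Nat.card_pos.ne' Nat.card_pos.ne', Finsupp.add_apply,
      Nat.factorization_eq_zero_of_not_dvd, zero_add]
    intro hd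
    rw [hk, Nat.card_congr (subgroupOfEquivOfLe B.atC.le).toEquiv] at hd
    exact hs.not_dvd_one
      ((B.ctx.coprime_card_numInv B.atC B.reg B.invol) ▸ Nat.dvd_gcd hd hsm)
  · haveI := hcyc
    let φ : liftPair π x R →* R :=
      { toFun := fun d => ⟨π ⟨d, (mem_liftPair.1 d.2).1⟩, (mem_liftPair.1 d.2).2.1⟩
        map_one' := Subtype.ext (map_one π)
        map_mul' := fun d e => Subtype.ext
          (map_mul π ⟨(d : G), (mem_liftPair.1 d.2).1⟩ ⟨(e : G), (mem_liftPair.1 e.2).1⟩) }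
    refine isCyclic_of_surjective φ fun g => ?_
    obtain ⟨d, hd, hdg, -⟩ := T.exists_lift B hxb (hR.1 g.2)
    have hdR : π d ∈ R := hdg ▸ g.2
    exact ⟨⟨d, mem_liftPair.2 ⟨d.2, hdR, hd⟩⟩, Subtype.ext hdg⟩

/-- A subgroup of the pair fixing two involutions lifts to one centralizing them. -/
theorem exists_lift_four {P : Subgroup X} (hP : P ≤ pairImg π x) (hP1 : P ≠ ⊥)
    (h4 : FixesFour actE P) :
    liftPair π x P ≠ ⊥ ∧ ∃ t s : G, orderOf t = 2 ∧ t • b = b ∧ orderOf s = 2 ∧ s • b = b ∧ t ≠ s ∧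
      (∀ d ∈ liftPair π x P, Commute t d) ∧ ∀ d ∈ liftPair π x P, Commute s d := by
  obtain ⟨e, f, he, hf, hef, hfix⟩ := h4
  refine ⟨fun h => hP1 (card_eq_one.1 (by rw [← T.card_liftPair B hxb hP, h, card_bot])), e, f,
    (T.invol_of_ne he).1, (T.invol_of_ne he).2, (T.invol_of_ne hf).1, (T.invol_of_ne hf).2,
    fun h => hef (Subtype.ext h), fun d hd => ?_, fun d hd => ?_⟩
  all_goals obtain ⟨hdb, hdP, -⟩ := mem_liftPair.1 hd
  · exact (T.fixE.1 (hfix _ hdP).1).symm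
  · exact (T.fixE.1 (hfix _ hdP).2).symm

theorem fix_trans (P : Subgroup X) (hP : P ≤ pairImg π x) (h4 : FixesFour actE P) (g : X)
    (hg : ∀ d ∈ P, g⁻¹ * d * g ∈ pairImg π x) :
    ∃ c ∈ centralizer (P : Set X), c⁻¹ * g ∈ pairImg π x := by
  rcases eq_or_ne P ⊥ with hP1 | hP1
  · refine ⟨g, mem_centralizer_iff.2 fun d hd => ?_, by rw [inv_mul_cancel]; exact one_mem _⟩
    rw [hP1] at hd
    rw [mem_bot.1 hd, one_mul, mul_one]
  obtain ⟨hP'1, t, s, ht, htb, hs, hsb, hts, htP, hsP⟩ := T.exists_lift_four B hxb hP hP1 h4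
  set P' := liftPair π x P with hP'
  have hP'D : P' ≤ pairStab b x := liftPair_le π P
  obtain ⟨g, rfl⟩ := T.surj g
  set K := conjBy (g : G)⁻¹ P' with hK
  set A := pairStab b x ⊓ (K ⊔ C) with hA
  have hKb : K ≤ stabilizer G b := by
    rintro _ ⟨d, hd, rfl⟩
    exact mul_mem (mul_mem (inv_mem g.2) (hP'D hd).1) (by rw [inv_inv]; exact g.2)
  have hKC : K ≤ normalizer (C : Set G) := hKb.trans B.atC.norm
  have hcop : (Nat.card P').Coprime (Nat.card C) :=
    B.coprime_semireg hxb hP'D ht htb hs hsb hts htP hsP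
  have hKdec : ∀ k ∈ K, ∃ u ∈ A, ∃ c ∈ C, k = u * c := by
    intro k hk
    obtain ⟨d, hd, rfl⟩ := hk
    obtain ⟨hdb, hdP, -⟩ := mem_liftPair.1 hd
    obtain ⟨u, hu, hue⟩ := hg _ hdP
    set k' : ↥(stabilizer G b) := g⁻¹ * ⟨d, hdb⟩ * g with hk'
    have h1 : ((u⁻¹ * k' : ↥(stabilizer G b)) : G) ∈ C :=
      (T.ker _).1 (by rw [map_mul, map_inv, hue, hk', map_mul, map_mul, map_inv, inv_mul_cancel])
    have h2 : (u : G) * ((u⁻¹ * k' : ↥(stabilizer G b)) : G) =
        (MulAut.conj (g : G)⁻¹).toMonoidHom d := by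
      simp [hk', mul_assoc]
    refine ⟨u, ⟨hu, ?_⟩, _, h1, h2.symm⟩
    rw [show (u : G) = (MulAut.conj (g : G)⁻¹).toMonoidHom d *
      (((u⁻¹ * k' : ↥(stabilizer G b)) : G))⁻¹ by rw [← h2, mul_inv_cancel_right]]
    exact mul_mem (mem_sup_left ⟨d, hd, rfl⟩) (mem_sup_right (inv_mem h1))
  have hdisjA : A ⊓ C = ⊥ := (eq_bot_iff_forall _).2 fun c hc =>
    B.reg c hc.2 x hxb (mem_stabilizer_iff.1 hc.1.1.2)
  have hdisjK : K ⊓ C = ⊥ := inf_eq_bot_of_coprime (by
    rw [hK, CfsgLib.Coprime.card_conjBy]; exact hcop)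
  have hAb : A ≤ stabilizer G b := inf_le_left.trans inf_le_left
  have himg : ∀ Q : Subgroup G, Q ≤ stabilizer G b → Q ⊓ C = ⊥ →
      Nat.card ↥((Q.subgroupOf (stabilizer G b)).map π) = Nat.card Q := by
    intro Q hQb hQC
    refine Eq.trans (Nat.card_congr (Equiv.ofBijective
      (fun a : Q.subgroupOf (stabilizer G b) =>
        (⟨π a, a, a.2, rfl⟩ : ↥((Q.subgroupOf (stabilizer G b)).map π)))
      ⟨fun a c h => Subtype.ext (inv_mul_eq_one.1 (Subtype.ext ?_)), ?_⟩)).symm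
      (Nat.card_congr (subgroupOfEquivOfLe hQb).toEquiv)
    · have h1 : (((a : ↥(stabilizer G b))⁻¹ * c : ↥(stabilizer G b)) : G) ∈ Q ⊓ C :=
        ⟨Q.mul_mem (Q.inv_mem a.2) c.2, (T.ker _).1 (by
          rw [map_mul, map_inv, show π a = π c from congrArg Subtype.val h, inv_mul_cancel])⟩
      rw [hQC, mem_bot] at h1
      exact h1
    · rintro ⟨_, a, ha, rfl⟩
      exact ⟨⟨a, ha⟩, rfl⟩
  have hmaps : (A.subgroupOf (stabilizer G b)).map π = (K.subgroupOf (stabilizer G b)).map π := by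
    refine le_antisymm ?_ ?_
    · rintro _ ⟨a, ha, rfl⟩
      obtain ⟨c, hc, k, hk, e⟩ :=
        CfsgLib.Coprime.mem_sup_exists hKC (sup_comm K C ▸ (mem_subgroupOf.1 ha).2)
      refine ⟨⟨k, hKb hk⟩, hk, ?_⟩
      rw [show a = ⟨c, B.atC.le hc⟩ * ⟨k, hKb hk⟩ from Subtype.ext e.symm, map_mul,
        (T.ker ⟨c, B.atC.le hc⟩).2 hc, one_mul]
    · rintro _ ⟨k, hk, rfl⟩
      obtain ⟨u, hu, c, hc, e⟩ := hKdec _ hk
      refine ⟨⟨u, hAb hu⟩, hu, ?_⟩
      rw [show k = ⟨u, hAb hu⟩ * ⟨c, B.atC.le hc⟩ from Subtype.ext e, map_mul,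
        (T.ker ⟨c, B.atC.le hc⟩).2 hc, mul_one]
  have hcard : Nat.card K = Nat.card A := by
    rw [← himg A hAb hdisjA, hmaps, himg K hKb hdisjK]
  have hKle : K ≤ A ⊔ C := fun k hk => by
    obtain ⟨u, hu, c, hc, e⟩ := hKdec k hk
    exact e ▸ mul_mem_sup hu hc
  obtain ⟨c, hc, hcK⟩ := CfsgLib.Coprime.sz_conj_in (hAb.trans B.atC.norm) (by
    rw [← hcard, hK, CfsgLib.Coprime.card_conjBy]; exact hcop.symm) hKle hcard
    (Or.inl (Cfsg.Agent.S0205.result
      ((odd_pairStab B.ctx.se hxb.symm).of_dvd_nat (card_dvd_of_le inf_le_left))))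
  have hcb : c ∈ stabilizer G b := B.atC.le hc
  set y := ((g : G) * c⁻¹) • x with hy
  have hgcb : (g : G) * c⁻¹ ∈ stabilizer G b := mul_mem g.2 (inv_mem hcb)
  have hyb : y ≠ b := fun e => hxb (smul_left_cancel _ (e.trans (mem_stabilizer_iff.1 hgcb).symm))
  have hPy : P' ≤ stabilizer G y := by
    intro d hd
    have h1 : c * ((g : G)⁻¹ * d * (g : G)⁻¹⁻¹) * c⁻¹ ∈ A :=
      hcK ▸ ⟨_, ⟨d, hd, rfl⟩, rfl⟩
    have h2 : (c * (g : G)⁻¹ * d * ((g : G) * c⁻¹)) • x = x := by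
      have := mem_stabilizer_iff.1 h1.1.2
      rw [inv_inv] at this
      simpa [mul_assoc] using this
    rw [mem_stabilizer_iff, hy, smul_smul]
    rw [mul_smul, mul_smul] at h2
    rw [show c * (g : G)⁻¹ = ((g : G) * c⁻¹)⁻¹ by group, inv_smul_eq_iff, smul_smul] at h2
    exact h2
  obtain ⟨k, hkP, hkb, hkx⟩ :=
    B.exists_centralizer_map hxb hP'D hP'1 ht htb hs hsb hts htP hsP hyb hPy
  refine ⟨π ⟨k, mem_stabilizer_iff.2 hkb⟩, mem_centralizer_iff.2 fun e he => ?_, ?_⟩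
  · obtain ⟨d, hd, hde, -⟩ := T.exists_lift B hxb (hP he)
    have hd' : (d : G) ∈ P' := mem_liftPair.2 ⟨d.2, by
      rw [show (⟨(d : G), d.2⟩ : ↥(stabilizer G b)) = d from rfl, hde]
      exact he, hd⟩
    rw [← hde, ← map_mul, ← map_mul]
    exact congrArg π (Subtype.ext (mem_centralizer_iff.1 hkP _ hd'))
  · refine ⟨⟨k, mem_stabilizer_iff.2 hkb⟩⁻¹ * g * ⟨c, hcb⟩⁻¹, ?_, ?_⟩
    · have h3 : (k⁻¹ * (g : G) * c⁻¹) • x = x := by
        rw [mul_assoc, mul_smul, ← hy, inv_smul_eq_iff, hkx]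
      exact ⟨(stabilizer G b).mul_mem ((stabilizer G b).mul_mem
          ((stabilizer G b).inv_mem (mem_stabilizer_iff.2 hkb)) g.2) ((stabilizer G b).inv_mem hcb),
        mem_stabilizer_iff.2 h3⟩
    · rw [map_mul, map_mul, map_inv, map_inv, (T.ker ⟨c, hcb⟩).2 hc, inv_one, mul_one]

theorem kernel (P : Subgroup X) (hP : P ≤ pairImg π x) (hP1 : P ≠ ⊥) (h4 : FixesFour actE P)
    (K : Subgroup X) (hK : K ≤ centralizer (P : Set X)) (hKodd : Odd (Nat.card K))
    (hKn : centralizer (P : Set X) ≤ normalizer (K : Set X))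
    (htriv : ∀ k ∈ K, ∀ e : E, (∀ d ∈ P, actE d e = e) → actE k e = e) : K ≤ pairImg π x := by
  classical
  obtain ⟨hP'1, t, s, ht, htb, hs, hsb, hts, htP, hsP⟩ := T.exists_lift_four B hxb hP hP1 h4
  set P' := liftPair π x P with hP'
  have hP'D : P' ≤ pairStab b x := liftPair_le π P
  have hP'b : P' ≤ stabilizer G b := hP'D.trans inf_le_left
  set L := Subgroup.centralizer (P' : Set G) ⊓ stabilizer G b with hL
  have hcop : (Nat.card P').Coprime (Nat.card C) :=
    B.coprime_semireg hxb hP'D ht htb hs hsb hts htP hsP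
  have hlift : ∀ e ∈ P, ∃ d : ↥(stabilizer G b), (d : G) ∈ P' ∧ π d = e := fun e he => by
    obtain ⟨d, hd, hde, -⟩ := T.exists_lift B hxb (hP he)
    exact ⟨d, mem_liftPair.2 ⟨d.2, by
      rw [show (⟨(d : G), d.2⟩ : ↥(stabilizer G b)) = d from rfl, hde]
      exact he, hd⟩, hde⟩
  have hcent : ∀ {l : ↥(stabilizer G b)}, (l : G) ∈ Subgroup.centralizer (P' : Set G) →
      π l ∈ centralizer (P : Set X) := fun {l} hl => mem_centralizer_iff.2 fun e he => by
    obtain ⟨d, hd, rfl⟩ := hlift e he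
    rw [← map_mul, ← map_mul]
    exact congrArg π (Subtype.ext (mem_centralizer_iff.1 hl _ hd))
  set W := (K.comap π).map (stabilizer G b).subtype ⊓ L with hW
  have hWmem : ∀ {w : G}, w ∈ W → ∃ hw : w ∈ stabilizer G b, π ⟨w, hw⟩ ∈ K := fun {w} hw => by
    obtain ⟨a, ha, rfl⟩ := hw.1
    exact ⟨a.2, ha⟩
  have hWC : C ⊓ Subgroup.centralizer (P' : Set G) ≤ W := fun c hc => by
    refine ⟨⟨⟨c, B.atC.le hc.1⟩, ?_, rfl⟩, hc.2, B.atC.le hc.1⟩
    show π _ ∈ K
    rw [(T.ker _).2 hc.1]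
    exact one_mem K
  have hodd : Odd ((C ⊓ Subgroup.centralizer (P' : Set G)).relIndex W) := by
    refine hKodd.of_dvd_nat ?_
    let ψ : W →* X := π.comp (Subgroup.inclusion (inf_le_right.trans inf_le_right : W ≤ stabilizer G b))
    have hker : (C ⊓ Subgroup.centralizer (P' : Set G)).subgroupOf W = ψ.ker := by
      ext w
      rw [mem_subgroupOf, MonoidHom.mem_ker]
      exact ⟨fun hw => (T.ker _).2 hw.1, fun hw => ⟨(T.ker _).1 hw, w.2.2.1⟩⟩
    rw [relIndex, hker, Subgroup.index_ker]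
    refine card_dvd_of_le ?_
    rintro _ ⟨w, rfl⟩
    exact (hWmem w.2).2
  have hWn : L ≤ normalizer (W : Set G) := fun l hl => by
    refine mem_normalizer_inf (mem_normalizer_iff.2 fun w => ?_) (le_normalizer hl)
    have hconj : ∀ l : ↥(stabilizer G b), π l ∈ centralizer (P : Set X) → ∀ w ∈
        (K.comap π).map (stabilizer G b).subtype,
        (l : G) * w * (l : G)⁻¹ ∈ (K.comap π).map (stabilizer G b).subtype := by
      rintro l hl' _ ⟨a, ha, rfl⟩
      refine ⟨l * a * l⁻¹, ?_, rfl⟩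
      show π _ ∈ K
      rw [map_mul, map_mul, map_inv]
      exact (mem_normalizer_iff.1 (hKn hl') _).1 ha
    refine ⟨hconj ⟨l, hl.2⟩ (hcent hl.1) w, fun hw => ?_⟩
    simpa [mul_assoc] using hconj ⟨l, hl.2⟩⁻¹ (hcent (inv_mem hl.1)) _ hw
  have hWD := B.le_pair_sup_of_odd_image hxb hP'D hP'1 ht htb hs hsb hts htP hsP (W := W)
    inf_le_right hWC hodd hWn fun w hw e he he2 => by
      obtain ⟨hwb, hwK⟩ := hWmem hw
      rcases eq_or_ne e 1 with rfl | he1
      · exact Commute.one_right w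
      have heo : orderOf e = 2 := orderOf_eq_prime (by rwa [pow_two]) he1
      have heE : e ∈ E := (T.memE e).2 (Or.inr ⟨heo, mem_stabilizer_iff.1 (B.atC.le he.1)⟩)
      refine (T.fixE (g := ⟨w, hwb⟩) (e := ⟨e, heE⟩)).1 (htriv _ hwK _ fun d hd => ?_)
      obtain ⟨d, hd', rfl⟩ := hlift d hd
      exact T.fixE.2 (mem_centralizer_iff.1 he.2 _ hd')
  intro k hk
  obtain ⟨k', rfl⟩ := T.surj k
  obtain ⟨n, hn, hkn⟩ := CfsgLib.Coprime.exists_fixed_in_coset (A := P') (N := C)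
    (hP'b.trans B.atC.norm) hcop (Or.inl (Cfsg.Agent.S0205.result
      ((odd_pairStab B.ctx.se hxb.symm).of_dvd_nat (card_dvd_of_le hP'D))))
    (k := (k' : G)) (B.atC.norm k'.2) fun d hd => by
      obtain ⟨hdb, hdP, -⟩ := mem_liftPair.1 hd
      refine (T.ker (⟨d, hdb⟩ * k' * ⟨d, hdb⟩⁻¹ * k'⁻¹)).1 ?_
      simp only [map_mul, map_inv]
      rw [mem_centralizer_iff.1 (hK hk) _ hdP, mul_inv_cancel_right, mul_inv_cancel]
  have hn1 : π ⟨n, B.atC.le hn⟩ = 1 := (T.ker _).2 hn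
  have hknW : (k' : G) * n ∈ W := by
    refine ⟨⟨k' * ⟨n, B.atC.le hn⟩, ?_, rfl⟩, hkn, mul_mem k'.2 (B.atC.le hn)⟩
    show π _ ∈ K
    rwa [map_mul, hn1, mul_one]
  obtain ⟨c, hc, d, hd, e⟩ := CfsgLib.Coprime.mem_sup_exists
    ((inf_le_left : pairStab b x ≤ stabilizer G b).trans B.atC.norm)
    (sup_comm (pairStab b x) C ▸ hWD hknW)
  refine ⟨⟨d, hd.1⟩, hd, ?_⟩
  calc π ⟨d, hd.1⟩ = π (⟨c, B.atC.le hc⟩ * ⟨d, hd.1⟩) := by
        rw [map_mul, (T.ker ⟨c, B.atC.le hc⟩).2 hc, one_mul]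
    _ = π (k' * ⟨n, B.atC.le hn⟩) := congrArg π (Subtype.ext e)
    _ = π k' := by rw [map_mul, hn1, mul_one]

/-- **The quotient is a `Data`.** -/
theorem data {t : G} (ht : orderOf t = 2) (htb : t • b = b)
    (hmin : ∀ Z : Subgroup G, Z ≤ Y → AtPoints Z b → Z = ⊥ ∨ Z = Y)
    (hC : C = stabilizer G b ⊓ Subgroup.centralizer (Y : Set G)) :
    Data p (pairImg π x) actE actV ⟨t, (T.memE t).2 (Or.inr ⟨ht, htb⟩)⟩ := by
  classical
  have hEn : Nat.card E - 1 = numInv H := by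
    have hset : (E : Set G) = insert (1 : G) {g : G | orderOf g = 2 ∧ g • b = b} := by
      ext g; simp [T.memE]
    rw [← SetLike.coe_sort_coe, Nat.card_coe_set_eq, hset,
      Set.ncard_insert_of_notMem (fun e => by simpa using e.1) (Set.toFinite _),
      ← Nat.card_coe_set_eq, Nat.add_sub_cancel]
    exact CfsgLib.Invol.card_fixing_eq B.ctx.se b
  obtain ⟨t₁, s₁, ht₁, hs₁, hts₁, hc₁, ht₁b, hs₁b⟩ := B.ctx.exists_four b
  refine
    { prime := B.prime
      ne_two := B.ne_two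
      expE := fun e => ?_
      card_four := ?_
      t_ne := fun e => CfsgLib.Invol.invol_ne_one ht (congrArg Subtype.val e)
      expV := fun v => Subtype.ext (B.elem.2 v v.2)
      ntV := (Subgroup.nontrivial_iff_ne_bot Y).2 B.ne_bot
      faithful := (injective_iff_map_eq_one _).2 fun g hg => ?_
      irred := fun W hW => ?_
      oddD := by rw [T.card_pairImg B hxb]; exact odd_pairStab B.ctx.se hxb.symm
      trans := fun e he => ?_
      sylow := fun s R hs hsm hR => T.sylow B hxb s R hs (hEn ▸ hsm) hR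
      freeE := fun g hg hgp hgm e he => ?_
      freeV := fun g hg hgp hgm v hv => ?_
      normalizer_le := fun g hg hgp hgm k hk =>
        T.mem_pairImg_of_normalizer B hxb hg hgp (hEn ▸ hgm) hk
      four_free := fun d hd hd1 e f he hf hef hde hdf v hv => ?_
      line := fun d hd hdp => ?_
      fix_trans := T.fix_trans B hxb
      kernel := T.kernel B hxb }
  · rcases (T.memE e).1 e.2 with h | ⟨h, -⟩
    · exact Subtype.ext (by simp [h])
    · exact Subtype.ext (invol_mul_self h)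
  · have hts2 : t₁ * s₁ ∈ E := mul_mem ((T.memE _).2 (Or.inr ⟨ht₁, ht₁b⟩))
      ((T.memE _).2 (Or.inr ⟨hs₁, hs₁b⟩))
    have h4 : ({1, t₁, s₁, t₁ * s₁} : Finset G).card = 4 := by
      have h1 : t₁ ≠ 1 := CfsgLib.Invol.invol_ne_one ht₁
      have h2 : s₁ ≠ 1 := CfsgLib.Invol.invol_ne_one hs₁
      have h3 : t₁ * s₁ ≠ 1 := fun e => hts₁ ((eq_inv_of_mul_eq_one_left e).trans (invol_inv hs₁))
      rw [Finset.card_insert_of_notMem, Finset.card_insert_of_notMem,
        Finset.card_insert_of_notMem, Finset.card_singleton]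
      all_goals simp [h1, h2, h3, h1.symm, h2.symm, h3.symm, hts₁]
    rw [← h4, ← Nat.card_eq_finsetCard]
    refine Nat.card_le_card_of_injective (fun a => (⟨a.1, ?_⟩ : E))
      fun a c h => Subtype.ext (congrArg Subtype.val h :)
    obtain ⟨a, ha⟩ := a
    simp only [Finset.mem_insert, Finset.mem_singleton] at ha
    rcases ha with rfl | rfl | rfl | rfl
    exacts [one_mem _, (T.memE _).2 (Or.inr ⟨ht₁, ht₁b⟩), (T.memE _).2 (Or.inr ⟨hs₁, hs₁b⟩), hts2]
  · obtain ⟨g, rfl⟩ := T.surj g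
    refine (T.ker g).2 (hC ▸ ⟨g.2, mem_centralizer_iff.2 fun v hv => ?_⟩)
    exact (T.fixV.1 (show actV (π g) ⟨v, hv⟩ = ⟨v, hv⟩ by rw [hg]; rfl)).symm.eq
  · set Z := W.map Y.subtype with hZ
    have hZat : AtPoints Z b := ⟨(map_subtype_le W).trans B.atY.le, fun g hg => by
      have hclosed : ∀ g : ↥(stabilizer G b), ∀ z ∈ Z, (g : G) * z * (g : G)⁻¹ ∈ Z := by
        rintro g _ ⟨w, hw, rfl⟩
        exact ⟨actV (π g) w, hW _ w hw, T.conjV g w⟩
      exact mem_normalizer_iff.2 fun z => ⟨hclosed ⟨g, hg⟩ z, fun hz => by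
        simpa [mul_assoc] using hclosed ⟨g, hg⟩⁻¹ _ hz⟩⟩
    rcases hmin Z (map_subtype_le W) hZat with h | h
    · exact Or.inl ((map_eq_bot_iff_of_injective _ Y.subtype_injective).1 h)
    · refine Or.inr (eq_top_iff.2 fun v _ => ?_)
      obtain ⟨w, hw, e⟩ := show (v : G) ∈ Z by rw [h]; exact v.2
      exact (Subtype.ext e : w = v) ▸ hw
  · obtain ⟨he2, heb⟩ := T.invol_of_ne he
    obtain ⟨w, -, hwb⟩ := exists_swapper B.ctx.se hxb.symm
    obtain ⟨d, -, hdb, hdx, hde⟩ := transitive_fixing B.ctx.se ⊤ (u := w) (mem_top _)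
      (by rwa [hwb]) ht (mem_top _) htb he2 (mem_top _) heb
    rw [hwb] at hdx
    exact ⟨π ⟨d, mem_stabilizer_iff.2 hdb⟩,
      ⟨_, ⟨mem_stabilizer_iff.2 hdb, mem_stabilizer_iff.2 hdx⟩, rfl⟩,
      Subtype.ext ((T.conjE _ _).trans hde)⟩
  · obtain ⟨d, hd, rfl, hdo⟩ := T.exists_lift B hxb hg
    by_contra he1
    exact B.not_commute_invol_of_dvd hxb hd (hdo ▸ hgp) (hdo ▸ hEn ▸ hgm) (T.invol_of_ne he1).1
      (T.invol_of_ne he1).2 (T.fixE.1 he).symm
  · obtain ⟨d, hd, rfl, hdo⟩ := T.exists_lift B hxb hg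
    exact Subtype.ext (B.eq_one_of_commute_dvd hxb hd (hdo ▸ hgp) (hdo ▸ hEn ▸ hgm) v.2
      (T.fixV.1 hv).symm)
  · obtain ⟨d', hd', rfl, -⟩ := T.exists_lift B hxb hd
    exact Subtype.ext (B.eq_one_of_four hxb B.atY B.yle B.odd_card hd'
      (fun e => hd1 (by rw [show d' = 1 from Subtype.ext e, map_one])) (T.invol_of_ne he).1
      (T.invol_of_ne he).2 (T.fixE.1 hde).symm (T.invol_of_ne hf).1 (T.invol_of_ne hf).2
      (T.fixE.1 hdf).symm (fun e' => hef (Subtype.ext e')) v.2 (T.fixV.1 hv).symm)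
  · obtain ⟨d', hd', rfl, hdo⟩ := T.exists_lift B hxb hd
    refine le_trans ?_ (B.card_inf_centralizer_le hxb hd' (hdo ▸ hdp))
    refine Nat.card_le_card_of_injective
      (fun v => ⟨((v.1 : Y) : G), v.1.2, mem_centralizer_singleton_iff.2 (T.fixV.1 v.2).symm.eq⟩)
      fun a c h => Subtype.ext (Subtype.ext (congrArg Subtype.val h :))

end Setting

end CfsgLib.Bender.OddQuot
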