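import Cfsg.Agent.Lib.Bender.End.Endgame
import Cfsg.Agent.Lib.Bender.End.GaloisTwist
import Cfsg.Agent.Lib.Bender.OddQuot.Quot
import Cfsg.Agent.Lib.Bender.OddQuot.Goal
import Mathlib.Analysis.Complex.Polynomial.Basic

/-!
# A good character of `Y` gives a contradiction

`Base.false_of_goodChar`: the endgame applies with `N = Y`, `S` the two-part of `C`, the stabilizer of
the good character, an invariant linear form on the involutions at `b` and a Galois twist.
-/

set_option autoImplicit false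
set_option linter.style.haveILetI false
set_option linter.unusedSectionVars false

namespace CfsgLib.Bender.OddQuot

open Cfsg Subgroup MulAction
open CfsgLib.Bender.Core
open CfsgLib.Bender.End (linStab conjLin conjLin_apply orbitLin linFun OnlyBase)
open CfsgLib.Coprime (IsSylowIn conjBy)
open CfsgLib.Invol (fixed_unique invol_conj invol_smul_smul invol_inv invol_mul_self)
open scoped IsMulCommutative

universe u

variable {G : Type u} [Group G] [Finite G] {H : Subgroup G} {b x : G ⧸ H} {p : ℕ}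
  {Y C E : Subgroup G} {X : Type u} [Group X] [Finite X] [IsMulCommutative Y] [IsMulCommutative E]
  {π : ↥(stabilizer G b) →* X} {actE : X →* MulAut E} {actV : X →* MulAut Y}

omit [IsMulCommutative Y] [IsMulCommutative E] [Finite X] in
/-- The points are odd in number. -/
theorem Base.odd_index_stabilizer (B : Base H b p Y C) : Odd (stabilizer G b).index := by
  haveI : Fact (Nat.Prime 2) := ⟨Nat.prime_two⟩
  obtain ⟨t, -, ht, -, -, -, htb, -⟩ := B.ctx.exists_four b
  rw [index_stabilizer_of_transitive]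
  have hP : IsPGroup 2 (zpowers t) := IsPGroup.of_card (n := 1) (by
    rw [Nat.card_zpowers, ht, pow_one])
  have hset : MulAction.fixedPoints (zpowers t) (G ⧸ H) = {b} := by
    ext c
    refine ⟨fun hc => fixed_unique B.ctx.se ht (hc ⟨t, mem_zpowers t⟩) htb, ?_⟩
    rintro rfl ⟨d, hd⟩
    exact mem_stabilizer_iff.1 (zpowers_le.2 (mem_stabilizer_iff.2 htb) hd)
  have h1 := hP.card_modEq_card_fixedPoints (G ⧸ H)
  rw [hset, Nat.card_coe_set_eq, Set.ncard_singleton] at h1
  exact Nat.odd_iff.2 h1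

omit [IsMulCommutative Y] [IsMulCommutative E] [Finite X] in
/-- `|C|` is less than the number of points. -/
theorem Base.card_lt_index (B : Base H b p Y C) (hxb : x ≠ b) :
    Nat.card C < (stabilizer G b).index := by
  rw [index_stabilizer_of_transitive]
  haveI := Fintype.ofFinite C
  haveI := Fintype.ofFinite (G ⧸ H)
  rw [Nat.card_eq_fintype_card, Nat.card_eq_fintype_card]
  refine Fintype.card_lt_of_injective_of_notMem (fun c : C => (c : G) • x) (fun c d e => ?_) (b := b) ?_
  · have h1 : ((d : G)⁻¹ * c) • x = x := by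
      rw [mul_smul, show (c : G) • x = (d : G) • x from e, inv_smul_smul]
    exact Subtype.ext (inv_mul_eq_one.1 (B.reg _ (mul_mem (inv_mem d.2) c.2) x hxb h1)).symm
  · rintro ⟨c, hc⟩
    exact hxb (smul_left_cancel (c : G) (hc.trans (mem_stabilizer_iff.1 (B.atC.le c.2)).symm))

set_option maxHeartbeats 1600000 in
/-- **A good character is impossible.** -/
theorem Base.false_of_goodChar (B : Base H b p Y C) (T : Setting b Y C E π actE actV) (hxb : x ≠ b)
    {θ : Y →* ℂˣ} {a : ℕ} (hθ : GoodChar p (pairImg π x) actE actV θ a) : False := by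
  classical
  have h := B.ctx
  haveI : Fact (Nat.Prime 2) := ⟨Nat.prime_two⟩
  haveI := Fintype.ofFinite G
  haveI := Fintype.ofFinite ↥(stabilizer G b)
  obtain ⟨t₀, -, ht₀, -, -, -, ht₀b, -⟩ := h.exists_four b
  -- the two-part of `C`
  haveI := h.isNilpotent B.atC B.reg B.invol
  let P : Sylow 2 C := default
  haveI hPn := ((Group.isNilpotent_of_finite_tfae (G := C)).out 0 3 rfl rfl).1 inferInstance 2
    ⟨Nat.prime_two⟩ P
  haveI := P.characteristic_of_normal hPn
  set S₀ := (P : Subgroup C).map C.subtype with hS₀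
  have hS₀at : AtPoints S₀ b := Ctx.atPoints_map_subtype B.atC _
  have hS₀C : S₀ ≤ C := map_subtype_le _
  have hS₀2 : IsPGroup 2 S₀ := P.2.map C.subtype
  have hinS : ∀ g ∈ C, g * g = 1 → g ∈ S₀ := fun g hg hg2 => by
    obtain ⟨P', hP'⟩ := (show IsPGroup 2 (zpowers (⟨g, hg⟩ : C)) from by
      rintro ⟨_, i, rfl⟩
      refine ⟨1, Subtype.ext ?_⟩
      show ((⟨g, hg⟩ : C) ^ i) ^ 2 ^ 1 = 1
      rw [pow_one, ← zpow_natCast, zpow_comm, zpow_natCast,
        show (⟨g, hg⟩ : C) ^ 2 = 1 from Subtype.ext ((pow_two g).trans hg2), one_zpow]).exists_le_sylow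
    letI := Sylow.unique_of_normal P hPn
    exact ⟨⟨g, hg⟩, Subsingleton.elim P' P ▸ hP' (mem_zpowers _), rfl⟩
  have hEC : E ≤ C := fun g hg => by
    rcases (T.memE g).1 hg with rfl | ⟨hg2, hgb⟩
    exacts [one_mem _, B.invol g hg2 hgb]
  have hEn : stabilizer G b ≤ normalizer (E : Set G) := by
    have key : ∀ g : ↥(stabilizer G b), ∀ e ∈ E, (g : G) * e * (g : G)⁻¹ ∈ E := fun g e he =>
      T.conjE g ⟨e, he⟩ ▸ (actE (π g) ⟨e, he⟩).2
    exact fun g hg => mem_normalizer_iff.2 fun e => ⟨key ⟨g, hg⟩ e, fun he => by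
      simpa [mul_assoc] using key ⟨g, hg⟩⁻¹ _ he⟩
  set S := S₀.subgroupOf (stabilizer G b) with hS
  set E' := E.subgroupOf (stabilizer G b) with hE'
  set N := Y.subgroupOf (stabilizer G b) with hN
  haveI : S.Normal := (normal_subgroupOf_iff_le_normalizer hS₀at.le).2 hS₀at.norm
  haveI : E'.Normal := (normal_subgroupOf_iff_le_normalizer (hEC.trans B.atC.le)).2 hEn
  haveI : N.Normal := (normal_subgroupOf_iff_le_normalizer B.atY.le).2 B.atY.norm
  -- the character on `N`
  set eN : N ≃* Y := subgroupOfEquivOfLe B.atY.le with heN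
  set θ' : N →* ℂˣ := θ.comp eN.toMonoidHom with hθ'
  have hconjV : ∀ (g : ↥(stabilizer G b)) (v : N), eN ((MulAut.conjNormal g : MulAut N) v) = actV (π g) (eN v) :=
    fun g v => Subtype.ext (by
      rw [T.conjV]
      show ((((MulAut.conjNormal g : MulAut N) v) : N) : G) = _
      rw [MulAut.conjNormal_apply]
      rfl)
  have hconjLin : ∀ (g : ↥(stabilizer G b)) (v : N), conjLin θ' g v = θ (actV (π g) (eN v)) := fun g v =>
    congrArg θ (hconjV g v)
  have hstab : linStab θ' = (charStab actV θ).comap π := by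
    ext g
    show conjLin θ' g = θ' ↔ _
    rw [mem_comap, mem_charStab]
    refine ⟨fun e v => ?_, fun e => MonoidHom.ext fun v => (hconjLin g v).trans (e _)⟩
    have h1 := DFunLike.congr_fun e (eN.symm v)
    rwa [hconjLin, hθ', MonoidHom.comp_apply, MulEquiv.coe_toMonoidHom, MulEquiv.apply_symm_apply]
      at h1
  have hker : π.ker = C.subgroupOf (stabilizer G b) := Subgroup.ext fun g => T.ker g
  have hcardT : Nat.card (linStab θ') = Nat.card C * Nat.card (charStab actV θ) := by
    have h1 := (linStab θ').card_mul_index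
    have h2 := (charStab actV θ).card_mul_index
    have h3 := π.ker.card_mul_index
    rw [Subgroup.index_ker, MonoidHom.range_eq_top.2 T.surj, card_top, hker,
      Nat.card_congr (subgroupOfEquivOfLe B.atC.le).toEquiv, ← h2, ← h1, ← mul_assoc,
      hstab, index_comap_of_surjective _ T.surj] at h3
    rw [hstab]
    exact (Nat.eq_of_mul_eq_mul_right (Nat.pos_of_ne_zero index_ne_zero_of_finite) h3).symm
  have hScard : Nat.card S = Nat.card S₀ :=
    Nat.card_congr (subgroupOfEquivOfLe hS₀at.le).toEquiv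
  have hSN : ∀ s ∈ S, ∀ v ∈ N, s * v = v * s := fun s hs v hv => by
    have h1 : π s = 1 := (T.ker s).2 (hS₀C hs)
    have h2 : Commute (s : G) v := T.fixV.1 (show actV (π s) ⟨v, hv⟩ = ⟨v, hv⟩ by
      rw [h1, map_one]; rfl)
    exact Subtype.ext h2.eq
  have hST : S ≤ linStab θ' := fun s hs => by
    rw [hstab, mem_comap, (T.ker s).2 (hS₀C hs)]
    exact one_mem _
  have hSodd : Odd (S.subgroupOf (linStab θ')).index := by
    have h1 := (S.subgroupOf (linStab θ')).card_mul_index
    rw [Nat.card_congr (subgroupOfEquivOfLe hST).toEquiv, hScard, hcardT, hS₀,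
      card_map_of_injective C.subtype_injective, ← (P : Subgroup C).card_mul_index, mul_assoc] at h1
    rw [Nat.eq_of_mul_eq_mul_left Nat.card_pos h1]
    refine Odd.mul ?_ hθ.odd
    rw [← Nat.not_even_iff_odd, even_iff_two_dvd]
    exact P.not_dvd_index
  -- the invariant form
  obtain ⟨e₀, he₀, hfixed⟩ := hθ.fixed
  obtain ⟨ε₀, hε₀⟩ := CommGroup.exists_apply_ne_one_of_hasEnoughRootsOfUnity E ℂ he₀
  haveI := Fintype.ofFinite (charStab actV θ)
  set εb : E →* ℂˣ := ∏ g : charStab actV θ, ε₀.comp (actE (g : X)).toMonoidHom with hεb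
  have hεb_apply : ∀ e : E, εb e = ∏ g : charStab actV θ, ε₀ (actE (g : X) e) := fun e => by
    rw [hεb, MonoidHom.finsetProd_apply]
    rfl
  have hεb_inv : ∀ g ∈ charStab actV θ, ∀ e : E, εb (actE g e) = εb e := fun g hg e => by
    rw [hεb_apply, hεb_apply]
    refine Fintype.prod_equiv (Equiv.mulRight ⟨g, hg⟩) _ _ fun k => ?_
    rw [Equiv.coe_mulRight, Subgroup.coe_mul, map_mul, MulAut.mul_apply]
  have hεb_ne : εb e₀ ≠ 1 := by
    rw [hεb_apply, Finset.prod_congr rfl fun (g : charStab actV θ) _ => congrArg ε₀ (hfixed g g.2),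
      Finset.prod_const, Finset.card_univ, ← Nat.card_eq_fintype_card]
    intro hc
    refine hε₀ ?_
    obtain ⟨j, hj⟩ := hθ.odd
    have he2 : e₀ * e₀ = 1 := by
      rcases (T.memE e₀).1 e₀.2 with e | ⟨e, -⟩
      · exact absurd (Subtype.ext e) he₀
      · exact Subtype.ext (invol_mul_self e)
    have h2 : ε₀ e₀ ^ 2 = 1 := by rw [pow_two, ← map_mul, he2, map_one]
    rw [hj, pow_succ, pow_mul, h2, one_pow, one_mul] at hc
    exact hc
  set eE : E' ≃* E := subgroupOfEquivOfLe (hEC.trans B.atC.le) with heE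
  set ε : E' →* ℂˣ := εb.comp eE.toMonoidHom with hε
  have hε1 : ε ≠ 1 := fun e => hεb_ne (by
    have := DFunLike.congr_fun e (eE.symm e₀)
    rwa [hε, MonoidHom.comp_apply, MulEquiv.coe_toMonoidHom, MulEquiv.apply_symm_apply,
      MonoidHom.one_apply] at this)
  have hεT : ∀ g ∈ linStab θ', ∀ (e : E') (he : g * e * g⁻¹ ∈ E'),
      ε ⟨g * e * g⁻¹, he⟩ = ε e := fun g hg e he => by
    rw [hstab, mem_comap] at hg
    show εb (eE ⟨g * e * g⁻¹, he⟩) = εb (eE e)
    rw [← hεb_inv _ hg (eE e)]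
    refine congrArg εb (Subtype.ext ?_)
    rw [T.conjE]
    rfl
  -- the prime
  obtain ⟨r, hr, hrm, hrθ⟩ := hθ.prime_dvd
  have hE'card : Nat.card E' = Nat.card E :=
    Nat.card_congr eE.toEquiv
  have hnum : Nat.card E - 1 = numInv H := by
    have hset : (E : Set G) = insert (1 : G) {g : G | orderOf g = 2 ∧ g • b = b} := by
      ext g; simp [T.memE]
    rw [← SetLike.coe_sort_coe, Nat.card_coe_set_eq, hset,
      Set.ncard_insert_of_notMem (fun e => by simpa using e.1) (Set.toFinite _),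
      ← Nat.card_coe_set_eq, Nat.add_sub_cancel]
    exact CfsgLib.Invol.card_fixing_eq h.se b
  have hrT : ¬ r ∣ Nat.card (linStab θ') := fun hd => by
    rw [hcardT] at hd
    rcases hr.dvd_mul.1 hd with hd | hd
    · exact hr.not_dvd_one ((h.coprime_card_numInv B.atC B.reg B.invol) ▸
        Nat.dvd_gcd hd (hnum ▸ hrm))
    · exact hrθ hd
  have hn : Nat.card S * Nat.card N < (stabilizer G b).index := by
    refine lt_of_le_of_lt (Nat.le_of_dvd Nat.card_pos ?_) (B.card_lt_index hxb)
    rw [hScard, show Nat.card N = Nat.card Y from Nat.card_congr eN.toEquiv]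
    refine Nat.Coprime.mul_dvd_of_dvd_of_dvd ?_ (card_dvd_of_le hS₀C) (card_dvd_of_le B.yle)
    obtain ⟨i, hi⟩ := IsPGroup.iff_card.1 hS₀2
    rw [hi]
    exact (Nat.coprime_two_left.2 B.odd_card).pow_left i
  -- the Galois twist
  obtain ⟨τ, hτfix, hτp⟩ :=
    CfsgLib.Char.BlichfeldtPi.exists_aut B.prime hθ.coprime (Nat.card_pos (α := (stabilizer G b))).ne'
  have hτθ : ∀ v : N, τ (θ' v : ℂ) = (θ' v : ℂ) ^ a := fun v => by
    refine hτp _ ?_
    rw [← Units.val_pow_eq_pow_val, ← map_pow,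
      show v ^ p = 1 from Subtype.ext (Subtype.ext (B.elem.2 _ v.2)), map_one, Units.val_one]
  have hmoved : ∀ g : (stabilizer G b), ∃ v : N, conjLin θ' g v ≠ θ' v ^ a := fun g => by
    obtain ⟨v, hv⟩ := hθ.moved (π g)
    refine ⟨eN.symm v, ?_⟩
    rwa [hconjLin, hθ', MonoidHom.comp_apply, MulEquiv.coe_toMonoidHom, MulEquiv.apply_symm_apply]
  let τ' : IrrCharacter (stabilizer G b) → IrrCharacter (stabilizer G b) := fun ψ =>
    ⟨fun g => τ ((ψ : (stabilizer G b) → ℂ) g), CfsgLib.Char.BlichfeldtPi.isIrr_galois τ ψ⟩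
  set t : (stabilizer G b) := ⟨t₀, mem_stabilizer_iff.2 ht₀b⟩ with ht
  have hto : orderOf t = 2 := by rw [← Subgroup.orderOf_coe]; exact ht₀
  have hoff : ∀ g : (stabilizer G b), ¬ OnlyBase (stabilizer G b) (g : G) → ¬ p ∣ orderOf g := fun g hg hpd => by
    rw [OnlyBase] at hg
    push Not at hg
    obtain ⟨k, hk, hkb⟩ := hg g.2
    have hc : (g : G) • k • b = k • b := by
      have := mem_stabilizer_iff.1 hk
      rwa [mul_smul, mul_smul, inv_smul_eq_iff] at this
    have hne : k • b ≠ b := fun e => hkb (mem_stabilizer_iff.2 e)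
    obtain ⟨l, hl, hlx⟩ := h.transitive hxb.symm hne.symm
    have hd : l⁻¹ * g * l ∈ pairStab b x := by
      refine ⟨(stabilizer G b).mul_mem ((stabilizer G b).mul_mem ((stabilizer G b).inv_mem hl) g.2) hl,
        mem_stabilizer_iff.2 ?_⟩
      rw [mul_smul, mul_smul, hlx, hc, inv_smul_eq_iff, hlx]
    refine hθ.not_dvd ?_
    rw [T.card_pairImg B hxb]
    refine hpd.trans ?_
    rw [← Subgroup.orderOf_coe, show orderOf (g : G) = orderOf (l⁻¹ * g * l) by
      rw [show l⁻¹ * (g : G) * l = MulAut.conj l⁻¹ g by simp, MulEquiv.orderOf_eq]]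
    exact Subgroup.orderOf_dvd_natCard _ hd
  refine CfsgLib.Bender.End.false_of_base (H := stabilizer G b) B.odd_index_stabilizer ?_ (t := t) ?_ ?_ ?_
    (S := S) (E := E') (N := N) (hS₀2.comap_subtype) ?_ ?_ ?_ ?_ hSN θ' hSodd ε hε1 hεT hr
    (hE'card ▸ hrm) hrT hn τ' (fun ψ ψ' _ _ e => Subtype.ext (funext fun g =>
      τ.injective (congrFun (congrArg Subtype.val e) g))) fun ψ hψ => ⟨?_, ?_, ?_, ?_⟩
  · -- elements of even order
    intro g hg
    refine ⟨g.2, fun k hk => mem_stabilizer_iff.2 ?_⟩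
    set z := (g : G) ^ (orderOf (g : G) / 2) with hz
    have hzo : orderOf z = 2 :=
      orderOf_pow_orderOf_div (orderOf_pos _).ne' (even_iff_two_dvd.1 hg)
    have hzb : z • b = b := mem_stabilizer_iff.1 (pow_mem g.2 _)
    have hgk : (g : G) ∈ stabilizer G (k • b) := by
      rw [mem_stabilizer_iff]
      have := mem_stabilizer_iff.1 hk
      rwa [mul_smul, mul_smul, inv_smul_eq_iff] at this
    exact fixed_unique h.se hzo (mem_stabilizer_iff.1 (pow_mem hgk _)) hzb
  · exact fun e => CfsgLib.Invol.invol_ne_one ht₀ (congrArg Subtype.val e)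
  · exact Subtype.ext (invol_mul_self ht₀)
  · intro j hj
    obtain ⟨c, hc⟩ := isConj_iff.1 hj
    obtain ⟨w, -, hwb⟩ := exists_swapper h.se hxb.symm
    obtain ⟨d, -, hdb, -, hde⟩ := transitive_fixing h.se ⊤ (u := w) (mem_top _)
      (by rwa [hwb]) ht₀ (mem_top _) ht₀b (t := (j : G)) (hc ▸ invol_conj ht₀ c) (mem_top _)
      (mem_stabilizer_iff.1 j.2)
    exact isConj_iff.2 ⟨⟨d, mem_stabilizer_iff.2 hdb⟩, Subtype.ext hde⟩
  · exact fun e he => hinS _ (hEC he) (by
      rcases (T.memE _).1 he with e1 | ⟨e1, -⟩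
      · rw [e1, one_mul]
      · exact invol_mul_self e1)
  · exact (T.memE _).2 (Or.inr ⟨ht₀, ht₀b⟩)
  · intro e he he1
    obtain ⟨he2, heb⟩ := ((T.memE _).1 he).resolve_left fun e1 => he1 (Subtype.ext e1)
    obtain ⟨w, -, hwb⟩ := exists_swapper h.se hxb.symm
    obtain ⟨d, -, hdb, -, hde⟩ := transitive_fixing h.se ⊤ (u := w) (mem_top _)
      (by rwa [hwb]) ht₀ (mem_top _) ht₀b he2 (mem_top _) heb
    exact isConj_iff.2 ⟨⟨d, mem_stabilizer_iff.2 hdb⟩, Subtype.ext hde⟩
  · rw [Nat.card_congr eN.toEquiv]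
    exact B.odd_card
  · exact CfsgLib.Bender.End.proj_galois_eq_zero θ' τ hτθ hmoved hψ
  · exact CfsgLib.Bender.End.galois_apply_eq (p := p) τ hτfix ψ (by
      rw [orderOf_one]; exact B.prime.not_dvd_one)
  · exact CfsgLib.Bender.End.galois_apply_eq (p := p) τ hτfix ψ (by
      rw [hto]; exact fun e => B.ne_two ((Nat.prime_dvd_prime_iff_eq B.prime Nat.prime_two).1 e))
  · exact fun g hg => CfsgLib.Bender.End.galois_apply_eq (p := p) τ hτfix ψ (hoff g hg)

end CfsgLib.Bender.OddQuot
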