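import Cfsg.Agent.Lib.Bender.OddQuot.PFree
import Cfsg.Agent.Lib.Bender.OddQuot.Goal
import Mathlib.GroupTheory.FiniteAbelian.Duality
import Mathlib.RingTheory.RootsOfUnity.AlgebraicallyClosed
import Mathlib.Analysis.Complex.Polynomial.Basic

/-!
# Linear characters when `X` is odd
-/

set_option autoImplicit false
set_option linter.style.haveILetI false
set_option linter.unusedSectionVars false

namespace CfsgLib.Bender.OddQuot

open Subgroup
open CfsgLib.Coprime (IsSylowIn)

universe u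

variable {X E V : Type u} [Group X] [CommGroup E] [CommGroup V] [Finite X] [Finite E] [Finite V]
  {p : ℕ} {D : Subgroup X} {actE : X →* MulAut E} {actV : X →* MulAut V} {t : E}

namespace Data

variable (S : Data p D actE actV t)
include S

/-- An element of prime order dividing `|E| - 1` is conjugate into `D`. -/
theorem exists_conj_mem {g : X} (hgp : (orderOf g).Prime) (hgm : orderOf g ∣ Nat.card E - 1) :
    ∃ k : X, k * g * k⁻¹ ∈ D ∧ orderOf (k * g * k⁻¹) = orderOf g := by
  haveI := Fact.mk hgp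
  obtain ⟨R, hR, -⟩ := CfsgLib.Bender.exists_sylowIn_ge (K := D) (P := ⊥)
    (IsPGroup.of_bot (p := orderOf g)) bot_le
  obtain ⟨hRtop, -⟩ := S.sylow _ R hgp hgm hR
  obtain ⟨k, -, hk⟩ := CfsgLib.Bender.exists_conjBy_le (Q := zpowers g) (L := ⊤)
    (IsPGroup.of_card (n := 1) (by rw [Nat.card_zpowers, pow_one])) le_top hRtop
  exact ⟨k, hR.1 (hk ⟨g, mem_zpowers g, rfl⟩), (MulAut.conj k).orderOf_eq g⟩

/-- Elements of prime order dividing `|E| - 1` are fixed point free on `V`. -/
theorem free_of_order {g : X} (hgp : (orderOf g).Prime) (hgm : orderOf g ∣ Nat.card E - 1) {v : V}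
    (hv : actV g v = v) : v = 1 := by
  obtain ⟨k, hk, hko⟩ := S.exists_conj_mem hgp hgm
  refine (actV k).injective ?_
  rw [map_one]
  refine S.freeV _ hk (hko.symm ▸ hgp) (hko.symm ▸ hgm) _ ?_
  rw [map_mul, map_mul, map_inv, MulAut.mul_apply, MulAut.mul_apply]
  show actV k (actV g ((actV k).symm (actV k v))) = actV k v
  rw [MulEquiv.symm_apply_apply, hv]

/-- Such elements fix no non-trivial linear character. -/
theorem notMem_charStab {θ : V →* ℂˣ} (hθ : θ ≠ 1) {g : X} (hgp : (orderOf g).Prime)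
    (hgm : orderOf g ∣ Nat.card E - 1) : g ∉ charStab actV θ := by
  intro hg
  refine hθ (MonoidHom.ext fun v => ?_)
  have hinj : Function.Injective fun w : V => actV g w * w⁻¹ := by
    intro a c h
    refine mul_inv_eq_one.1 (S.free_of_order hgp hgm ?_)
    have h1 : actV g a * a⁻¹ = actV g c * c⁻¹ := h
    calc actV g (a * c⁻¹) = (actV g a * a⁻¹) * (a * (actV g c)⁻¹) := by
          rw [map_mul, map_inv, ← mul_assoc, inv_mul_cancel_right]
      _ = a * c⁻¹ := by
          rw [h1, mul_comm (actV g c) c⁻¹, mul_comm a (actV g c)⁻¹, ← mul_assoc, mul_assoc c⁻¹,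
            mul_inv_cancel, mul_one, mul_comm]
  obtain ⟨w, rfl⟩ := Finite.surjective_of_injective hinj v
  rw [map_mul, map_inv, hg w, mul_inv_cancel]
  rfl

theorem coprime_charStab {θ : V →* ℂˣ} (hθ : θ ≠ 1) :
    (Nat.card (charStab actV θ)).Coprime (Nat.card E - 1) := by
  refine Nat.coprime_of_dvd fun r hr hrT hrm => ?_
  haveI := Fact.mk hr
  obtain ⟨g, hg⟩ := exists_prime_orderOf_dvd_card' (G := charStab actV θ) r hrT
  rw [← Subgroup.orderOf_coe] at hg
  exact S.notMem_charStab hθ (hg.symm ▸ hr) (hg.symm ▸ hrm) g.2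

theorem exists_char : ∃ θ : V →* ℂˣ, θ ≠ 1 := by
  haveI := S.ntV
  obtain ⟨v, hv⟩ := exists_ne (1 : V)
  obtain ⟨θ, hθ⟩ := CommGroup.exists_apply_ne_one_of_hasEnoughRootsOfUnity V ℂ hv
  exact ⟨θ, fun h => hθ (by rw [h]; rfl)⟩

theorem pow_prime_char (θ : V →* ℂˣ) (v : V) : θ v ^ p = 1 := by rw [← map_pow, S.expV, map_one]

theorem eq_one_of_sq {θ : V →* ℂˣ} (h : ∀ v, θ v ^ 2 = 1) : θ = 1 := by
  refine MonoidHom.ext fun v => orderOf_eq_one_iff.1 ?_
  exact Nat.eq_one_of_dvd_coprimes ((Nat.coprime_primes Nat.prime_two S.prime).2 S.ne_two.symm)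
    (orderOf_dvd_of_pow_eq_one (h v)) (orderOf_dvd_of_pow_eq_one (S.pow_prime_char θ v))

/-- For odd `X` every non-trivial linear character is good. -/
theorem goodChar_of_odd (hX : Odd (Nat.card X)) :
    ∃ θ a, GoodChar p D actE actV θ a := by
  obtain ⟨θ, hθ⟩ := S.exists_char
  obtain ⟨s, hs, hsm⟩ := S.exists_prime_dvd
  have hcop := S.coprime_charStab hθ
  obtain ⟨L⟩ := CfsgLib.Bender.OddQuot.exists_semilin hX S.expE actE S.t_ne fun e he => by
    obtain ⟨d, -, hde⟩ := S.trans e he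
    exact ⟨d, hde⟩
  refine ⟨θ, p - 1, hθ, hX.of_dvd_nat (Subgroup.card_subgroup_dvd_card _),
    ⟨s, hs, hsm, fun h => hs.not_dvd_one (hcop ▸ Nat.dvd_gcd h hsm)⟩,
    L.exists_fixed_of_coprime S.t_ne _ hcop, S.not_dvd_card, ?_, fun g => ?_⟩
  · rw [Nat.coprime_comm, Nat.coprime_self_sub_right (by exact S.prime.one_le)]
    exact Nat.coprime_one_right p
  · by_contra hcon
    push Not at hcon
    have hinv : ∀ v, θ (actV g v) = (θ v)⁻¹ := fun v => by
      rw [hcon, eq_inv_iff_mul_eq_one, ← pow_succ, Nat.sub_add_cancel S.prime.one_le,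
        S.pow_prime_char]
    have h2 : g ^ 2 ∈ charStab actV θ := mem_charStab.2 fun v => by
      rw [pow_two, map_mul, MulAut.mul_apply, hinv, hinv, inv_inv]
    obtain ⟨j, hj⟩ := exists_pow_eq_self_of_coprime
      (x := g) (n := 2) (Nat.coprime_two_left.2 (hX.of_dvd_nat (orderOf_dvd_natCard g)))
    have hg : g ∈ charStab actV θ := hj ▸ pow_mem h2 j
    refine hθ (S.eq_one_of_sq fun v => ?_)
    have h := hinv v
    rw [hg v] at h
    rw [pow_two]
    nth_rewrite 2 [h]
    exact mul_inv_cancel _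

end Data

end CfsgLib.Bender.OddQuot
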