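import Cfsg.Agent.Lib.Bender.OddQuot.Data
import Cfsg.Agent.Lib.Coprime.Component
import Cfsg.Agent.S0205

/-!
# The kernel of the action on the involutions lies in `D`
-/

set_option autoImplicit false
set_option linter.style.haveILetI false
set_option linter.unusedSectionVars false

namespace CfsgLib.Bender.OddQuot

open Subgroup
open CfsgLib.Coprime (IsSylowIn)
open scoped commutatorElement

universe u

variable {X E V : Type u} [Group X] [CommGroup E] [CommGroup V] [Finite X] [Finite E] [Finite V]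
  {p : ℕ} {D : Subgroup X} {actE : X →* MulAut E} {actV : X →* MulAut V} {t : E}

namespace Data

variable (S : Data p D actE actV t)
include S

/-- A subgroup of order prime to `s` normalized by an element of `D` of order `s` is odd. -/
theorem odd_of_normalized {f : X} (hf : f ∈ D) (hfp : (orderOf f).Prime)
    (hfm : orderOf f ∣ Nat.card E - 1) {K : Subgroup X} (hfK : f ∈ normalizer (K : Set X))
    (hs : ¬ orderOf f ∣ Nat.card K) : Odd (Nat.card K) := by
  classical
  haveI : Fact (Nat.Prime 2) := ⟨Nat.prime_two⟩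
  haveI := Fact.mk hfp
  haveI : Finite (Sylow 2 K) := inferInstance
  have hn : ¬ orderOf f ∣ Nat.card (Sylow 2 K) := fun h => by
    obtain P := Classical.arbitrary (Sylow 2 K)
    exact hs (h.trans ((Sylow.card_dvd_index P).trans (Subgroup.index_dvd_card _)))
  let φ : K ≃* K :=
    { toFun := fun k => ⟨f * k * f⁻¹, (mem_normalizer_iff.1 hfK k).1 k.2⟩
      invFun := fun k => ⟨f⁻¹ * k * f, (mem_normalizer_iff''.1 hfK k).1 k.2⟩
      left_inv := fun k => Subtype.ext (by simp [mul_assoc])
      right_inv := fun k => Subtype.ext (by simp [mul_assoc])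
      map_mul' := fun k k' => Subtype.ext (by simp [mul_assoc]) }
  letI := Fintype.ofFinite (Sylow 2 K)
  let σ : Equiv.Perm (Sylow 2 K) :=
    { toFun := fun P => P.comapOfInjective φ.symm.toMonoidHom φ.symm.injective (by simp)
      invFun := fun P => P.comapOfInjective φ.toMonoidHom φ.injective (by simp)
      left_inv := fun P => Sylow.ext (by ext k; simp)
      right_inv := fun P => Sylow.ext (by ext k; simp) }
  have hφ : ∀ (i : ℕ) (P : Sylow 2 K) (k : K), k ∈ ((σ ^ i) P : Subgroup K) ↔
      (φ.symm : K → K)^[i] k ∈ (P : Subgroup K) := by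
    intro i
    induction i with
    | zero => intro P k; simp
    | succ i ih =>
      intro P k
      rw [pow_succ', Equiv.Perm.mul_apply, Function.iterate_succ_apply]
      exact ih P (φ.symm k)
  have hiter : ∀ (i : ℕ) (k : K), (((φ.symm : K → K)^[i] k : K) : X) = (f⁻¹) ^ i * k * ((f⁻¹) ^ i)⁻¹ := by
    intro i
    induction i with
    | zero => intro k; simp
    | succ i ih =>
      intro k
      rw [Function.iterate_succ_apply']
      show f⁻¹ * _ * f = _
      rw [ih, pow_succ']
      group
  have hσ : σ ^ (orderOf f) ^ 1 = 1 := Equiv.ext fun P => Sylow.ext (by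
    ext k
    rw [pow_one, hφ]
    have : (φ.symm : K → K)^[orderOf f] k = k := Subtype.ext (by
      rw [hiter, inv_pow, pow_orderOf_eq_one, inv_one, one_mul, inv_one, mul_one])
    rw [this]
    rfl)
  obtain ⟨P, hP⟩ := Equiv.Perm.exists_fixed_point_of_prime (p := orderOf f) (n := 1)
    (α := Sylow 2 K) (by rwa [← Nat.card_eq_fintype_card]) hσ
  have hfP : f ∈ normalizer (((P : Subgroup K).map K.subtype : Subgroup X) : Set X) := by
    rw [← CfsgLib.Coprime.conjBy_eq_self_iff, CfsgLib.Coprime.conjBy, Subgroup.map_map]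
    apply eq_of_le_of_card_ge
    · rintro _ ⟨k, hk, rfl⟩
      refine ⟨φ k, ?_, rfl⟩
      have h1 : φ k ∈ (σ P : Subgroup K) := by
        show φ.symm (φ k) ∈ (P : Subgroup K)
        rwa [MulEquiv.symm_apply_apply]
      rwa [hP] at h1
    · rw [card_map_of_injective K.subtype_injective,
        card_map_of_injective ((MulAut.conj f).injective.comp K.subtype_injective)]
  have hbot := S.two_group_eq_bot hf hfp hfm (P.2.map K.subtype) hfP
  rw [Subgroup.map_eq_bot_iff_of_injective _ K.subtype_injective] at hbot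
  rw [← Nat.not_even_iff_odd, even_iff_two_dvd]
  intro h2
  exact P.ne_bot_of_dvd_card h2 hbot

/-- The kernel of the action on `E` is odd. -/
theorem odd_ker : Odd (Nat.card actE.ker) := by
  obtain ⟨s, hs, hsm⟩ := S.exists_prime_dvd
  obtain ⟨f, hf, hfo⟩ := S.exists_free hs hsm
  haveI := Fact.mk hs
  refine S.odd_of_normalized hf (hfo ▸ hs) (hfo ▸ hsm)
    (by rw [Subgroup.normalizer_eq_top]; trivial) fun hd => ?_
  obtain ⟨R, hR, hfR⟩ := CfsgLib.Bender.exists_sylowIn_ge (K := D) (P := zpowers f)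
    (IsPGroup.of_card (n := 1) (by rw [Nat.card_zpowers, hfo, pow_one])) (zpowers_le.2 hf)
  obtain ⟨hRtop, -⟩ := S.sylow s R hs hsm hR
  obtain ⟨k, hk⟩ := exists_prime_orderOf_dvd_card' (G := actE.ker) s (hfo ▸ hd)
  obtain ⟨g, -, hg⟩ := CfsgLib.Bender.exists_conjBy_le (Q := zpowers (k : X)) (L := ⊤)
    (IsPGroup.of_card (n := 1) (by rw [Nat.card_zpowers, Subgroup.orderOf_coe, hk, pow_one]))
    le_top hRtop
  have hkD : g * (k : X) * g⁻¹ ∈ D := hR.1 (hg ⟨_, mem_zpowers _, rfl⟩)
  have hko : orderOf (g * (k : X) * g⁻¹) = s := by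
    rw [show g * (k : X) * g⁻¹ = MulAut.conj g k from rfl, MulEquiv.orderOf_eq, Subgroup.orderOf_coe, hk]
  refine S.t_ne (S.freeE _ hkD (hko.symm ▸ hs) (hko.symm ▸ hsm) t ?_)
  have : g * (k : X) * g⁻¹ ∈ actE.ker := (inferInstance : actE.ker.Normal).conj_mem _ k.2 g
  rw [MonoidHom.mem_ker.1 this]
  rfl

/-- A normal `p`-subgroup is trivial. -/
theorem normal_pGroup_eq_bot {P : Subgroup X} [hPn : P.Normal] (hP : IsPGroup p P) : P = ⊥ := by
  haveI := S.fact_prime
  haveI := S.ntV
  letI : MulAction P V := MulAction.compHom V (actV.comp P.subtype)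
  rcases S.irred (fixPts actV (P : Set X)) (fun g v hv k hk => by
      have h1 : g⁻¹ * k * g ∈ P := by simpa using hPn.conj_mem k hk g⁻¹
      calc actV k (actV g v) = actV (k * g) v := by rw [map_mul]; rfl
        _ = actV (g * (g⁻¹ * k * g)) v := by rw [show g * (g⁻¹ * k * g) = k * g by group]
        _ = actV g v := by rw [map_mul, MulAut.mul_apply, hv _ h1]) with h | h
  · obtain ⟨v, hv, hv1⟩ := hP.exists_fixed_point_of_prime_dvd_card_of_fixed_point V S.dvd_cardV
      (a := (1 : V)) fun g => map_one (actV (g : X))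
    exact absurd ((eq_bot_iff_forall _).1 h v fun g hg => hv ⟨g, hg⟩) hv1.symm
  · refine (eq_bot_iff_forall _).2 fun g hg => S.faithful ?_
    rw [map_one]
    exact MulEquiv.ext fun v => (show v ∈ fixPts actV (P : Set X) by rw [h]; exact mem_top v) g hg

/-- The kernel of the action on `E` is centralized by the free elements of prime order, so lies in
`D`. -/
theorem commute_ker {f : X} (hf : f ∈ D) (hfp : (orderOf f).Prime)
    (hfm : orderOf f ∣ Nat.card E - 1) {k : X} (hk : k ∈ actE.ker) : Commute k f := by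
  haveI := S.fact_prime
  set K := actE.ker with hK
  haveI : Group.IsSolvable K := Cfsg.Agent.S0205.result S.odd_ker
  set F := (Cfsg.fittingSubgroup K).map K.subtype with hF
  haveI := CfsgLib.Coprime.fitting_characteristic (G := K)
  haveI hFn : F.Normal :=
    CfsgLib.Coprime.map_subtype_normal_of_characteristic K (Cfsg.fittingSubgroup K)
  have hsK : ¬ orderOf f ∣ Nat.card K := fun hd => by
    haveI := Fact.mk hfp
    obtain ⟨c, hc⟩ := exists_prime_orderOf_dvd_card' (G := K) _ hd
    obtain ⟨R, hR, -⟩ := CfsgLib.Bender.exists_sylowIn_ge (K := D) (P := zpowers f)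
      (IsPGroup.of_card (n := 1) (by rw [Nat.card_zpowers, pow_one])) (zpowers_le.2 hf)
    obtain ⟨g, -, hg⟩ := CfsgLib.Bender.exists_conjBy_le (Q := zpowers (c : X)) (L := ⊤)
      (IsPGroup.of_card (n := 1) (by rw [Nat.card_zpowers, Subgroup.orderOf_coe, hc, pow_one]))
      le_top (S.sylow _ R hfp hfm hR).1
    have hcD : g * (c : X) * g⁻¹ ∈ D := hR.1 (hg ⟨_, mem_zpowers _, rfl⟩)
    have hco : orderOf (g * (c : X) * g⁻¹) = orderOf f := by
      rw [show g * (c : X) * g⁻¹ = MulAut.conj g c from rfl, MulEquiv.orderOf_eq,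
        Subgroup.orderOf_coe, hc]
    refine S.t_ne (S.freeE _ hcD (hco.symm ▸ hfp) (hco.symm ▸ hfm) t ?_)
    rw [MonoidHom.mem_ker.1 ((inferInstance : K.Normal).conj_mem _ c.2 g)]
    rfl
  have hpF : ¬ p ∣ Nat.card F := by
    intro hd
    rw [hF, card_map_of_injective K.subtype_injective] at hd
    haveI := CfsgLib.Coprime.fitting_isNilpotent (G := K)
    obtain ⟨P⟩ : Nonempty (Sylow p (Cfsg.fittingSubgroup K)) := inferInstance
    haveI : (P : Subgroup (Cfsg.fittingSubgroup K)).Normal :=
      ((Group.isNilpotent_of_finite_tfae (G := Cfsg.fittingSubgroup K)).out 0 3 rfl rfl).1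
        inferInstance p ⟨S.prime⟩ P
    haveI := P.characteristic_of_normal inferInstance
    haveI : ((P : Subgroup (Cfsg.fittingSubgroup K)).map
        (Cfsg.fittingSubgroup K).subtype).Characteristic :=
      inferInstance
    haveI : (((P : Subgroup (Cfsg.fittingSubgroup K)).map
        (Cfsg.fittingSubgroup K).subtype).map K.subtype).Normal :=
      CfsgLib.Coprime.map_subtype_normal_of_characteristic K _
    have := S.normal_pGroup_eq_bot ((P.2.map (Cfsg.fittingSubgroup K).subtype).map K.subtype)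
    rw [Subgroup.map_eq_bot_iff_of_injective _ K.subtype_injective,
      Subgroup.map_eq_bot_iff_of_injective _ (Subgroup.subtype_injective _)] at this
    exact P.ne_bot_of_dvd_card hd this
  have hFK : F ≤ K := map_subtype_le _
  have hcF : ∀ a ∈ F, ⁅a, f⁆ = 1 := fun a ha => S.faithful (by
    rw [map_one]
    exact act_commutator_eq_one actV S.isPGroup hfp (fun e => S.not_dvd_p (e ▸ hfm))
      (pow_orderOf_eq_one f) (by rw [Subgroup.normalizer_eq_top]; trivial)
      (S.odd_ker.of_dvd_nat (card_dvd_of_le hFK)) (fun h => hsK (h.trans (card_dvd_of_le hFK))) hpF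
      (S.freeV f hf hfp hfm) ha)
  have hcF' : ∀ a ∈ F, a * f = f * a := fun a ha =>
    commutatorElement_eq_one_iff_mul_comm.1 (hcF a ha)
  set z := ⁅k, f⁆ with hz
  have hzK : z ∈ K := by
    rw [hz, commutatorElement_def, mul_assoc, mul_assoc]
    refine K.mul_mem hk ?_
    rw [← mul_assoc]
    exact (inferInstance : K.Normal).conj_mem _ (K.inv_mem hk) f
  have hzC : (⟨z, hzK⟩ : K) ∈ centralizer (Cfsg.fittingSubgroup K : Set K) :=
    mem_centralizer_iff.2 fun a ha => Subtype.ext (by
      have haF : (a : X) ∈ F := ⟨a, ha, rfl⟩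
      have hak : k⁻¹ * (a : X) * k ∈ F := by simpa using hFn.conj_mem _ haF k⁻¹
      show (a : X) * z = z * a
      rw [hz, commutatorElement_def]
      calc (a : X) * (k * f * k⁻¹ * f⁻¹) = k * ((k⁻¹ * a * k) * f) * k⁻¹ * f⁻¹ := by group
        _ = k * f * k⁻¹ * (a * f⁻¹) := by rw [hcF' _ hak]; group
        _ = k * f * k⁻¹ * f⁻¹ * a := by
          rw [show (a : X) * f⁻¹ = f⁻¹ * a from ((show Commute (a : X) f from hcF' _ haF).inv_right).eq]
          group)
  have hzF : z ∈ F := ⟨_, CfsgLib.Coprime.centralizer_fitting_le (G := K) hzC, rfl⟩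
  have hzf : Commute z f := hcF' z hzF
  have h1 : (z * f) ^ orderOf f = 1 := by
    rw [hz, commutatorElement_def, inv_mul_cancel_right, conj_pow, pow_orderOf_eq_one, mul_one,
      mul_inv_cancel]
  rw [hzf.mul_pow, pow_orderOf_eq_one, mul_one] at h1
  have h2 : orderOf z ∣ Nat.card K := Subgroup.orderOf_dvd_natCard _ hzK
  have hz1 : z = 1 := by
    rw [← orderOf_eq_one_iff]
    rcases (Nat.dvd_prime hfp).1 (orderOf_dvd_of_pow_eq_one h1) with e | e
    · exact e
    · exact absurd (e ▸ h2) hsK
  exact commutatorElement_eq_one_iff_mul_comm.1 hz1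

theorem ker_le : actE.ker ≤ D := by
  obtain ⟨s, hs, hsm⟩ := S.exists_prime_dvd
  obtain ⟨f, hf, hfo⟩ := S.exists_free hs hsm
  exact fun k hk => S.centralizer_le hf (hfo ▸ hs) (hfo ▸ hsm)
    (mem_centralizer_singleton_iff.2 (S.commute_ker hf (hfo ▸ hs) (hfo ▸ hsm) hk).eq)

end Data

end CfsgLib.Bender.OddQuot
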