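import Cfsg.Agent.Lib.Coprime.UniqueOrderP
import Mathlib.GroupTheory.Transfer
import Mathlib.Algebra.BigOperators.Group.Finset.Basic

/-!
# Lifting elements of order `q` through a central subgroup of a perfect group

`exists_mul_pow_eq_one`, and `commute_of_pGroup_linear`: a `q`-group acting on an elementary
two-group of order at most `2 ^ q` has commuting images.
-/

set_option autoImplicit false
set_option linter.style.haveILetI false
set_option linter.unusedSectionVars false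

namespace CfsgLib.Bender.OddQuot

open Subgroup
open scoped commutatorElement

universe u v

/-- A hom from the `q`-torsion of an abelian Sylow subgroup of a perfect group, invariant under the
normalizer and killed by `q`, is trivial. -/
theorem eq_one_of_invariant {G : Type u} [Group G] [Finite G] (hperf : commutator G = ⊤) {q : ℕ}
    [hq : Fact q.Prime] (P : Sylow q G) [IsMulCommutative (P : Subgroup G)] {A : Type v} [CommGroup A]
    {Ω : Subgroup G} (hΩ : Ω ≤ (P : Subgroup G))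
    (hΩn : normalizer ((P : Subgroup G) : Set G) ≤ normalizer (Ω : Set G))
    (ω : Ω →* A) (hAq : ∀ a : A, a ^ q = 1)
    (hinv : ∀ n ∈ normalizer ((P : Subgroup G) : Set G), ∀ (a : Ω)
      (h : n * (a : G) * n⁻¹ ∈ Ω), ω ⟨n * a * n⁻¹, h⟩ = ω a) :
    ω = 1 := by
  classical
  have hcommP : ∀ a ∈ (P : Subgroup G), ∀ c ∈ (P : Subgroup G), a * c = c * a :=
    fun a ha c hc => congrArg Subtype.val (mul_comm' (⟨a, ha⟩ : (P : Subgroup G)) ⟨c, hc⟩)
  letI : CommGroup Ω :=
    { (inferInstance : Group Ω) with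
      mul_comm := fun a c => Subtype.ext (hcommP a (hΩ a.2) c (hΩ c.2)) }
  set N := normalizer ((P : Subgroup G) : Set G) with hN
  set P' := (P : Subgroup G).subgroupOf N with hP'
  let c : N → Ω →* Ω := fun n =>
    { toFun := fun a => ⟨(n : G) * a * (n : G)⁻¹, (mem_normalizer_iff.1 (hΩn n.2) _).1 a.2⟩
      map_one' := Subtype.ext (by simp)
      map_mul' := fun a d => Subtype.ext (by simp [mul_assoc]) }
  have hc : ∀ n : N, ∀ z ∈ P', ∀ a : Ω, c (n * z) a = c n a := fun n z hz a => Subtype.ext (by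
    show ((n : G) * (z : G)) * a * ((n : G) * (z : G))⁻¹ = n * a * (n : G)⁻¹
    have h := hcommP (z : G) hz (a : G) (hΩ a.2)
    rw [mul_inv_rev, mul_assoc (n : G) (z : G) (a : G), h]
    group)
  haveI : Fintype (N ⧸ P') := Fintype.ofFinite _
  refine MonoidHom.ext fun a => ?_
  rw [MonoidHom.one_apply]
  set u : Ω := ∏ x : N ⧸ P', c x.out a with hu
  have hu1 : (u : G) = 1 := by
    have hfix : ∀ m : N, c m u = u := by
      intro m
      rw [hu, map_prod]
      refine Fintype.prod_equiv (MulAction.toPerm m) _ _ fun x => ?_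
      show c m (c x.out a) = c (m • x).out a
      obtain ⟨z, hz⟩ := QuotientGroup.mk_out_eq_mul P' (m * x.out)
      have hx : ((m * x.out : N) : N ⧸ P') = m • x := by
        conv_rhs => rw [← x.out_eq]
        rfl
      rw [hx] at hz
      rw [hz, hc _ _ z.2]
      exact Subtype.ext (show (m : G) * ((x.out : G) * a * (x.out : G)⁻¹) * (m : G)⁻¹ =
        ((m : G) * (x.out : G)) * a * ((m : G) * (x.out : G))⁻¹ by group)
    have key : ∀ (k : ℕ) (g₀ : G), g₀⁻¹ * (u : G) ^ k * g₀ ∈ (P : Subgroup G) →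
        g₀⁻¹ * (u : G) ^ k * g₀ = (u : G) ^ k := by
      intro k g₀ hk
      obtain ⟨n, hn, h⟩ := P.conj_eq_normalizer_conj_of_mem _ g₀ (pow_mem (hΩ u.2) k) hk
      rw [h]
      have h1 : (n⁻¹ : G) * u * n = u := by
        have := congrArg Subtype.val (hfix ⟨n⁻¹, inv_mem hn⟩)
        simpa [c] using this
      calc n⁻¹ * (u : G) ^ k * n = (n⁻¹ * (u : G) * n⁻¹⁻¹) ^ k := by rw [conj_pow, inv_inv]
        _ = _ := by rw [inv_inv, h1]
    haveI : (P : Subgroup G).FiniteIndex := inferInstance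
    letI : CommGroup (P : Subgroup G) :=
      { (inferInstance : Group (P : Subgroup G)) with mul_comm := fun x y => mul_comm' x y }
    have h1 : MonoidHom.transfer (MonoidHom.id (P : Subgroup G)) (u : G) = 1 := by
      refine MonoidHom.mem_ker.1 (Abelianization.commutator_subset_ker _ ?_)
      rw [hperf]; trivial
    rw [MonoidHom.transfer_eq_pow _ _ key] at h1
    have h2 : (u : G) ^ (P : Subgroup G).index = 1 := congrArg Subtype.val h1
    obtain ⟨j, hj⟩ := IsPGroup.iff_orderOf.1 P.2 ⟨u, hΩ u.2⟩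
    rw [← Subgroup.orderOf_coe] at hj
    rw [← orderOf_eq_one_iff]
    refine Nat.eq_one_of_dvd_coprimes
      (((hq.out.coprime_iff_not_dvd.2 P.not_dvd_index).pow_left j)) ?_ (orderOf_dvd_of_pow_eq_one h2)
    exact dvd_of_eq hj
  have hcount : ω u = ω a ^ Nat.card (N ⧸ P') := by
    rw [hu, map_prod, Nat.card_eq_fintype_card, ← Finset.card_univ, ← Finset.prod_const]
    exact Finset.prod_congr rfl fun x _ => hinv _ x.out.2 a _
  rw [show u = 1 from Subtype.ext hu1, map_one] at hcount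
  rw [← orderOf_eq_one_iff]
  refine Nat.eq_one_of_dvd_coprimes (hq.out.coprime_iff_not_dvd.2 ?_)
    (orderOf_dvd_of_pow_eq_one (hAq _)) (orderOf_dvd_of_pow_eq_one hcount.symm)
  have hle : (P : Subgroup G) ≤ N := le_normalizer
  intro hd
  exact P.not_dvd_index (hd.trans (show P'.index ∣ (P : Subgroup G).index from
    Subgroup.relIndex_dvd_index_of_le hle))

theorem mul_pow_of_odd_choose {G : Type u} [Group G] {q : ℕ} (hq : q.Prime) (hq2 : q ≠ 2) {a b : G}
    {c : G} (hc : ∀ x : G, Commute c x) (hcq : c ^ q = 1) (hba : b * a = a * b * c) :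
    (a * b) ^ q = a ^ q * b ^ q := by
  rw [CfsgLib.Coprime.mul_pow_of_central hc hba]
  obtain ⟨d, hd⟩ : q ∣ q.choose 2 := hq.dvd_choose_self two_ne_zero
    (lt_of_le_of_ne hq.two_le (Ne.symm hq2))
  rw [hd, pow_mul, hcq, one_pow, mul_one]

/-- In a perfect group an element of a Sylow `q`-subgroup with central `q`-th power can be corrected
by a central element to have `q`-th power one. -/
theorem exists_mul_pow_eq_one {M : Type u} [Group M] [Finite M] (hperf : commutator M = ⊤)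
    {Z : Subgroup M} (hZ : Z ≤ Subgroup.center M) {q : ℕ} [hq : Fact q.Prime] (hq2 : q ≠ 2)
    (Q : Sylow q M) (hQ : ∀ a ∈ (Q : Subgroup M), ∀ c ∈ (Q : Subgroup M), ⁅a, c⁆ ∈ Z)
    {x : M} (hx : x ∈ (Q : Subgroup M)) (hxq : x ^ q ∈ Z) : ∃ c ∈ Z, (x * c) ^ q = 1 := by
  classical
  have hZc : ∀ z ∈ Z, ∀ g : M, Commute z g := fun z hz g => (mem_center_iff.1 (hZ hz) g).symm
  haveI : Z.Normal := ⟨fun z hz g => by rwa [← (hZc z hz g).eq, mul_inv_cancel_right]⟩
  set π := QuotientGroup.mk' Z with hπ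
  let P : Sylow q (M ⧸ Z) := Sylow.mapSurjective (f := π) (QuotientGroup.mk'_surjective Z) Q
  have hP : (P : Subgroup (M ⧸ Z)) = (Q : Subgroup M).map π := rfl
  have hcommP : ∀ a ∈ (P : Subgroup (M ⧸ Z)), ∀ c ∈ (P : Subgroup (M ⧸ Z)), a * c = c * a := by
    rw [hP]
    rintro _ ⟨a, ha, rfl⟩ _ ⟨c, hc, rfl⟩
    rw [← map_mul, ← map_mul]
    refine QuotientGroup.eq_iff_div_mem.2 ?_
    rw [div_eq_mul_inv, mul_inv_rev, ← mul_assoc]
    exact hQ a ha c hc
  haveI : IsMulCommutative (P : Subgroup (M ⧸ Z)) :=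
    ⟨⟨fun a c => Subtype.ext (hcommP a a.2 c c.2)⟩⟩
  let Ω : Subgroup (M ⧸ Z) :=
    { carrier := {a | a ∈ (P : Subgroup (M ⧸ Z)) ∧ a ^ q = 1}
      one_mem' := ⟨one_mem _, one_pow q⟩
      mul_mem' := fun {a c} ha hc => ⟨mul_mem ha.1 hc.1, by
        rw [Commute.mul_pow (hcommP a ha.1 c hc.1), ha.2, hc.2, one_mul]⟩
      inv_mem' := fun {a} ha => ⟨inv_mem ha.1, by rw [inv_pow, ha.2, inv_one]⟩ }
  letI : CommGroup Z :=
    { (inferInstance : Group Z) with mul_comm := fun a c => Subtype.ext (hZc a a.2 c) }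
  set R : Subgroup Z := (powMonoidHom q : Z →* Z).range with hR
  have hlift : ∀ a : Ω, (Quotient.out (a : M ⧸ Z)) ^ q ∈ Z := fun a => by
    rw [← QuotientGroup.eq_one_iff, QuotientGroup.mk_pow]
    show ((Quotient.out (a : M ⧸ Z) : M) : M ⧸ Z) ^ q = 1
    rw [QuotientGroup.out_eq']
    exact a.2.2
  let ω₀ : Ω → Z ⧸ R := fun a => ((⟨_, hlift a⟩ : Z) : Z ⧸ R)
  have hwd : ∀ (a : Ω) (g : M), (g : M ⧸ Z) = (a : M ⧸ Z) → ∀ h : g ^ q ∈ Z,
      ω₀ a = ((⟨g ^ q, h⟩ : Z) : Z ⧸ R) := by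
    intro a g hg h
    have hz : g⁻¹ * Quotient.out (a : M ⧸ Z) ∈ Z := by
      rw [← QuotientGroup.eq, hg, QuotientGroup.out_eq']
    refine QuotientGroup.eq.2 ⟨(⟨_, hz⟩ : Z)⁻¹, Subtype.ext ?_⟩
    show ((g⁻¹ * Quotient.out (a : M ⧸ Z))⁻¹) ^ q = ((Quotient.out (a : M ⧸ Z)) ^ q)⁻¹ * g ^ q
    have he : Quotient.out (a : M ⧸ Z) = g * (g⁻¹ * Quotient.out (a : M ⧸ Z)) :=
      (mul_inv_cancel_left g _).symm
    conv_rhs => rw [he, Commute.mul_pow (hZc _ hz g).symm, mul_inv_rev]
    rw [inv_mul_cancel_right, inv_pow]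
  have hpre : ∀ g : M, (g : M ⧸ Z) ∈ (P : Subgroup (M ⧸ Z)) →
      ∃ z ∈ Z, g * z ∈ (Q : Subgroup M) := by
    intro g hg
    rw [hP] at hg
    obtain ⟨g', hg', he⟩ := hg
    exact ⟨g⁻¹ * g', QuotientGroup.eq.1 he.symm, by rwa [mul_inv_cancel_left]⟩
  let ω : Ω →* Z ⧸ R :=
    { toFun := ω₀
      map_one' := by
        rw [hwd 1 1 rfl (by rw [one_pow]; exact Z.one_mem)]
        rw [show (⟨(1 : M) ^ q, _⟩ : Z) = 1 from Subtype.ext (one_pow q)]
        rfl
      map_mul' := fun a d => by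
        set g := Quotient.out (a : M ⧸ Z) with hg
        set g' := Quotient.out (d : M ⧸ Z) with hg'
        obtain ⟨z, hz, hgz⟩ := hpre g (by rw [QuotientGroup.out_eq']; exact a.2.1)
        obtain ⟨z', hz', hgz'⟩ := hpre g' (by rw [QuotientGroup.out_eq']; exact d.2.1)
        set c := ⁅(g' * z')⁻¹, (g * z)⁻¹⁆ with hc
        have hcZ : c ∈ Z := hQ _ (inv_mem hgz') _ (inv_mem hgz)
        have hba : (g' * z') * (g * z) = (g * z) * (g' * z') * c := by
          rw [hc, commutatorElement_def]; group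
        have hgq : ∀ (w : M ⧸ Z) (v y : M), w ^ q = 1 → (v : M ⧸ Z) = w → y ∈ Z →
            (v * y) ^ q ∈ Z := fun w v y hw hv hy => by
          rw [← QuotientGroup.eq_one_iff, QuotientGroup.mk_pow, QuotientGroup.mk_mul,
            (QuotientGroup.eq_one_iff y).2 hy, mul_one, hv, hw]
        have hcq : c ^ q = 1 := by
          have hcen : Commute ((g' * z') ^ q) (g * z) :=
            hZc _ (hgq _ g' z' d.2.2 (QuotientGroup.out_eq' _) hz') _
          have hsw : ∀ n : ℕ, (g' * z') ^ n * (g * z) = (g * z) * (g' * z') ^ n * c ^ n := by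
            intro n
            induction n with
            | zero => simp
            | succ n ih =>
              rw [pow_succ' (g' * z') n, mul_assoc, ih, ← mul_assoc, ← mul_assoc, hba,
                mul_assoc (g * z * (g' * z')), (hZc c hcZ _).eq, ← mul_assoc, mul_assoc (g * z),
                ← pow_succ', mul_assoc _ c, ← pow_succ']
          have h1 := hsw q
          rw [hcen.eq] at h1
          exact (mul_eq_left.1 h1.symm)
        have hmk : (((g * z) * (g' * z') : M) : M ⧸ Z) = ((a * d : Ω) : M ⧸ Z) := by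
          rw [QuotientGroup.mk_mul, QuotientGroup.mk_mul, QuotientGroup.mk_mul,
            (QuotientGroup.eq_one_iff z).2 hz, (QuotientGroup.eq_one_iff z').2 hz', mul_one,
            mul_one, QuotientGroup.out_eq', QuotientGroup.out_eq']
          rfl
        have hm : ∀ (e : Ω) (v : M), (v : M ⧸ Z) = (e : M ⧸ Z) → v ^ q ∈ Z := fun e v hv => by
          rw [← QuotientGroup.eq_one_iff, QuotientGroup.mk_pow, hv]; exact e.2.2
        have ha1 : ((g * z : M) : M ⧸ Z) = (a : M ⧸ Z) := by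
          rw [QuotientGroup.mk_mul, (QuotientGroup.eq_one_iff z).2 hz, mul_one,
            QuotientGroup.out_eq']
        have hd1 : ((g' * z' : M) : M ⧸ Z) = (d : M ⧸ Z) := by
          rw [QuotientGroup.mk_mul, (QuotientGroup.eq_one_iff z').2 hz', mul_one,
            QuotientGroup.out_eq']
        rw [hwd (a * d) _ hmk (hm _ _ hmk), hwd a _ ha1 (hm _ _ ha1), hwd d _ hd1 (hm _ _ hd1),
          ← QuotientGroup.mk_mul]
        exact congrArg _ (Subtype.ext (mul_pow_of_odd_choose hq.out hq2 (hZc c hcZ) hcq hba)) }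
  have hωone : ω = 1 := by
    refine eq_one_of_invariant ?_ P (Ω := Ω) (fun a (ha : a ∈ Ω) => ha.1) (fun n hn => ?_) ω (fun w => ?_)
      fun n hn a h => ?_
    · rw [_root_.commutator_def, ← MonoidHom.range_eq_top.2 (QuotientGroup.mk'_surjective Z),
        MonoidHom.range_eq_map, ← Subgroup.map_commutator, ← _root_.commutator_def, hperf]
    · refine mem_normalizer_iff.2 fun a => ?_
      have hN := mem_normalizer_iff.1 hn a
      exact ⟨fun h => ⟨hN.1 h.1, by rw [conj_pow, h.2, mul_one, mul_inv_cancel]⟩,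
        fun h => ⟨hN.2 h.1, by
          have h2 := h.2
          rwa [conj_pow, mul_inv_eq_one, mul_eq_left] at h2⟩⟩
    · obtain ⟨w, rfl⟩ := QuotientGroup.mk_surjective w
      rw [← QuotientGroup.mk_pow, QuotientGroup.eq_one_iff]
      exact ⟨w, rfl⟩
    · obtain ⟨g, rfl⟩ := QuotientGroup.mk_surjective n
      have hmk : ((g * Quotient.out (a : M ⧸ Z) * g⁻¹ : M) : M ⧸ Z) =
          ((⟨(g : M ⧸ Z) * a * (g : M ⧸ Z)⁻¹, h⟩ : Ω) : M ⧸ Z) := by
        rw [QuotientGroup.mk_mul, QuotientGroup.mk_mul, QuotientGroup.mk_inv, QuotientGroup.out_eq']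
      have heq : (g * Quotient.out (a : M ⧸ Z) * g⁻¹) ^ q = Quotient.out (a : M ⧸ Z) ^ q := by
        rw [conj_pow, ← (hZc _ (hlift a) g).eq, mul_inv_cancel_right]
      show ω₀ _ = ω₀ a
      rw [hwd _ _ hmk (heq ▸ hlift a)]
      exact congrArg _ (Subtype.ext heq)
  have hxΩ : (x : M ⧸ Z) ∈ Ω := ⟨by rw [hP]; exact ⟨x, hx, rfl⟩, by
    rw [← QuotientGroup.mk_pow, QuotientGroup.eq_one_iff]; exact hxq⟩
  have h1 : ((⟨x ^ q, hxq⟩ : Z) : Z ⧸ R) = 1 := by
    rw [← hwd ⟨_, hxΩ⟩ x rfl hxq]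
    exact DFunLike.congr_fun hωone _
  obtain ⟨z, hz⟩ := (QuotientGroup.eq_one_iff _).1 h1
  refine ⟨((z⁻¹ : Z) : M), (z⁻¹ : Z).2, ?_⟩
  rw [Commute.mul_pow (hZc _ (z⁻¹ : Z).2 x).symm, Subgroup.coe_inv, inv_pow,
    show (z : M) ^ q = x ^ q from congrArg Subtype.val hz, mul_inv_cancel]

end CfsgLib.Bender.OddQuot
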