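import Cfsg.Agent.Lib.Coprime.UniqueOrderP
import Mathlib.GroupTheory.Nilpotent

/-!
# A `q`-group acting on an elementary two-group of order at most `2 ^ q` is abelian

Minimal non-abelian subgroup; either a central element of order `q` reduces the module, or the
twisted fixed spaces of a non-central one give at least `3 ^ q` elements.
-/

set_option autoImplicit false
set_option linter.style.haveILetI false
set_option linter.unusedSectionVars false

namespace CfsgLib.Bender.OddQuot

open Subgroup
open scoped commutatorElement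

universe u v

/-- The elimination: relations with separated commuting coefficients are trivial. -/
theorem eq_one_of_relations {G W ι : Type*} [Group G] [CommGroup W] (act : G →* MulAut W)
    (s : Finset ι) (a : ι → G) (hcomm : ∀ l l', Commute (a l) (a l'))
    (hsep : ∀ l ∈ s, ∀ l' ∈ s, l ≠ l' → ∀ v : W, act (a l) v = act (a l') v → v = 1)
    (w : ι → W) (h : ∀ j < s.card, ∏ l ∈ s, act (a l ^ j) (w l) = 1) :
    ∀ l ∈ s, w l = 1 := by
  classical
  induction s using Finset.induction generalizing w with
  | empty => simp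
  | @insert l₁ s hl₁ ih =>
    rw [Finset.card_insert_of_notMem hl₁] at h
    have hrest : ∀ l ∈ s, act (a l) (w l) * (act (a l₁) (w l))⁻¹ = 1 := by
      refine ih (fun l hl l' hl' => hsep l (Finset.mem_insert_of_mem hl) l'
        (Finset.mem_insert_of_mem hl')) _ fun j hj => ?_
      have hA := h (j + 1) (by omega)
      have hB := congrArg (act (a l₁)) (h j (by omega))
      rw [map_one, map_prod] at hB
      rw [Finset.prod_insert hl₁] at hA hB
      rw [show act (a l₁) (act (a l₁ ^ j) (w l₁)) = act (a l₁ ^ (j + 1)) (w l₁) by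
        rw [← MulAut.mul_apply, ← map_mul, ← pow_succ']] at hB
      have hC := mul_left_cancel (hA.trans hB.symm)
      calc ∏ l ∈ s, act (a l ^ j) (act (a l) (w l) * (act (a l₁) (w l))⁻¹)
          = ∏ l ∈ s, act (a l ^ (j + 1)) (w l) * (act (a l₁) (act (a l ^ j) (w l)))⁻¹ := by
            refine Finset.prod_congr rfl fun l _ => ?_
            rw [map_mul (act (a l ^ j)), map_inv (act (a l ^ j)), ← MulAut.mul_apply, ← map_mul,
              ← pow_succ, ← MulAut.mul_apply, ← map_mul, ((hcomm l l₁).pow_left j).eq, map_mul act,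
              MulAut.mul_apply]
        _ = 1 := by rw [Finset.prod_mul_distrib, Finset.prod_inv_distrib, hC, mul_inv_cancel]
    have hs : ∀ l ∈ s, w l = 1 := fun l hl =>
      hsep l (Finset.mem_insert_of_mem hl) l₁ (Finset.mem_insert_self _ _)
        (fun e => hl₁ (e ▸ hl)) _ (mul_inv_eq_one.1 (hrest l hl))
    intro l hl
    rcases Finset.mem_insert.1 hl with rfl | hl
    · have h0 := h 0 (by omega)
      simp only [pow_zero, map_one, MulAut.one_apply] at h0
      rwa [Finset.prod_insert hl₁, Finset.prod_eq_one hs, mul_one] at h0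
    · exact hs l hl

theorem commute_of_pGroup_aux {q : ℕ} [hq : Fact q.Prime] (hq2 : q ≠ 2) :
    ∀ (n : ℕ) (E : Type v) [CommGroup E] [Finite E], Nat.card E ≤ n → (∀ e : E, e * e = 1) →
      Nat.card E ≤ 2 ^ q → ∀ P : Subgroup (MulAut E), IsPGroup q P →
        ∀ a ∈ P, ∀ b ∈ P, a * b = b * a := by
  intro n
  induction n with
  | zero => intro E _ _ h; exact absurd h (Nat.card_pos.ne' ∘ Nat.le_zero.1)
  | succ n ih =>
    intro E _ _ hn hexp hcard P₀ hP₀
    classical
    haveI : Finite (MulAut E) :=
      Finite.of_injective (fun f : MulAut E => (⇑f : E → E)) DFunLike.coe_injective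
    by_contra hcon
    push Not at hcon
    obtain ⟨a₀, ha₀, b₀, hb₀, hab₀⟩ := hcon
    obtain ⟨P, ⟨hPP₀, a', ha', b', hb', hab'⟩, hmin⟩ := (Set.toFinite {P : Subgroup (MulAut E) |
      P ≤ P₀ ∧ ∃ a ∈ P, ∃ b ∈ P, a * b ≠ b * a}).exists_minimal
        ⟨P₀, le_rfl, a₀, ha₀, b₀, hb₀, hab₀⟩
    have hP : IsPGroup q P := hP₀.to_le hPP₀
    haveI hnil : Group.IsNilpotent P := hP.isNilpotent
    have habel : ∀ K : Subgroup P, K ≠ ⊤ → ∀ x ∈ K, ∀ y ∈ K, x * y = y * x := by
      intro K hK x hx y hy
      by_contra hne
      refine hK (eq_top_iff.2 fun z _ => ?_)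
      have hle := hmin (y := K.map P.subtype) ⟨(map_subtype_le K).trans hPP₀, x, ⟨x, hx, rfl⟩, y,
        ⟨y, hy, rfl⟩, fun e => hne (Subtype.ext e)⟩ (map_subtype_le K)
      obtain ⟨z', hz', he⟩ := hle z.2
      rwa [show z = z' from (Subtype.ext he).symm]
    set a : P := ⟨a', ha'⟩
    set b : P := ⟨b', hb'⟩
    have hab : a * b ≠ b * a := fun e => hab' (congrArg Subtype.val e)
    have hcyc : ∀ x : P, zpowers x ≠ ⊤ := fun x e => hab (by
      obtain ⟨i, hi⟩ := mem_zpowers_iff.1 (show a ∈ zpowers x by rw [e]; trivial)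
      obtain ⟨j, hj⟩ := mem_zpowers_iff.1 (show b ∈ zpowers x by rw [e]; trivial)
      rw [← hi, ← hj, ← zpow_add, add_comm, zpow_add])
    -- normal coatoms
    have hco : ∀ x : P, ∃ M : Subgroup P, x ∈ M ∧ M ≠ ⊤ ∧
        (∀ y z : P, ⁅y, z⁆ ∈ M) ∧ ∀ y : P, y ^ q ∈ M := by
      intro x
      obtain ⟨M, hM, hxM⟩ := (eq_top_or_exists_le_coatom (zpowers x)).resolve_left (hcyc x)
      haveI : M.Normal :=
        NormalizerCondition.normal_of_coatom M normalizerCondition_of_isNilpotent hM
      obtain ⟨w, -, hw⟩ := SetLike.exists_of_lt (lt_top_iff_ne_top.2 hM.1)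
      set π := QuotientGroup.mk' M with hπ
      have hgen : ∀ y : P, π y ∈ zpowers (π w) := by
        intro y
        have htop : M ⊔ zpowers w = ⊤ :=
          hM.2 _ (lt_of_le_of_ne le_sup_left fun e => hw (e ▸ mem_sup_right (mem_zpowers w)))
        have : π y ∈ (M ⊔ zpowers w).map π := ⟨y, by rw [htop]; trivial, rfl⟩
        rwa [Subgroup.map_sup, hπ, QuotientGroup.map_mk'_self, bot_sup_eq, MonoidHom.map_zpowers] at this
      refine ⟨M, hxM (mem_zpowers x), hM.1, fun y z => ?_, fun y => ?_⟩
      · rw [← QuotientGroup.eq_one_iff]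
        show π ⁅y, z⁆ = 1
        obtain ⟨i, hi⟩ := mem_zpowers_iff.1 (hgen y)
        obtain ⟨j, hj⟩ := mem_zpowers_iff.1 (hgen z)
        rw [map_commutatorElement, ← hi, ← hj, commutatorElement_eq_one_iff_mul_comm]
        rw [← zpow_add, add_comm, zpow_add]
      · by_contra hy
        have hgq : π w ∈ zpowers (π y ^ q) := by
          have htop : M ⊔ zpowers (y ^ q) = ⊤ :=
            hM.2 _ (lt_of_le_of_ne le_sup_left fun e => hy (e ▸ mem_sup_right (mem_zpowers _)))
          have : π w ∈ (M ⊔ zpowers (y ^ q)).map π := ⟨w, by rw [htop]; trivial, rfl⟩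
          rwa [Subgroup.map_sup, hπ, QuotientGroup.map_mk'_self, bot_sup_eq, MonoidHom.map_zpowers,
            map_pow] at this
        have h1 : π y ∈ zpowers (π y ^ q) := (zpowers_le.2 hgq) (hgen y)
        obtain ⟨e, he⟩ := IsPGroup.iff_orderOf.1 (hP.to_quotient M) (π y)
        rcases e with _ | e
        · rw [pow_zero, orderOf_eq_one_iff] at he
          exact hy (M.pow_mem ((QuotientGroup.eq_one_iff y).1 he) q)
        · have h2 := orderOf_dvd_of_mem_zpowers h1
          rw [orderOf_pow, he, Nat.gcd_eq_right (dvd_pow_self q e.succ_ne_zero),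
            pow_succ, Nat.mul_div_cancel _ hq.out.pos] at h2
          have h3 := Nat.le_of_dvd (pow_pos hq.out.pos e) h2
          have h4 : q ^ e * 2 ≤ q ^ e * q := Nat.mul_le_mul_left _ hq.out.two_le
          have := pow_pos hq.out.pos e
          omega
    obtain ⟨Ma, haM, hMa, hMac, hMap⟩ := hco a
    obtain ⟨Mb, hbM, hMb, hMbc, hMbp⟩ := hco b
    have hcentre : ∀ z : P, z ∈ Ma → z ∈ Mb → ∀ x : P, Commute z x := by
      intro z hz hz' x
      set C := Subgroup.centralizer ({z} : Set P)
      have haC : a ∈ C := mem_centralizer_singleton_iff.2 (habel Ma hMa a haM z hz)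
      have hbC : b ∈ C := mem_centralizer_singleton_iff.2 (habel Mb hMb b hbM z hz')
      have htop : C = ⊤ := by
        by_contra hne
        exact hab (habel C hne a haC b hbC)
      exact (mem_centralizer_singleton_iff.1 (show x ∈ C by rw [htop]; trivial)).symm
    have hcomc : ∀ x y z : P, Commute ⁅x, y⁆ z := fun x y => hcentre _ (hMac x y) (hMbc x y)
    have hpowc : ∀ y z : P, Commute (y ^ q) z := fun y => hcentre _ (hMap y) (hMbp y)
    have hswap : ∀ (x y : P) (i : ℕ), x ^ i * y * (x ^ i)⁻¹ = ⁅x, y⁆ ^ i * y := by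
      intro x y i
      induction i with
      | zero => simp
      | succ i ih =>
        have h1 : x * y * x⁻¹ = ⁅x, y⁆ * y := by rw [commutatorElement_def]; group
        calc x ^ (i + 1) * y * (x ^ (i + 1))⁻¹ = x * (x ^ i * y * (x ^ i)⁻¹) * x⁻¹ := by
              rw [pow_succ']; group
          _ = x * ⁅x, y⁆ ^ i * y * x⁻¹ := by rw [ih]; group
          _ = ⁅x, y⁆ ^ i * (x * y * x⁻¹) := by
              rw [← ((hcomc x y x).pow_left i).eq]; group
          _ = ⁅x, y⁆ ^ (i + 1) * y := by rw [h1, ← mul_assoc, pow_succ]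
    have hcomq : ∀ x y : P, ⁅x, y⁆ ^ q = 1 := by
      intro x y
      have h := hswap x y q
      rw [(hpowc x y).eq, mul_inv_cancel_right] at h
      exact mul_eq_right.1 h.symm
    -- restriction to invariant subgroups
    have hrestrict : ∀ (W : Subgroup E), Nat.card W < Nat.card E →
        (∀ g : P, ∀ e ∈ W, (g : MulAut E) e ∈ W) → ∀ x y : P, ∀ e ∈ W,
          ((⁅x, y⁆ : P) : MulAut E) e = e := by
      intro W hW hinv x y e he
      let r : P →* MulAut W :=
        { toFun := fun g =>
            { toFun := fun w => ⟨(g : MulAut E) w, hinv g w w.2⟩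
              invFun := fun w => ⟨((g⁻¹ : P) : MulAut E) w, hinv g⁻¹ w w.2⟩
              left_inv := fun w => Subtype.ext (by
                show ((g⁻¹ : P) : MulAut E) ((g : MulAut E) w) = w
                rw [← MulAut.mul_apply, ← Subgroup.coe_mul, inv_mul_cancel]; rfl)
              right_inv := fun w => Subtype.ext (by
                show (g : MulAut E) (((g⁻¹ : P) : MulAut E) w) = w
                rw [← MulAut.mul_apply, ← Subgroup.coe_mul, mul_inv_cancel]; rfl)
              map_mul' := fun w w' => Subtype.ext (map_mul (g : MulAut E) (w : E) w') }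
          map_one' := MulEquiv.ext fun w => Subtype.ext rfl
          map_mul' := fun g g' => MulEquiv.ext fun w => Subtype.ext rfl }
      have h := ih W (by omega) (fun w => Subtype.ext (hexp w)) (hW.le.trans hcard) r.range
        (hP.of_surjective r.rangeRestrict r.rangeRestrict_surjective) (r x) ⟨x, rfl⟩ (r y)
        ⟨y, rfl⟩
      have h2 : r ⁅x, y⁆ = 1 := by rw [map_commutatorElement, commutatorElement_eq_one_iff_mul_comm, h]
      exact congrArg Subtype.val (DFunLike.congr_fun h2 (⟨e, he⟩ : W))
    have hsq : ∀ e : E, e ^ q = 1 → e = 1 := fun e he => orderOf_eq_one_iff.1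
      (Nat.eq_one_of_dvd_coprimes ((Nat.coprime_primes hq.out Nat.prime_two).2 hq2)
        (orderOf_dvd_of_pow_eq_one he) (orderOf_dvd_of_pow_eq_one (by rw [pow_two]; exact hexp e)))
    -- non-trivial commutators are fixed point free
    have hfpf : ∀ x y : P, ⁅x, y⁆ ≠ 1 → ∀ e : E, ((⁅x, y⁆ : P) : MulAut E) e = e → e = 1 := by
      intro x y hc e he
      by_contra he1
      set c : MulAut E := ((⁅x, y⁆ : P) : MulAut E) with hcdef
      let d : E →* E :=
        { toFun := fun w => c w * w⁻¹
          map_one' := by rw [map_one, inv_one, mul_one]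
          map_mul' := fun w w' => by rw [map_mul, mul_inv]; exact mul_mul_mul_comm _ _ _ _ }
      have hlt : Nat.card d.range < Nat.card E := by
        refine lt_of_le_of_ne (Nat.card_le_card_of_injective _ Subtype.val_injective) fun heq => ?_
        have hsurj : Function.Surjective d := MonoidHom.range_eq_top.1 (eq_top_of_card_eq _ heq)
        refine he1 (Finite.injective_iff_surjective.2 hsurj (?_ : d e = d 1))
        rw [map_one]
        show c e * e⁻¹ = 1
        rw [he, mul_inv_cancel]
      have hinv : ∀ g : P, ∀ w ∈ d.range, (g : MulAut E) w ∈ d.range := by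
        rintro g _ ⟨w, rfl⟩
        refine ⟨(g : MulAut E) w, ?_⟩
        show c ((g : MulAut E) w) * ((g : MulAut E) w)⁻¹ = (g : MulAut E) (c w * w⁻¹)
        rw [map_mul, map_inv, ← MulAut.mul_apply, ← MulAut.mul_apply, hcdef, ← Subgroup.coe_mul,
          (hcomc x y g).eq, Subgroup.coe_mul]
      refine hc (Subtype.ext (MulEquiv.ext fun w => ?_))
      show c w = w
      set v := c w * w⁻¹ with hv
      have hcv : c v = v := hrestrict _ hlt hinv x y v ⟨w, rfl⟩
      have hcw : c w = w * v := by rw [hv, mul_comm w, inv_mul_cancel_right]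
      have hpow : ∀ i : ℕ, (c ^ i) w = w * v ^ i := by
        intro i
        induction i with
        | zero => rw [pow_zero, pow_zero, mul_one]; rfl
        | succ i ih2 =>
          rw [pow_succ', MulAut.mul_apply, ih2, map_mul, map_pow, hcv, hcw, pow_succ', mul_assoc]
      have hq1 := hpow q
      rw [hcdef, ← Subgroup.coe_pow, hcomq, Subgroup.coe_one, MulAut.one_apply] at hq1
      rw [hcw, hsq v (mul_eq_left.1 hq1.symm), mul_one]
    -- some twisted fixed space is non-trivial
    have hexists : ∀ (x y u : P), ⁅x, y⁆ ≠ 1 → u ^ q = 1 →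
        ∃ j : ℕ, ∃ e : E, e ≠ 1 ∧ ((⁅x, y⁆ ^ j * u : P) : MulAut E) e = e := by
      intro x y u hc hu
      by_contra hno
      push Not at hno
      set c : P := ⁅x, y⁆ with hcdef
      obtain ⟨e, he⟩ : ∃ e : E, e ≠ 1 := by
        by_contra h
        push Not at h
        exact hab' (MulEquiv.ext fun w => by
          rw [h ((a' * b') w), h ((b' * a') w)])
      have hN : ∀ (g : P), g ^ q = 1 → ∀ w : E,
          (g : MulAut E) (∏ i ∈ Finset.range q, ((g ^ i : P) : MulAut E) w) =
            ∏ i ∈ Finset.range q, ((g ^ i : P) : MulAut E) w := by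
        intro g hg w
        rw [map_prod]
        have hstep : ∀ i : ℕ, (g : MulAut E) (((g ^ i : P) : MulAut E) w) =
            ((g ^ (i + 1) : P) : MulAut E) w := fun i => by
          rw [← MulAut.mul_apply, ← Subgroup.coe_mul, ← pow_succ']
        simp only [hstep]
        obtain ⟨q', hq'⟩ : ∃ q', q = q' + 1 := ⟨q - 1, by have := hq.out.pos; omega⟩
        rw [hq', Finset.prod_range_succ, Finset.prod_range_succ'
          (fun i => ((g ^ i : P) : MulAut E) w) q', ← hq', hg, pow_zero]
      have hzero : ∀ j : ℕ, ∏ i ∈ Finset.range q, (((c ^ j * u) ^ i : P) : MulAut E) e = 1 := by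
        intro j
        by_contra hne
        refine hno j _ hne (hN _ ?_ e)
        rw [((hcomc x y u).pow_left j).mul_pow, hu, mul_one, ← pow_mul, mul_comm, pow_mul, hcomq,
          one_pow]
      have hc0 : ∀ i, i ∈ Finset.range q → i ≠ 0 →
          ∏ j ∈ Finset.range q, (((c ^ i) ^ j : P) : MulAut E) e = 1 := by
        intro i hi hi0
        set g : P := c ^ i with hg
        have hgq : g ^ q = 1 := by rw [hg, ← pow_mul, mul_comm, pow_mul, hcomq, one_pow]
        have hfix := hN g hgq e
        refine hfpf x y hc _ ?_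
        obtain ⟨m, hm⟩ : ∃ m, (c ^ i) ^ m = c := by
          refine exists_pow_eq_self_of_coprime ?_
          rw [orderOf_eq_prime (hcomq x y) hc]
          exact (hq.out.coprime_iff_not_dvd.2 fun h => by
            have := Nat.le_of_dvd (Nat.pos_of_ne_zero hi0) h
            have := Finset.mem_range.1 hi
            omega).symm
        show ((⁅x, y⁆ : P) : MulAut E) _ = _
        rw [← hcdef, ← hm, Subgroup.coe_pow]
        exact (MulAction.stabilizer (MulAut E)
          (∏ j ∈ Finset.range q, ((g ^ j : P) : MulAut E) e)).pow_mem hfix m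
      refine he (hsq e ?_)
      have h1 : ∏ j ∈ Finset.range q, ∏ i ∈ Finset.range q,
          (((c ^ j * u) ^ i : P) : MulAut E) e = 1 := Finset.prod_eq_one fun j _ => hzero j
      rw [Finset.prod_comm, Finset.prod_eq_single 0 (fun i hi hi0 => ?_)
        (fun h => absurd (Finset.mem_range.2 hq.out.pos) h)] at h1
      · simpa using h1
      · have h2 := hc0 i hi hi0
        calc ∏ j ∈ Finset.range q, (((c ^ j * u) ^ i : P) : MulAut E) e
            = ((u ^ i : P) : MulAut E) (∏ j ∈ Finset.range q, (((c ^ i) ^ j : P) : MulAut E) e) := by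
              rw [map_prod]
              refine Finset.prod_congr rfl fun j _ => ?_
              rw [← MulAut.mul_apply, ← Subgroup.coe_mul, ((hcomc x y u).pow_left j).mul_pow,
                ← pow_mul, ← pow_mul, mul_comm j, (((hcomc x y u).pow_left _).pow_right i).eq]
          _ = 1 := by rw [h2, map_one]
    by_cases hall : ∀ u : P, u ^ q = 1 → ∀ z : P, Commute u z
    · -- a second central element of order `q`
      have hc : ⁅a, b⁆ ≠ 1 := fun h => hab (commutatorElement_eq_one_iff_mul_comm.1 h)
      obtain ⟨u, hu, hu'⟩ : ∃ u : P, u ^ q = 1 ∧ u ∉ zpowers ⁅a, b⁆ := by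
        by_contra hno
        push Not at hno
        have huq : CfsgLib.Coprime.UniqueOrderP q P := fun s w hs hw hs1 => by
          have h1 := hno s hs
          have h2 := hno w hw
          have hzs : zpowers s = zpowers ⁅a, b⁆ := eq_of_le_of_card_ge (zpowers_le.2 h1) (by
            rw [Nat.card_zpowers, Nat.card_zpowers, orderOf_eq_prime hs hs1,
              orderOf_eq_prime (hcomq a b) hc])
          rwa [hzs]
        haveI := CfsgLib.Coprime.isCyclic_of_unique_odd hq2 hP huq
        obtain ⟨g, hg⟩ := IsCyclic.exists_generator (α := P)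
        exact hcyc g (eq_top_iff.2 fun z _ => hg z)
      obtain ⟨j, e, he, hfix⟩ := hexists a b u hc hu
      set w : P := ⁅a, b⁆ ^ j * u with hw
      have hwc : ∀ z : P, Commute w z := fun z => ((hcomc a b z).pow_left j).mul_left (hall u hu z)
      let W : Subgroup E := MonoidHom.eqLocus ((w : MulAut E) : E ≃* E).toMonoidHom (MonoidHom.id E)
      have hlt : Nat.card W < Nat.card E := by
        refine lt_of_le_of_ne (Nat.card_le_card_of_injective _ Subtype.val_injective) fun heq => ?_
        have htop : W = ⊤ := eq_top_of_card_eq _ heq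
        have hw1 : w = 1 := Subtype.ext (MulEquiv.ext fun z =>
          show (w : MulAut E) z = z from (show z ∈ W by rw [htop]; trivial))
        refine hu' (mem_zpowers_iff.2 ⟨-(j : ℤ), ?_⟩)
        rw [zpow_neg, zpow_natCast, inv_eq_iff_mul_eq_one]
        exact hw1
      refine he (hfpf a b hc e (hrestrict W hlt (fun g z hz => ?_) a b e hfix))
      show (w : MulAut E) ((g : MulAut E) z) = (g : MulAut E) z
      rw [← MulAut.mul_apply, ← Subgroup.coe_mul, (hwc g).eq, Subgroup.coe_mul, MulAut.mul_apply]
      exact congrArg _ (hz : (w : MulAut E) z = z)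
    · push Not at hall
      obtain ⟨u, hu, z, hz⟩ := hall
      have hc : ⁅z, u⁆ ≠ 1 := fun h =>
        hz (show u * z = z * u from (commutatorElement_eq_one_iff_mul_comm.1 h).symm)
      set c : P := ⁅z, u⁆ with hcdef
      let F : ℕ → Set E := fun j => {e | ((c ^ j * u : P) : MulAut E) e = e}
      have hcF : ∀ j, ∀ e ∈ F j, (c : MulAut E) e ∈ F j := fun j e he => by
        show ((c ^ j * u : P) : MulAut E) ((c : MulAut E) e) = (c : MulAut E) e
        rw [← MulAut.mul_apply, ← Subgroup.coe_mul,
          show (c ^ j * u) * c = c * (c ^ j * u) from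
            (((Commute.refl c).pow_left j).mul_left (hcomc z u u).symm).eq,
          Subgroup.coe_mul, MulAut.mul_apply]
        exact congrArg _ he
      obtain ⟨j₀, e₀, he₀, hfix₀⟩ := hexists z u u hc hu
      have hshift : ∀ i : ℕ, ∀ e ∈ F j₀, ((z ^ i : P) : MulAut E) e ∈ F (j₀ + i) := fun i e he => by
        show ((c ^ (j₀ + i) * u : P) : MulAut E) (((z ^ i : P) : MulAut E) e) = _
        have h1 : (c ^ (j₀ + i) * u) * z ^ i = z ^ i * (c ^ j₀ * u) := by
          rw [pow_add, mul_assoc (c ^ j₀), ← hswap z u i, hcdef,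
            ← mul_assoc, ← mul_assoc, inv_mul_cancel_right, ← mul_assoc,
            (((hcomc z u z).pow_left j₀).pow_right i).eq]
        rw [← MulAut.mul_apply, ← Subgroup.coe_mul, h1, Subgroup.coe_mul, MulAut.mul_apply]
        exact congrArg _ he
      have hthree : 3 ≤ Nat.card (F j₀) := by
        have hmem := hcF j₀ e₀ hfix₀
        have h1 : (c : MulAut E) e₀ ≠ e₀ := fun h => he₀ (hfpf z u hc e₀ h)
        have h2 : (c : MulAut E) e₀ ≠ 1 := fun h =>
          he₀ ((c : MulAut E).injective (h.trans (map_one _).symm))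
        have hsub : ({1, e₀, (c : MulAut E) e₀} : Set E) ⊆ F j₀ := by
          rintro e (rfl | rfl | rfl)
          exacts [map_one _, hfix₀, hmem]
        have h3 := Set.ncard_le_ncard hsub (Set.toFinite _)
        rw [Nat.card_coe_set_eq]
        rwa [Set.ncard_insert_of_notMem (by
            simp only [Set.mem_insert_iff, Set.mem_singleton_iff, not_or]
            exact ⟨he₀.symm, h2.symm⟩),
          Set.ncard_pair h1.symm] at h3
      let Φ : (Fin q → F j₀) → E := fun g =>
        ∏ i : Fin q, ((z ^ (i : ℕ) : P) : MulAut E) (g i : E)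
      have hinj : Function.Injective Φ := by
        intro g g' hgg
        set w : Fin q → E := fun i =>
          ((z ^ (i : ℕ) : P) : MulAut E) ((g i : E) * (g' i : E)⁻¹) with hw
        have hwF : ∀ i : Fin q, w i ∈ F (j₀ + i) := fun i => hshift i _ (by
          show ((c ^ j₀ * u : P) : MulAut E) _ = _
          rw [map_mul, map_inv, (g i).2, (g' i).2])
        have hrel := eq_one_of_relations P.subtype Finset.univ (fun i : Fin q => (c⁻¹) ^ (j₀ + i))
          (fun l l' => (Commute.refl _).pow_pow _ _) (fun l _ l' _ hne e he => ?_) w (fun i hi => ?_)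
        · funext i
          have h := hrel i (Finset.mem_univ i)
          rw [hw] at h
          exact Subtype.ext (mul_inv_eq_one.1
            (((z ^ (i : ℕ) : P) : MulAut E).injective (h.trans (map_one _).symm)))
        · have key : ∀ l l' : ℕ, l < l' → l' < q →
              ((c⁻¹ ^ (j₀ + l') : P) : MulAut E) e = ((c⁻¹ ^ (j₀ + l) : P) : MulAut E) e → e = 1 := by
            intro l l' hlt hl' h
            have h1 : ((c ^ (l' - l) : P) : MulAut E) e = e := by
              have h2 := congrArg ((c ^ (j₀ + l') : P) : MulAut E) h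
              rw [← MulAut.mul_apply, ← MulAut.mul_apply, ← Subgroup.coe_mul, ← Subgroup.coe_mul,
                inv_pow, mul_inv_cancel, Subgroup.coe_one, MulAut.one_apply, inv_pow,
                show j₀ + l' = (l' - l) + (j₀ + l) by omega, pow_add, mul_inv_cancel_right] at h2
              exact h2.symm
            obtain ⟨m, hm⟩ : ∃ m, (c ^ (l' - l)) ^ m = c := by
              refine exists_pow_eq_self_of_coprime ?_
              rw [orderOf_eq_prime (hcomq z u) hc]
              exact (hq.out.coprime_iff_not_dvd.2 fun hd => by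
                have := Nat.le_of_dvd (by omega) hd
                omega).symm
            refine hfpf z u hc e ?_
            rw [← hcdef, ← hm, Subgroup.coe_pow]
            exact (MulAction.stabilizer (MulAut E) e).pow_mem h1 m
          rcases lt_or_gt_of_ne (fun h => hne (Fin.ext h)) with h | h
          · exact key l l' h l'.2 he.symm
          · exact key l' l h l.2 he
        · have hstep : ∀ (j i : ℕ) (e : E), e ∈ F j →
              (((c⁻¹ ^ j) ^ i : P) : MulAut E) e = ((u ^ i : P) : MulAut E) e := by
            intro j i e he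
            have h1 : (((c ^ j * u) ^ i : P) : MulAut E) e = e := by
              rw [Subgroup.coe_pow]
              exact (MulAction.stabilizer (MulAut E) e).pow_mem he i
            calc (((c⁻¹ ^ j) ^ i : P) : MulAut E) e
                = (((c⁻¹ ^ j) ^ i : P) : MulAut E) ((((c ^ j * u) ^ i : P) : MulAut E) e) := by
                  rw [h1]
              _ = _ := by
                  rw [← MulAut.mul_apply, ← Subgroup.coe_mul, ((hcomc z u u).pow_left j).mul_pow,
                    inv_pow, inv_pow, inv_mul_cancel_left]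
          show ∏ l : Fin q, ((((c⁻¹) ^ (j₀ + (l : ℕ))) ^ i : P) : MulAut E) (w l) = 1
          rw [Finset.prod_congr rfl fun (l : Fin q) _ => hstep (j₀ + l) i (w l) (hwF l), ← map_prod]
          have hprod : ∏ l : Fin q, w l = 1 := by
            rw [hw]
            simp only [map_mul, map_inv]
            rw [Finset.prod_mul_distrib, Finset.prod_inv_distrib, mul_inv_eq_one]
            exact hgg
          rw [hprod, map_one]
      have h := Nat.card_le_card_of_injective Φ hinj
      rw [Nat.card_fun, Nat.card_fin] at h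
      have h1 : 3 ^ q ≤ Nat.card (F j₀) ^ q := Nat.pow_le_pow_left hthree q
      have h2 : 2 ^ q < 3 ^ q := Nat.pow_lt_pow_left (by norm_num) hq.out.ne_zero
      omega

/-- A `q`-group acting on an elementary two-group of order at most `2 ^ q` has commuting images. -/
theorem commute_of_pGroup_linear {G : Type u} [Group G] {E : Type v} [CommGroup E] [Finite E]
    (act : G →* MulAut E) {q : ℕ} [Fact q.Prime] (hq2 : q ≠ 2) (hexp : ∀ e : E, e * e = 1)
    (hcard : Nat.card E ≤ 2 ^ q) {Q : Subgroup G} (hQ : IsPGroup q Q) {a b : G} (ha : a ∈ Q)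
    (hb : b ∈ Q) : act a * act b = act b * act a :=
  commute_of_pGroup_aux hq2 _ E le_rfl hexp hcard (Q.map act) (hQ.map act) _ ⟨a, ha, rfl⟩ _
    ⟨b, hb, rfl⟩

end CfsgLib.Bender.OddQuot
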