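import Cfsg.Agent.Lib.Bender.OddQuot.EvenShape
import Cfsg.Agent.Lib.Bender.OddQuot.PerfectLift
import Cfsg.Agent.Lib.Bender.OddQuot.QLinear

/-!
# An even quotient has the shape of `Shape`

A Galois element of order `q` moving the scalars of degree `q` is lifted inside the perfect
centralizer of the Galois subgroup of index `q`.
-/

set_option autoImplicit false
set_option linter.style.haveILetI false
set_option linter.unusedSectionVars false

namespace CfsgLib.Bender.OddQuot

open Subgroup
open scoped commutatorElement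

universe u

variable {X E V : Type u} [Group X] [CommGroup E] [CommGroup V] [Finite X] [Finite E] [Finite V]
  {p : ℕ} {D : Subgroup X} {actE : X →* MulAut E} {actV : X →* MulAut V} {t : E}

namespace Data

variable (S : Data p D actE actV t)
include S

/-- An even quotient has the shape `|E| = 2 ^ q`, `y` of order `q` squaring the scalars. -/
theorem exists_shape_of_even (hX : Even (Nat.card X)) (f : Frame D actE t) :
    ∃ (q : ℕ) (y : X), f.Shape actV p q y := by
  classical
  obtain ⟨q, hq, hqk⟩ : ∃ q, q.Prime ∧ q ∣ f.k :=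
    Nat.exists_prime_and_dvd (by have := S.two_le_k f; omega)
  haveI := Fact.mk hq
  set Y := freeClosure D (Nat.card E - 1) with hY
  set B := f.galFix q with hB
  obtain ⟨M, hMC, hMn, hMe, hfM, hperf, x, hxM, hxG, hxne, e, hxe⟩ := S.exists_perfect hX f hq hqk
  have hxD : x ∈ D := (mem_galoisPart.1 hxG).1
  have hqdvd : q ∣ orderOf x := by
    rcases e with _ | e
    · rw [pow_zero, orderOf_eq_one_iff] at hxe
      exact absurd (hxe ▸ Commute.one_left _) hxne
    · rw [hxe]; exact dvd_pow_self q e.succ_ne_zero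
  have hq2 : q ≠ 2 := by
    rintro rfl
    exact Nat.not_even_iff_odd.2
      (S.oddD.of_dvd_nat (hqdvd.trans (Subgroup.orderOf_dvd_natCard _ hxD))) even_two
  -- the fixed points of `B`
  let W : Subgroup E := {
    carrier := {e | ∀ b ∈ B, actE b e = e}
    one_mem' := fun b _ => map_one _
    mul_mem' := fun {a c} ha hc b hb => by rw [map_mul, ha b hb, hc b hb]
    inv_mem' := fun {a} ha b hb => by rw [map_inv, ha b hb] }
  have hBt : ∀ b ∈ B, actE b t = t := fun b hb =>
    (mem_galoisPart.1 (Frame.mem_galFix.1 hb).1).2.2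
  have hWinv : ∀ h ∈ centralizer (B : Set X), ∀ e ∈ W, actE h e ∈ W := fun h hh e he b hb => by
    rw [← MulAut.mul_apply, ← map_mul, mem_centralizer_iff.1 hh b hb, map_mul, MulAut.mul_apply,
      he b hb]
  have hfW : actE (f.sub q) t ∈ W := hWinv _
    (mem_centralizer_iff.2 fun b hb => (Frame.mem_galFix.1 hb).2.eq) t hBt
  have hcardW : Nat.card W ≤ 2 ^ q := by
    have hsub : (W : Set E) ⊆
        insert 1 ((fun a : X => actE a t) '' (zpowers (f.sub q) : Set X)) := by
      intro e he
      rcases eq_or_ne e 1 with h | h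
      · exact Or.inl h
      refine Or.inr ?_
      obtain ⟨i, hi⟩ := f.σgen (f.L.e (Additive.ofMul e)) (fun h' => h (f.L.e_eq_zero.1 h'))
      have hact : actE ((f.σ ^ i : D) : X) t = e := by
        rw [f.L.mult_eq] at hi
        exact congrArg Additive.toMul (f.L.e.injective hi)
      refine ⟨(f.σ : X) ^ i, S.pow_mem_zpowers_sub hX f hqk (mem_centralizer_iff.2 fun b hb => ?_),
        by rw [← Subgroup.coe_pow]; exact hact⟩
      have hbG := (Frame.mem_galFix.1 hb).1
      have hbD := (mem_galoisPart.1 hbG).1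
      have hfix : f.L.gal ⟨b, hbD⟩ (f.L.mult (f.σ ^ i)) = f.L.mult (f.σ ^ i) := by
        rw [hi]
        exact (f.L.fixes_iff (g := ⟨b, hbD⟩) (hBt b hb) _).1 (he b hb)
      exact ((S.commute_pow_iff hX f (g := ⟨b, hbD⟩) (mem_galoisPart.1 hbG).2.1 i).2 hfix).eq
    have h := Set.ncard_le_ncard hsub (Set.toFinite _)
    have h1 := Set.ncard_insert_le (1 : E) ((fun a : X => actE a t) '' (zpowers (f.sub q) : Set X))
    have h2 := Set.ncard_image_le (f := fun a : X => actE a t)
      (s := (zpowers (f.sub q) : Set X)) (Set.toFinite _)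
    rw [show (zpowers (f.sub q) : Set X).ncard = 2 ^ q - 1 by
      rw [← Nat.card_coe_set_eq]
      exact (Nat.card_zpowers _).trans (S.orderOf_sub f hqk)] at h2
    rw [← Nat.card_coe_set_eq] at h
    have h' : Nat.card W ≤ (insert 1 ((fun a : X => actE a t) '' (zpowers (f.sub q) : Set X))).ncard := h
    have := Nat.one_le_two_pow (n := q)
    omega
  -- the kernel on the fixed points
  let K : Subgroup X := {
    carrier := {c | c ∈ centralizer (B : Set X) ⊓ Y ∧ ∀ e ∈ W, actE c e = e}
    one_mem' := ⟨one_mem _, fun e _ => by rw [map_one]; rfl⟩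
    mul_mem' := fun {a c} ha hc => ⟨mul_mem ha.1 hc.1, fun e he => by
      rw [map_mul, MulAut.mul_apply, hc.2 e he, ha.2 e he]⟩
    inv_mem' := fun {a} ha => ⟨inv_mem ha.1, fun e he => by
      rw [map_inv]
      show (actE a).symm e = e
      rw [MulEquiv.symm_apply_eq, ha.2 e he]⟩ }
  have hKconj : ∀ c ∈ centralizer (B : Set X), ∀ k ∈ K, c * k * c⁻¹ ∈ K := by
    intro c hc k hk
    refine ⟨⟨(centralizer (B : Set X)).mul_mem ((centralizer (B : Set X)).mul_mem hc hk.1.1)
      ((centralizer (B : Set X)).inv_mem hc),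
      (inferInstance : Y.Normal).conj_mem _ hk.1.2 c⟩, fun e he => ?_⟩
    rw [map_mul, map_mul, MulAut.mul_apply, MulAut.mul_apply,
      hk.2 _ (hWinv _ ((centralizer (B : Set X)).inv_mem hc) e he), ← MulAut.mul_apply, ← map_mul,
      mul_inv_cancel, map_one, MulAut.one_apply]
  have hKn : centralizer (B : Set X) ≤ normalizer (K : Set X) := fun c hc =>
    mem_normalizer_iff.2 fun k => ⟨hKconj c hc k, fun h => by
      simpa [mul_assoc] using hKconj _ ((centralizer (B : Set X)).inv_mem hc) _ h⟩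
  obtain ⟨g, j, hgj, hg, hgp, hgm, -⟩ := S.exists_free_sub f hqk hq.two_le
  have hgC : g ∈ centralizer (B : Set X) ⊓ Y := ⟨mem_centralizer_iff.2 fun b hb => by
    rw [hgj]; exact ((Frame.mem_galFix.1 hb).2.pow_right j).eq, mem_freeClosure hg hgp hgm⟩
  have hgK : g ∉ K := fun h => S.t_ne (S.freeE g hg hgp hgm t (h.2 t hBt))
  have hsK : ¬ orderOf g ∣ Nat.card K := by
    intro hd
    haveI := Fact.mk hgp
    obtain ⟨⟨h, hhK⟩, hho⟩ := exists_prime_orderOf_dvd_card' (G := K) (orderOf g) hd
    rw [← Subgroup.orderOf_coe] at hho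
    change orderOf h = orderOf g at hho
    set C := centralizer (B : Set X) ⊓ Y with hC
    obtain ⟨P, a, hga, hPa, -⟩ := S.exists_cyclic_sylow hgp hgm hgC
    have hhP : IsPGroup (orderOf g) (zpowers (⟨h, hhK.1⟩ : C)) := IsPGroup.of_card (n := 1) (by
      rw [Nat.card_zpowers, Subgroup.orderOf_mk, hho, pow_one])
    obtain ⟨P', hP'⟩ := hhP.exists_le_sylow
    obtain ⟨c, hc⟩ := MulAction.exists_smul_eq C P' P
    have hmem : c * ⟨h, hhK.1⟩ * c⁻¹ ∈ (P : Subgroup C) := by
      rw [← hc]
      show c * (⟨h, hhK.1⟩ : C) * c⁻¹ ∈ ((c • P' : Sylow (orderOf g) C) : Subgroup C)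
      exact ⟨⟨h, hhK.1⟩, hP' (mem_zpowers _), rfl⟩
    rw [hPa] at hmem
    obtain ⟨i, hi⟩ := mem_zpowers_iff.1 hmem
    obtain ⟨i', hi'⟩ := mem_zpowers_iff.1 hga
    set h' := (c : X) * h * (c : X)⁻¹ with hh'
    have hh'D : h' ∈ D := S.centralizer_le hg hgp hgm (mem_centralizer_singleton_iff.2 (by
      rw [show h' = (a : X) ^ i from (congrArg Subtype.val hi).symm, ← hi', ← zpow_add, add_comm,
        zpow_add]))
    have hh'o : orderOf h' = orderOf g := ((MulAut.conj (c : X)).orderOf_eq h).trans hho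
    have hg' := S.unique_free hX hh'D (hh'o ▸ hgp) (hh'o ▸ hgm) hg hh'o.symm
    exact hgK ((zpowers_le.2 (hKconj c c.2.1 h hhK)) hg')
  have hKodd : Odd (Nat.card K) := S.odd_of_normalized hg hgp hgm (hKn hgC.1) hsK
  have hKD : K ≤ D := by
    rcases eq_or_ne B ⊥ with hbot | hbot
    · intro k hk
      refine S.ker_le (MonoidHom.mem_ker.2 (MulEquiv.ext fun e => ?_))
      exact hk.2 e fun b hb => by
        rw [hbot, mem_bot] at hb
        rw [hb, map_one]; rfl
    · refine S.kernel B (fun b hb => (mem_galoisPart.1 (Frame.mem_galFix.1 hb).1).1) hbot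
        ⟨t, actE g t, S.t_ne, fun h => S.t_ne ((actE g).injective (h.trans (map_one _).symm)),
          fun h => S.t_ne (S.freeE g hg hgp hgm t h.symm),
          fun b hb => ⟨hBt b hb, hWinv g hgC.1 t hBt b hb⟩⟩ K (fun k hk => hk.1.1) hKodd hKn
        fun k hk e he => hk.2 e he
  have hKB : K ≤ B := by
    intro k hk
    have hkG : k ∈ galoisPart D actE t := mem_galoisPart.2 ⟨hKD hk, hk.1.2, hk.2 t hBt⟩
    refine Frame.mem_galFix.2 ⟨hkG, ?_⟩
    refine (S.commute_pow_iff hX f (g := ⟨k, hKD hk⟩) hk.1.2 _).2 ?_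
    rw [f.L.mult_eq]
    refine (f.L.fixes_iff (g := ⟨k, hKD hk⟩) (hk.2 t hBt) _).1 ?_
    have h := hk.2 _ hfW
    show actE k (actE (((f.σ ^ _ : D)) : X) t) = _
    rw [Subgroup.coe_pow]
    exact h
  -- lifting
  let r : M →* MulAut W :=
    { toFun := fun c =>
        { toFun := fun w => ⟨actE (c : X) w, hWinv c (hMC c.2).1 w w.2⟩
          invFun := fun w => ⟨actE ((c : X)⁻¹) w, hWinv _ (inv_mem (hMC c.2).1) w w.2⟩
          left_inv := fun w => Subtype.ext (by
            show actE ((c : X)⁻¹) (actE (c : X) w) = w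
            rw [← MulAut.mul_apply, ← map_mul, inv_mul_cancel, map_one, MulAut.one_apply])
          right_inv := fun w => Subtype.ext (by
            show actE (c : X) (actE ((c : X)⁻¹) w) = w
            rw [← MulAut.mul_apply, ← map_mul, mul_inv_cancel, map_one, MulAut.one_apply])
          map_mul' := fun a c' => Subtype.ext (map_mul (actE (c : X)) (a : E) c') }
      map_one' := MulEquiv.ext fun w => Subtype.ext (by
        show actE ((1 : M) : X) w = w
        rw [Subgroup.coe_one, map_one]; rfl)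
      map_mul' := fun a c => MulEquiv.ext fun w => Subtype.ext (by
        show actE ((a * c : M) : X) w = actE (a : X) (actE (c : X) w)
        rw [Subgroup.coe_mul, map_mul]; rfl) }
  obtain ⟨Q, hQ⟩ := (show IsPGroup q (zpowers (⟨x, hxM⟩ : M)) from IsPGroup.of_card (n := e) (by
    rw [Nat.card_zpowers, Subgroup.orderOf_mk, hxe])).exists_le_sylow
  have hcomm : ∀ a ∈ (Q : Subgroup M), ∀ c ∈ (Q : Subgroup M), ⁅a, c⁆ ∈ B.subgroupOf M := by
    intro a ha c hc
    have h := commute_of_pGroup_linear r hq2 (fun w => Subtype.ext (S.expE w)) hcardW Q.2 ha hc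
    have h1 : r ⁅a, c⁆ = 1 := by rw [map_commutatorElement, commutatorElement_eq_one_iff_mul_comm, h]
    refine hKB ⟨⟨(hMC (⁅a, c⁆ : M).2).1, (hMC (⁅a, c⁆ : M).2).2⟩, fun w hw => ?_⟩
    exact congrArg Subtype.val (DFunLike.congr_fun h1 (⟨w, hw⟩ : W))
  have hZ : B.subgroupOf M ≤ Subgroup.center M := fun z hz => mem_center_iff.2 fun m => Subtype.ext
    (mem_centralizer_iff.1 (hMC m.2).1 _ hz).symm
  have hperf' : commutator M = ⊤ := by
    refine Subgroup.map_injective M.subtype_injective ?_
    rw [_root_.commutator_def, map_commutator, ← MonoidHom.range_eq_map, range_subtype, hperf]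
  obtain ⟨z, hz, hzq⟩ := exists_mul_pow_eq_one hperf' hZ hq2 Q hcomm (hQ (mem_zpowers _))
    (show x ^ q ∈ B from S.pow_mem_galFix hX f hqk hxG)
  have hzB : (z : X) ∈ B := hz
  have hyG : x * (z : X) ∈ galoisPart D actE t := mul_mem hxG (Frame.mem_galFix.1 hzB).1
  obtain ⟨i, hi, -⟩ := S.exists_raises hX f (mem_galoisPart.1 hyG).1 (mem_galoisPart.1 hyG).2.1
  have hyq : (x * (z : X)) ^ q = 1 := by
    have := congrArg Subtype.val hzq
    simpa using this
  obtain ⟨w, hw⟩ := S.exists_shape f hq hqk hyG hyq hi fun h => hxne (by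
    have h' := h.mul_left ((Frame.mem_galFix.1 hzB).2.inv_left)
    simpa using h')
  exact ⟨q, w, hw⟩

end Data

end CfsgLib.Bender.OddQuot
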