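import Cfsg.Agent.Lib.Bender.OddQuot.Frame

/-!
# Even subgroups move their free elements
-/

set_option autoImplicit false
set_option linter.style.haveILetI false
set_option linter.unusedSectionVars false

namespace CfsgLib.Bender.OddQuot

open Subgroup
open CfsgLib.Coprime (IsSylowIn)

universe u

/-- An element inducing on a cyclic `s`-subgroup a power map congruent to one modulo `s`, whose
`s`-part centralizes it, centralizes it. -/
theorem commute_of_conj_zpow {G : Type u} [Group G] [Finite G] {s : ℕ} (hs : s.Prime) {g a : G}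
    {i : ℤ} (hi : g * a * g⁻¹ = a ^ i) (hdvd : (s : ℤ) ∣ i - 1) {e : ℕ} (he : orderOf a = s ^ e)
    (hpart : ∀ c : ℕ, IsPGroup s (zpowers (g ^ c)) → Commute (g ^ c) a) : Commute g a := by
  have hpow : ∀ (n : ℕ), g ^ n * a * (g ^ n)⁻¹ = a ^ (i ^ n) := by
    intro n
    induction n with
    | zero => simp
    | succ n ih =>
      rw [pow_succ' g n, mul_inv_rev]
      calc g * g ^ n * a * ((g ^ n)⁻¹ * g⁻¹) = g * (g ^ n * a * (g ^ n)⁻¹) * g⁻¹ := by group
        _ = a ^ (i ^ (n + 1)) := by rw [ih, ← conj_zpow, hi, ← zpow_mul, pow_succ']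
  obtain ⟨b, c, hc, hbc⟩ := Nat.exists_eq_pow_mul_and_not_dvd (orderOf_pos g).ne' s hs.ne_one
  have h1 : Commute (g ^ (s ^ e)) a := by
    refine mul_inv_eq_iff_eq_mul.1 ?_
    rw [hpow]
    have h1 : (orderOf a : ℤ) ∣ i ^ (s ^ e) - 1 := by
      rw [he]; push_cast
      exact (pow_dvd_pow _ e.le_succ).trans
        (by simpa using dvd_sub_pow_of_dvd_sub (a := i) (b := (1 : ℤ)) hdvd e)
    rw [orderOf_dvd_iff_zpow_eq_one, zpow_sub_one, mul_inv_eq_one] at h1
    exact h1
  have h2 : Commute (g ^ c) a := by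
    refine hpart c (IsPGroup.of_card (n := b) ?_)
    rw [Nat.card_zpowers, orderOf_pow, hbc, Nat.gcd_eq_right (Dvd.intro_left _ rfl),
      Nat.mul_div_cancel _ (Nat.pos_of_ne_zero fun h => hc (by rw [h]; exact dvd_zero s))]
  have hg : Nat.gcd (s ^ e) c = 1 := ((hs.coprime_iff_not_dvd.2 hc).pow_left e).gcd_eq_one
  have hb := Nat.gcd_eq_gcd_ab (s ^ e) c
  rw [hg] at hb
  rw [show g = (g ^ (s ^ e)) ^ Nat.gcdA (s ^ e) c * (g ^ c) ^ Nat.gcdB (s ^ e) c by
    rw [← zpow_natCast g (s ^ e), ← zpow_natCast g c, ← zpow_mul, ← zpow_mul, ← zpow_add, ← hb,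
      Nat.cast_one, zpow_one]]
  exact (h1.zpow_left _).mul_left (h2.zpow_left _)

variable {X E V : Type u} [Group X] [CommGroup E] [CommGroup V] [Finite X] [Finite E] [Finite V]
  {p : ℕ} {D : Subgroup X} {actE : X →* MulAut E} {actV : X →* MulAut V} {t : E}

namespace Data

variable (S : Data p D actE actV t)
include S

/-- A Sylow subgroup of a subgroup at a prime dividing `|E| - 1` is cyclic and contains the free
elements. -/
theorem exists_cyclic_sylow {g : X} (hgp : (orderOf g).Prime) (hgm : orderOf g ∣ Nat.card E - 1)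
    {M : Subgroup X} (hgM : g ∈ M) :
    ∃ (P : Sylow (orderOf g) M) (a : M), g ∈ zpowers (a : X) ∧ (P : Subgroup M) = zpowers a ∧
      ∀ c : X, (∀ z ∈ zpowers (a : X), c * z * c⁻¹ ∈ zpowers (a : X)) →
        c * g * c⁻¹ ∈ zpowers g := by
  classical
  haveI := Fact.mk hgp
  set s := orderOf g with hs
  obtain ⟨P, hP⟩ := (IsPGroup.of_card (p := s) (n := 1)
    (show Nat.card (zpowers (⟨g, hgM⟩ : M)) = s ^ 1 by
      rw [Nat.card_zpowers, Subgroup.orderOf_mk, pow_one])).exists_le_sylow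
  obtain ⟨f₁, hf₁, hf₁o⟩ := S.exists_free hgp hgm
  obtain ⟨R, hR, -⟩ := CfsgLib.Bender.exists_sylowIn_ge (K := D) (P := zpowers f₁)
    (IsPGroup.of_card (n := 1) (by rw [Nat.card_zpowers, hf₁o, pow_one])) (zpowers_le.2 hf₁)
  obtain ⟨hRtop, hcyc⟩ := S.sylow s R hgp hgm hR
  haveI := hcyc
  obtain ⟨k, -, hk⟩ := CfsgLib.Bender.exists_conjBy_le (Q := (P : Subgroup M).map M.subtype) (L := ⊤)
    (P.2.map M.subtype) le_top hRtop
  have hQcyc : IsCyclic ((P : Subgroup M).map M.subtype) :=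
    isCyclic_of_injective ((Subgroup.inclusion hk).comp
      ((MulAut.conj k).toMonoidHom.subgroupMap _)) (fun a c h => by
        have := congrArg Subtype.val (Subgroup.inclusion_injective hk h)
        exact Subtype.ext ((MulAut.conj k).injective this))
  haveI : IsCyclic (P : Subgroup M) := isCyclic_of_injective
    ((P : Subgroup M).equivMapOfInjective M.subtype M.subtype_injective).toMonoidHom
    (MulEquiv.injective _)
  obtain ⟨a, ha⟩ := IsCyclic.exists_generator (α := (P : Subgroup M))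
  have hPa : (P : Subgroup M) = zpowers (a : M) := by
    refine le_antisymm (fun z hz => ?_) (zpowers_le.2 a.2)
    obtain ⟨j, hj⟩ := mem_zpowers_iff.1 (ha ⟨z, hz⟩)
    exact mem_zpowers_iff.2 ⟨j, congrArg Subtype.val hj⟩
  have hga : g ∈ zpowers ((a : M) : X) := by
    have h := hP (mem_zpowers (⟨g, hgM⟩ : M))
    rw [hPa] at h
    obtain ⟨j, hj⟩ := mem_zpowers_iff.1 h
    exact mem_zpowers_iff.2 ⟨j, by rw [← Subgroup.coe_zpow, hj]⟩
  refine ⟨P, a, hga, hPa, fun c hc => ?_⟩
  obtain ⟨j, hj⟩ := mem_zpowers_iff.1 hga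
  obtain ⟨i, hi⟩ := mem_zpowers_iff.1 (hc _ (mem_zpowers _))
  refine mem_zpowers_iff.2 ⟨i, ?_⟩
  rw [← hj, ← conj_zpow, ← hi, ← zpow_mul, ← zpow_mul, mul_comm]

/-- An element conjugating a free element into its cyclic group lies in `D`. -/
theorem mem_of_conj_mem {g c : X} (hg : g ∈ D) (hgp : (orderOf g).Prime)
    (hgm : orderOf g ∣ Nat.card E - 1) (hc : c * g * c⁻¹ ∈ zpowers g) : c ∈ D := by
  refine S.normalizer_le g hg hgp hgm ?_
  rw [← CfsgLib.Coprime.conjBy_eq_self_iff, CfsgLib.Coprime.conjBy, MonoidHom.map_zpowers]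
  refine eq_of_le_of_card_ge (zpowers_le.2 hc) ?_
  rw [Nat.card_zpowers, Nat.card_zpowers]
  exact (MulAut.conj c).orderOf_eq g |>.ge

/-- An even subgroup moves each of its free elements by an element of `D`. -/
theorem exists_move {g : X} (hg : g ∈ D) (hgp : (orderOf g).Prime)
    (hgm : orderOf g ∣ Nat.card E - 1) {M : Subgroup X} (hgM : g ∈ M)
    (hM : Even (Nat.card M)) : ∃ y ∈ M, y ∈ D ∧ ¬ Commute y g := by
  classical
  by_contra hall
  push Not at hall
  haveI := Fact.mk hgp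
  obtain ⟨P, a, hga, hPa, hconj⟩ := S.exists_cyclic_sylow hgp hgm hgM
  have hNC : normalizer ((P : Subgroup M) : Set M) ≤ centralizer ((P : Subgroup M) : Set M) := by
    intro c hc
    have hmem : c * a * c⁻¹ ∈ (P : Subgroup M) :=
      (mem_normalizer_iff.1 hc a).1 (hPa ▸ mem_zpowers a)
    rw [hPa] at hmem
    obtain ⟨i, hi⟩ := mem_zpowers_iff.1 hmem
    have hcD : (c : X) ∈ D := S.mem_of_conj_mem hg hgp hgm (hconj c fun z hz => by
      obtain ⟨n, rfl⟩ := mem_zpowers_iff.1 hz
      rw [← conj_zpow]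
      refine zpow_mem (mem_zpowers_iff.2 ⟨i, ?_⟩) n
      rw [← Subgroup.coe_zpow, hi]; rfl)
    have hcg : Commute (c : X) g := hall c c.2 hcD
    obtain ⟨e, he⟩ := IsPGroup.iff_orderOf.1 P.2 ⟨a, hPa ▸ mem_zpowers a⟩
    rw [← Subgroup.orderOf_coe] at he
    change orderOf a = _ at he
    have hdvd : ((orderOf g : ℕ) : ℤ) ∣ i - 1 := by
      obtain ⟨j, hj⟩ := mem_zpowers_iff.1 hga
      have h1 : g ^ i = g := by
        calc g ^ i = ((a : X) ^ i) ^ j := by rw [← hj, ← zpow_mul, ← zpow_mul, mul_comm]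
          _ = (c : X) * g * (c : X)⁻¹ := by
            rw [← Subgroup.coe_zpow, hi, Subgroup.coe_mul, Subgroup.coe_mul, Subgroup.coe_inv,
              conj_zpow, hj]
          _ = g := by rw [hcg.eq, mul_inv_cancel_right]
      rw [orderOf_dvd_iff_zpow_eq_one, zpow_sub_one, h1, mul_inv_cancel]
    have hcomm : Commute c a := by
      refine commute_of_conj_zpow hgp hi.symm hdvd he fun n hn => ?_
      have hsup : (P : Subgroup M) = zpowers (c ^ n) ⊔ (P : Subgroup M) :=
        (P.3 (hn.to_sup_of_normal_right' P.2 (zpowers_le.2 (pow_mem hc n))) le_sup_right).symm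
      have : c ^ n ∈ (P : Subgroup M) := hsup ▸ mem_sup_left (mem_zpowers _)
      rw [hPa] at this
      obtain ⟨j, hj⟩ := mem_zpowers_iff.1 this
      rw [← hj]
      exact (Commute.refl a).zpow_left j
    refine mem_centralizer_iff.2 fun z hz => ?_
    rw [SetLike.mem_coe, hPa] at hz
    obtain ⟨n, rfl⟩ := mem_zpowers_iff.1 hz
    exact (hcomm.zpow_right n).eq.symm
  set K := (MonoidHom.transferSylow P hNC).ker with hK
  have hcompl := MonoidHom.ker_transferSylow_isComplement' P hNC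
  have hsK : ¬ orderOf g ∣ Nat.card (K.map M.subtype) := by
    rw [card_map_of_injective M.subtype_injective]
    exact MonoidHom.not_dvd_card_ker_transferSylow P hNC
  have hKodd := S.odd_of_normalized hg hgp hgm
    (CfsgLib.Coprime.BenderPair.le_normalizer_map_subtype M K hgM) hsK
  rw [card_map_of_injective M.subtype_injective] at hKodd
  have hPodd : Odd (Nat.card (P : Subgroup M)) := by
    obtain ⟨j, hj⟩ := IsPGroup.iff_card.1 P.2
    rw [hj]
    exact (hgp.odd_of_ne_two (S.two_lt_prime_of_dvd hgp hgm)).pow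
  refine Nat.not_even_iff_odd.2 (hKodd.mul hPodd) ?_
  rw [hK, hcompl.card_mul]
  exact hM

/-- A normal subgroup with a free element of an even subgroup is even. -/
theorem even_of_normal {g : X} (hg : g ∈ D) (hgp : (orderOf g).Prime)
    (hgm : orderOf g ∣ Nat.card E - 1) {M N : Subgroup X} (hgN : g ∈ N) (hNM : N ≤ M)
    (hMN : M ≤ normalizer (N : Set X)) (hM : Even (Nat.card M)) : Even (Nat.card N) := by
  classical
  by_contra hodd
  rw [Nat.not_even_iff_odd] at hodd
  haveI := Fact.mk hgp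
  haveI : (N.subgroupOf M).Normal := (normal_subgroupOf_iff_le_normalizer hNM).2 hMN
  obtain ⟨P, a, hga, hPa, hconj⟩ := S.exists_cyclic_sylow hgp hgm hgN
  have hN' : Nat.card (N.subgroupOf M) = Nat.card N :=
    Nat.card_congr (subgroupOfEquivOfLe hNM).toEquiv
  let e := (subgroupOfEquivOfLe hNM).symm
  let P' : Sylow (orderOf g) (N.subgroupOf M) := Sylow.mapSurjective (f := e.toMonoidHom) e.surjective P
  have hfr := Sylow.normalizer_sup_eq_top P'
  have hP'map : ((P' : Subgroup (N.subgroupOf M)).map (N.subgroupOf M).subtype).map M.subtype =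
      zpowers (a : X) := by
    rw [show (P' : Subgroup (N.subgroupOf M)) = (P : Subgroup N).map e.toMonoidHom from rfl, hPa, MonoidHom.map_zpowers, MonoidHom.map_zpowers,
      MonoidHom.map_zpowers]
    rfl
  set Q := normalizer
    (((P' : Subgroup (N.subgroupOf M)).map (N.subgroupOf M).subtype : Subgroup M) : Set M) with hQ
  have hQD : ∀ c ∈ Q, (c : X) ∈ D := by
    intro c hc
    refine S.mem_of_conj_mem hg hgp hgm (hconj c fun z hz => ?_)
    rw [← hP'map] at hz ⊢
    obtain ⟨w, hw, rfl⟩ := hz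
    exact ⟨c * w * c⁻¹, (mem_normalizer_iff.1 hc w).1 hw, rfl⟩
  have hQodd : Odd (Nat.card Q) := by
    refine S.oddD.of_dvd_nat ?_
    rw [← card_map_of_injective M.subtype_injective]
    exact card_dvd_of_le (by rintro _ ⟨c, hc, rfl⟩; exact hQD c hc)
  refine Nat.not_even_iff_odd.2 ((hQodd.mul hodd).of_dvd_nat ?_) hM
  rw [← Subgroup.card_top (G := M), ← hfr, ← hN']
  refine CfsgLib.Coprime.card_sup_dvd_of_le_normalizer ?_
  exact le_top.trans (Subgroup.normalizer_eq_top (N.subgroupOf M)).ge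

end Data

end CfsgLib.Bender.OddQuot
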