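import Cfsg.Agent.Lib.Bender.OddQuot.Spectrum
import Cfsg.Agent.Lib.Bender.OddQuot.Eleven

/-!
# An action of `σ ⋊ y` with `y σ y⁻¹ = σ²` and `y` fixing at most `p` points
-/

set_option autoImplicit false
set_option linter.style.haveILetI false
set_option linter.unusedSectionVars false

namespace CfsgLib.Bender.OddQuot

open Subgroup

universe u

variable {X V : Type u} [Group X] [CommGroup V] [Finite X] [Finite V] {p q n : ℕ}

/-- The hypotheses. -/
structure Twisted (act : X →* MulAut V) (p q n : ℕ) (σ y : X) : Prop where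
  prime : p.Prime
  qprime : q.Prime
  expV : ∀ v : V, v ^ p = 1
  ntV : Nontrivial V
  ord : orderOf σ = n
  dvd : n ∣ 2 ^ q - 1
  ne_one : n ≠ 1
  free : ∀ z ∈ zpowers σ, z ≠ 1 → ∀ v : V, act z v = v → v = 1
  conj : y * σ * y⁻¹ = σ ^ 2
  period : y ^ q = 1
  few : Nat.card {v : V // act y v = v} ≤ p

namespace Twisted

variable {act : X →* MulAut V} {σ y : X} (T : Twisted act p q n σ y)
include T

theorem ne_of_lt {i j : ℕ} (hij : i < j) (hjq : j < q) : σ ^ 2 ^ j ≠ σ ^ 2 ^ i := by
  intro h
  rw [pow_eq_pow_iff_modEq, T.ord] at h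
  have hn2 : n.Coprime 2 := by
    refine (Nat.prime_two.coprime_iff_not_dvd.2 fun h2 => ?_).symm
    have h3 := h2.trans T.dvd
    have h4 : 2 ∣ 2 ^ q := dvd_pow_self 2 T.qprime.ne_zero
    have := Nat.one_le_two_pow (n := q)
    omega
  have h1 : n ∣ 2 ^ (j - i) - 1 := by
    have h2 := (Nat.modEq_iff_dvd' (Nat.pow_le_pow_right two_pos hij.le)).1 h.symm
    rw [show 2 ^ j - 2 ^ i = 2 ^ i * (2 ^ (j - i) - 1) by
      rw [Nat.mul_sub, mul_one, ← pow_add, Nat.add_sub_cancel' hij.le]] at h2
    exact (hn2.pow_right i).dvd_of_dvd_mul_left h2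
  have h2 := Nat.dvd_gcd h1 T.dvd
  rw [Nat.pow_sub_one_gcd_pow_sub_one, show Nat.gcd (j - i) q = 1 from
    ((T.qprime.coprime_iff_not_dvd.2 fun h => by
      have := Nat.le_of_dvd (by omega) h
      omega).symm).gcd_eq_one] at h2
  exact T.ne_one (Nat.dvd_one.1 h2)

theorem eq_one_of_pow_eq {a c : ℕ} {v : V} (hne : σ ^ a ≠ σ ^ c)
    (h : act (σ ^ a) v = act (σ ^ c) v) : v = 1 := by
  refine T.free ((σ ^ c)⁻¹ * σ ^ a)
    (mul_mem (inv_mem (pow_mem (mem_zpowers _) _)) (pow_mem (mem_zpowers _) _))
    (fun e => hne (inv_mul_eq_one.1 e).symm) v ?_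
  rw [map_mul, MulAut.mul_apply, h, ← MulAut.mul_apply, ← map_mul, inv_mul_cancel, map_one,
    MulAut.one_apply]

/-- The fixed points of `y` form a group of order `p`, and `|V| = p ^ q`. -/
theorem card_facts : Nat.card {v : V // act y v = v} = p ∧ Nat.card V = p ^ q := by
  classical
  haveI := T.ntV
  haveI := Fact.mk T.prime
  obtain ⟨s, hs, hsn⟩ := Nat.exists_prime_and_dvd T.ne_one
  set z := σ ^ (n / s) with hz
  have hzo : orderOf z = s := by
    rw [hz, ← T.ord]
    exact orderOf_pow_orderOf_div (orderOf_pos σ).ne' (T.ord.symm ▸ hsn)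
  let e : X →* AddMonoid.End (Additive V) :=
    { toFun := fun g => MonoidHom.toAdditive (act g).toMonoidHom
      map_one' := by rw [map_one]; rfl
      map_mul' := fun a b => by rw [map_mul]; rfl }
  have hcard : Nat.card V = Nat.card {v : Additive V // e y v = v} ^ q := by
    rw [show Nat.card V = Nat.card (Additive V) from Nat.card_congr Additive.ofMul]
    refine card_eq_pow_of_twist (a := 2) hs T.qprime.pos (e z) (e y) ?_ ?_ (fun v hv => ?_) ?_ ?_
    · rw [← map_pow, ← hzo, pow_orderOf_eq_one, map_one]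
    · rw [← map_pow, T.period, map_one]
    · exact congrArg Additive.ofMul (T.free z (pow_mem (mem_zpowers σ) _)
        (fun h => hs.ne_one (by rw [← hzo, h, orderOf_one])) v.toMul (congrArg Additive.toMul hv))
    · rw [← map_mul, ← map_pow, ← map_mul]
      congr 1
      rw [← mul_inv_eq_iff_eq_mul, hz, ← conj_pow, T.conj, ← pow_mul, ← pow_mul, mul_comm]
    · intro i j hij h
      have hd : ∀ i j : ℕ, i < j → j < q → ¬ 2 ^ i ≡ 2 ^ j [MOD s] := by
        intro i j hlt hjq h
        have hn2 : s.Coprime 2 := by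
          refine (Nat.coprime_primes hs Nat.prime_two).2 ?_
          rintro rfl
          have h3 := hsn.trans T.dvd
          have h4 : 2 ∣ 2 ^ q := dvd_pow_self 2 T.qprime.ne_zero
          have := Nat.one_le_two_pow (n := q)
          omega
        have h2 := (Nat.modEq_iff_dvd' (Nat.pow_le_pow_right two_pos hlt.le)).1 h
        rw [show 2 ^ j - 2 ^ i = 2 ^ i * (2 ^ (j - i) - 1) by
          rw [Nat.mul_sub, mul_one, ← pow_add, Nat.add_sub_cancel' hlt.le]] at h2
        have h5 := Nat.dvd_gcd ((hn2.pow_right i).dvd_of_dvd_mul_left h2) (hsn.trans T.dvd)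
        rw [Nat.pow_sub_one_gcd_pow_sub_one, show Nat.gcd (j - i) q = 1 from
          ((T.qprime.coprime_iff_not_dvd.2 fun h => by
            have := Nat.le_of_dvd (by omega) h
            omega).symm).gcd_eq_one] at h5
        exact hs.not_dvd_one h5
      rcases lt_or_gt_of_ne (fun e : (i : ℕ) = j => hij (Fin.ext e)) with hlt | hlt
      · exact hd i j hlt j.2 h
      · exact hd j i hlt i.2 h.symm
  have hfix : Nat.card {v : Additive V // e y v = v} = Nat.card {v : V // act y v = v} :=
    Nat.card_congr (Additive.toMul.subtypeEquiv fun v => Iff.rfl)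
  rw [hfix] at hcard
  suffices hc : Nat.card {v : V // act y v = v} = p from ⟨hc, by rw [hcard, hc]⟩
  let W : Subgroup V := MonoidHom.eqLocus (act y).toMonoidHom (MonoidHom.id V)
  have hW : Nat.card {v : V // act y v = v} = Nat.card W := rfl
  have hpV : IsPGroup p V := fun v => ⟨1, by rw [pow_one]; exact T.expV v⟩
  obtain ⟨i, hi⟩ := IsPGroup.iff_card.1 (hpV.to_subgroup W)
  have hle := T.few
  rw [hW, hi] at hcard hle ⊢
  rcases i with _ | _ | i
  · rw [pow_zero, one_pow] at hcard
    exact absurd hcard (Finite.one_lt_card (α := V)).ne'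
  · exact pow_one p
  · exfalso
    have : p ^ 1 < p ^ (i + 1 + 1) := Nat.pow_lt_pow_right T.prime.one_lt (by omega)
    rw [pow_one] at this
    omega

/-- The linear structure. -/
theorem exists_linear : ∃ (_ : Module (ZMod p) (Additive V))
    (lin : X →* Module.End (ZMod p) (Additive V)) (v₀ : Additive V),
    (∀ g v, lin g (Additive.ofMul v) = Additive.ofMul (act g v)) ∧
      Twist p q (lin σ) (lin y) v₀ := by
  classical
  obtain ⟨hfix, hcard⟩ := T.card_facts
  haveI := Fact.mk T.prime
  haveI : Module (ZMod p) (Additive V) := AddCommGroup.zmodModule fun v => by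
    apply Additive.toMul.injective
    rw [toMul_nsmul, toMul_zero]
    exact T.expV _
  let lin : X →* Module.End (ZMod p) (Additive V) :=
    { toFun := fun g => ({ toFun := fun v => Additive.ofMul (act g v.toMul)
                           map_add' := fun a b => congrArg Additive.ofMul (map_mul (act g) a.toMul b.toMul)
                           map_smul' := ZMod.map_smul (F := Additive V →+ Additive V)
                             (MonoidHom.toAdditive (act g).toMonoidHom) } :
          Module.End (ZMod p) (Additive V))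
      map_one' := by
        ext v
        simp
      map_mul' := fun a b => by
        ext v
        simp
        rfl }
  let W : Subgroup V := MonoidHom.eqLocus (act y).toMonoidHom (MonoidHom.id V)
  have hWc : Nat.card W = p := hfix
  obtain ⟨w, hw1⟩ : ∃ w : W, w ≠ 1 := by
    haveI : Nontrivial W := Finite.one_lt_card_iff_nontrivial.1 (hWc ▸ T.prime.one_lt)
    exact exists_ne 1
  have hgen : zpowers w = ⊤ := zpowers_eq_top_of_prime_card hWc hw1
  refine ⟨inferInstance, lin, Additive.ofMul (w : V), fun g v => rfl, T.qprime.two_le, ?_, ?_, ?_,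
    ?_, ?_, ?_, ?_, ?_⟩
  · rw [← hcard]; exact Nat.card_congr Additive.toMul
  · exact fun h => hw1 (Subtype.ext (congrArg Additive.toMul h))
  · show Additive.ofMul (act y (w : V)) = _
    exact congrArg Additive.ofMul w.2
  · intro v hv
    obtain ⟨c, hc⟩ := mem_zpowers_iff.1
      (show (⟨v.toMul, congrArg Additive.toMul hv⟩ : W) ∈ zpowers w by rw [hgen]; trivial)
    refine ⟨(c : ZMod p), ?_⟩
    rw [Int.cast_smul_eq_zsmul]
    apply Additive.toMul.injective
    rw [toMul_zsmul]
    exact (congrArg Subtype.val hc).symm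
  · rw [← map_pow, T.period, map_one]
  · rw [← map_mul, ← map_pow, ← map_mul, mul_inv_eq_iff_eq_mul.1 T.conj]
  · rw [← map_pow]
    congr 1
    have h1 : 2 ^ q ≡ 1 [MOD n] :=
      ((Nat.modEq_iff_dvd' Nat.one_le_two_pow).2 T.dvd).symm
    conv_rhs => rw [← pow_one σ]
    rw [pow_eq_pow_iff_modEq, T.ord]
    exact h1
  · intro i j hij hjq u hu
    rw [← map_pow, ← map_pow] at hu
    exact congrArg Additive.ofMul (T.eq_one_of_pow_eq (v := u.toMul) (T.ne_of_lt hij hjq)
      (congrArg Additive.toMul hu))

theorem commute_of_commute {g h : X} (hg : Commute g σ) (hh : Commute h σ) :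
    Commute (act g) (act h) := by
  haveI := Fact.mk T.prime
  obtain ⟨hM, lin, v₀, hlin, hT⟩ := T.exists_linear
  have hc := hT.commute_of_commute (hg.map lin) (hh.map lin)
  refine MulEquiv.ext fun v => ?_
  have h2 := DFunLike.congr_fun hc.eq (Additive.ofMul v)
  rw [Module.End.mul_apply, Module.End.mul_apply, hlin, hlin, hlin, hlin] at h2
  exact congrArg Additive.toMul h2

/-- An element commuting with `σ` and `y` acts by a power map. -/
theorem exists_pow_of_commute {g : X} (hg : Commute g σ) (hgy : Commute g y) :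
    ∃ c : ℕ, ∀ v : V, act g v = v ^ c := by
  haveI := Fact.mk T.prime
  obtain ⟨hM, lin, v₀, hlin, hT⟩ := T.exists_linear
  obtain ⟨c, hc⟩ := hT.exists_smul_of_commute (hg.map lin) (hgy.map lin)
  refine ⟨c.val, fun v => ?_⟩
  have h2 := DFunLike.congr_fun hc (Additive.ofMul v)
  rw [hlin, LinearMap.smul_apply, Module.End.one_apply] at h2
  have h3 : c • Additive.ofMul v = c.val • Additive.ofMul v := by
    rw [← Nat.cast_smul_eq_nsmul (ZMod p), ZMod.natCast_zmod_val]
  rw [h3, ← ofMul_pow] at h2
  exact congrArg Additive.toMul h2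

/-- The characteristic is a power of two modulo the order of `σ`. -/
theorem exists_modEq : ∃ l < q, p ≡ 2 ^ l [MOD n] := by
  haveI := Fact.mk T.prime
  obtain ⟨hM, lin, v₀, hlin, hT⟩ := T.exists_linear
  obtain ⟨l, hl, w, hw, he⟩ := hT.exists_pow_eq
  refine ⟨l, hl, ?_⟩
  rw [← T.ord, ← pow_eq_pow_iff_modEq]
  by_contra hne
  refine hw (congrArg Additive.ofMul (T.eq_one_of_pow_eq (v := w.toMul) hne ?_))
  rw [← map_pow, ← map_pow] at he
  have h2 := congrArg Additive.toMul he
  rwa [show w = Additive.ofMul w.toMul from rfl, hlin, hlin] at h2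

end Twisted

end CfsgLib.Bender.OddQuot
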