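import Cfsg.Agent.Lib.Bender.OddQuot.Perfect
import Cfsg.Agent.Lib.Bender.OddQuot.Twisted

/-!
# `p` does not divide the order of `D`

A `p`-element of `D` would force `|E| = 2 ^ p` and `p` congruent to a power of two modulo `2 ^ p - 1`.
-/

set_option autoImplicit false
set_option linter.style.haveILetI false
set_option linter.unusedSectionVars false

namespace CfsgLib.Bender.OddQuot

open Subgroup
open CfsgLib.Coprime (IsSylowIn)

universe u

variable {X E V : Type u} [Group X] [CommGroup E] [CommGroup V] [Finite X] [Finite E] [Finite V]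
  {p : ℕ} {D : Subgroup X} {actE : X →* MulAut E} {actV : X →* MulAut V} {t : E}

namespace Data

variable (S : Data p D actE actV t)
include S

theorem mult_conj (L : Semilin (actE.comp D.subtype) t) (g : D) {a : D} (ha : L.gal a = 1) :
    L.mult (g * a * g⁻¹) = L.gal g (L.mult a) := by
  rw [L.mult_eq, L.mult_eq a, map_mul, map_mul]
  set w := (actE.comp D.subtype g⁻¹) t with hw
  show L.e (Additive.ofMul (actE.comp D.subtype g (actE.comp D.subtype a w))) = _
  rw [L.apply, L.apply, ha, AlgEquiv.one_apply, map_mul]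
  have h1 : L.mult g * L.gal g (L.e (Additive.ofMul w)) = 1 := by
    rw [← L.apply, hw, map_inv]
    show L.e (Additive.ofMul (actE.comp D.subtype g ((actE.comp D.subtype g).symm t))) = 1
    rw [MulEquiv.apply_symm_apply, L.et]
  rw [mul_left_comm, h1, mul_one, L.mult_eq]

theorem mult_pow_gal (L : Semilin (actE.comp D.subtype) t) {a : D} (ha : L.gal a = 1) :
    ∀ n : ℕ, L.mult (a ^ n) = L.mult a ^ n := by
  intro n
  induction n with
  | zero => rw [pow_zero, pow_zero, S.mult_one]
  | succ n ih => rw [pow_succ', S.mult_mul ha, ih, pow_succ']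

/-- Elements of `D` with trivial field part and equal multipliers agree, if both are killed by `n`
dividing `|E| - 1` and they commute. -/
theorem eq_of_commute_mult (L : Semilin (actE.comp D.subtype) t) {a c : D} (hc : L.gal c = 1)
    (ha : L.gal a = 1) (hcomm : Commute a c) {n : ℕ} (hn : n ∣ Nat.card E - 1) (han : a ^ n = 1)
    (hcn : c ^ n = 1) (h : L.mult a = L.mult c) : a = c := by
  have hci : L.gal c⁻¹ = 1 := by rw [map_inv, hc, inv_one]
  have h1 : L.mult (c⁻¹ * a) = 1 := by
    rw [S.mult_mul hci, h, ← S.mult_mul hci, inv_mul_cancel, S.mult_one]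
  have hk := S.mem_ker_of_mult (L := L) (a := c⁻¹ * a) (by rw [map_mul, hci, ha, one_mul]) h1
  have hcop := S.coprime_of_fix (c⁻¹ * a).2 S.t_ne (by rw [MonoidHom.mem_ker.1 hk]; rfl)
  have hd : (c⁻¹ * a) ^ n = 1 := by
    rw [Commute.mul_pow hcomm.symm.inv_left, inv_pow, han, hcn, inv_one, one_mul]
  have h2 : c⁻¹ * a = 1 := by
    rw [← orderOf_eq_one_iff]
    refine Nat.eq_one_of_dvd_coprimes hcop ?_ ((orderOf_dvd_of_pow_eq_one hd).trans hn)
    rw [Subgroup.orderOf_coe]
  rw [inv_mul_eq_one] at h2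
  exact h2.symm

/-- An element with trivial field part whose multiplier is a power of that of a free element. -/
theorem eq_pow_of_mult (L : Semilin (actE.comp D.subtype) t) {f h : D}
    (hfp : (orderOf (f : X)).Prime) (hfm : orderOf (f : X) ∣ Nat.card E - 1)
    (hgh : L.gal h = 1) (hh : h ^ orderOf (f : X) = 1) {j : ℕ}
    (hj : L.mult h = L.mult (f ^ j)) : h = f ^ j := by
  have hgf : L.gal (f ^ j) = 1 := by rw [map_pow, S.gal_eq_one_of_free f.2 hfp hfm, one_pow]
  have hfn : (f ^ j) ^ orderOf (f : X) = 1 := by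
    rw [← pow_mul, mul_comm, pow_mul, show f ^ orderOf (f : X) = 1 from
      Subtype.ext (pow_orderOf_eq_one (f : X)), one_pow]
  have hi : L.gal (f ^ j)⁻¹ = 1 := by rw [map_inv, hgf, inv_one]
  have hk := S.mem_ker_of_mult (L := L) (a := (f ^ j)⁻¹ * h) (by rw [map_mul, hi, hgh, one_mul]) (by
    rw [S.mult_mul hi, hj, ← S.mult_mul hi, inv_mul_cancel, S.mult_one])
  refine S.eq_of_commute_mult L hgf hgh ?_ hfm hh hfn hj
  have hc : Commute ((f ^ j)⁻¹ * h) (f ^ j) := Subtype.ext (by
    have := (S.commute_ker f.2 hfp hfm hk).pow_right j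
    simpa [mul_assoc] using this.eq)
  simpa using (Commute.refl (f ^ j)).mul_left hc

/-- `p` does not divide the order of `D`. -/
theorem not_dvd_card : ¬ p ∣ Nat.card D := by
  classical
  intro hpD
  haveI := S.fact_prime
  obtain ⟨L⟩ := S.exists_semilin
  obtain ⟨d, hd⟩ := exists_prime_orderOf_dvd_card' (G := D) p hpD
  set k := Module.finrank (ZMod 2) L.F with hk
  have hE : Nat.card E = 2 ^ k := L.card_eq
  have hk2 : 2 ≤ k := by
    have h := S.card_four
    rw [hE, show (4 : ℕ) = 2 ^ 2 from rfl] at h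
    exact (Nat.pow_le_pow_iff_right one_lt_two).1 h
  -- a conjugate fixing `t`
  obtain ⟨v, hv1, hv⟩ := L.exists_fixed_of_coprime S.t_ne (zpowers d) (by
    rw [Nat.card_zpowers, hd]; exact S.prime.coprime_iff_not_dvd.2 S.not_dvd_p)
  obtain ⟨g, hg, hgt⟩ := S.trans v hv1
  set d' : D := ⟨g, hg⟩⁻¹ * d * ⟨g, hg⟩ with hd'
  have hdo : orderOf d' = p := by
    rw [hd', show (⟨g, hg⟩ : D)⁻¹ * d * ⟨g, hg⟩ = MulAut.conj (⟨g, hg⟩ : D)⁻¹ d by simp,
      MulEquiv.orderOf_eq, hd]
  have hdt : actE (d' : X) t = t := by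
    rw [hd', Subgroup.coe_mul, Subgroup.coe_mul, Subgroup.coe_inv, map_mul, map_mul, map_inv,
      MulAut.mul_apply, MulAut.mul_apply]
    show (actE g).symm (actE (d : X) (actE g t)) = t
    rw [hgt, show actE (d : X) v = v from hv d (mem_zpowers d), MulEquiv.symm_apply_eq, hgt]
  -- it fixes only `t`
  have hfree : ∀ e : E, actE (d' : X) e = e → e = 1 ∨ e = t := by
    intro e he
    by_contra hne
    push Not at hne
    have hd1 : (d' : X) ≠ 1 := fun h => S.prime.ne_one (by
      rw [← hdo, ← Subgroup.orderOf_coe, h, orderOf_one])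
    have hp : IsPGroup p (zpowers (d' : X)) := IsPGroup.of_card (n := 1) (by
      rw [Nat.card_zpowers, Subgroup.orderOf_coe, hdo, pow_one])
    letI : MulAction (zpowers (d' : X)) V :=
      MulAction.compHom V (actV.comp (zpowers (d' : X)).subtype)
    obtain ⟨w, hw, hw1⟩ := hp.exists_fixed_point_of_prime_dvd_card_of_fixed_point V S.dvd_cardV
      (a := (1 : V)) fun h => map_one (actV (h : X))
    exact hw1 (S.four_free _ d'.2 hd1 t e S.t_ne hne.1 hne.2.symm hdt he w
      (hw ⟨(d' : X), mem_zpowers _⟩)).symm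
  have hfixB : ∀ β ∈ zpowers d', actE.comp D.subtype β t = t := fun β hβ =>
    (zpowers_le.2 (show d' ∈ (MulAction.stabilizer (MulAut E) t).comap (actE.comp D.subtype) from
      hdt)) hβ
  obtain ⟨j, hj, hjk⟩ := L.card_fixed (zpowers d') hfixB
  have hj1 : j = 1 := by
    have h2 : Nat.card {e : E // ∀ β ∈ zpowers d', actE.comp D.subtype β e = e} = 2 := by
      rw [show {e : E // ∀ β ∈ zpowers d', actE.comp D.subtype β e = e} =
        ↥({e : E | ∀ β ∈ zpowers d', actE.comp D.subtype β e = e}) from rfl, Nat.card_coe_set_eq]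
      refine Set.ncard_eq_two.2 ⟨1, t, S.t_ne.symm, Set.ext fun e => ⟨fun he => hfree e
        (he d' (mem_zpowers _)), ?_⟩⟩
      rintro (rfl | rfl)
      · exact fun β _ => map_one _
      · exact fun β hβ => hfixB β hβ
    rw [h2] at hj
    exact (Nat.pow_right_injective (le_refl 2) ((pow_one 2).trans hj)).symm
  subst hj1
  rw [one_mul] at hjk
  have hmap : Nat.card ((zpowers d').map L.gal) ∣ p := by
    rw [MonoidHom.map_zpowers, Nat.card_zpowers, ← hdo]; exact orderOf_map_dvd _ _
  have hkp : k = p := by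
    rcases (Nat.dvd_prime S.prime).1 hmap with h | h <;> rw [hjk] at h
    · rw [← hk] at h; omega
    · exact h
  -- an element inducing the Frobenius
  haveI : Fact (Nat.Prime 2) := ⟨Nat.prime_two⟩
  haveI : FiniteDimensional (ZMod 2) L.F := Module.Finite.of_finite
  obtain ⟨φ, hφ⟩ := exists_frobenius (F := L.F)
  obtain ⟨y, hy, hyg⟩ : φ ∈ (zpowers d').map L.gal := by
    rw [eq_top_of_card_eq ((zpowers d').map L.gal) (by
      rw [hjk]; exact (IsGalois.card_aut_eq_finrank (ZMod 2) L.F).symm)]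
    trivial
  have hyt : actE (y : X) t = t := hfixB y hy
  have hyp : (y : X) ^ p = 1 := by
    rw [← Subgroup.coe_pow, show y ^ p = 1 from ?_, Subgroup.coe_one]
    exact orderOf_dvd_iff_pow_eq_one.1 ((orderOf_dvd_of_mem_zpowers hy).trans (by rw [hdo]))
  have hyo : orderOf (y : X) = p := orderOf_eq_prime hyp fun h => by
    have hy1 : L.gal y = 1 := by rw [show y = 1 from Subtype.ext h, map_one]
    rw [hy1] at hyg
    have hall : ∀ x : L.F, x ^ 2 = x := fun x => by rw [← hφ, ← hyg]; rfl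
    have hsub : (Set.univ : Set L.F) ⊆ {0, 1} := fun x _ => by
      rcases eq_or_ne x 0 with hx | hx
      · exact Or.inl hx
      · refine Or.inr (mul_left_cancel₀ hx ?_)
        rw [← pow_two, hall, mul_one]
    have hle := Set.ncard_le_ncard hsub (Set.toFinite _)
    rw [Set.ncard_univ, Set.ncard_pair zero_ne_one] at hle
    have hc : Nat.card L.F = 2 ^ k := by
      rw [← hE]; exact (Nat.card_congr (Additive.ofMul.trans L.e.toEquiv)).symm
    have h4 := Nat.pow_le_pow_right (n := 2) two_pos hk2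
    omega
  have hfew : Nat.card {v : V // actV (y : X) v = v} ≤ p := S.line _ y.2 (hyo ▸ S.prime)
  -- free elements are centralized by the scalars
  set m := Nat.card E - 1 with hm
  have hm2 : m = 2 ^ p - 1 := by rw [hm, hE, hkp]
  have hm0 : 0 < m := by have := S.card_four; omega
  obtain ⟨s, hs, hsm⟩ := S.exists_prime_dvd
  obtain ⟨f₀, hf₀, hf₀o⟩ := S.exists_free hs hsm
  set f : D := ⟨f₀, hf₀⟩ with hf
  have hfp : (orderOf (f : X)).Prime := hf₀o.symm ▸ hs
  have hfm : orderOf (f : X) ∣ Nat.card E - 1 := hf₀o.symm ▸ hsm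
  have hgf := S.gal_eq_one_of_free (L := L) f.2 hfp hfm
  have hconjf : ∀ (c : D) (j : ℕ), L.gal c (L.mult f) = L.mult (f ^ j) → c * f * c⁻¹ = f ^ j := by
    intro c j hcj
    refine S.eq_pow_of_mult L hfp hfm (by rw [map_mul, map_mul, hgf, mul_one, map_inv,
      mul_inv_cancel]) ?_ (by rw [S.mult_conj L c hgf, hcj])
    rw [_root_.conj_pow, show f ^ orderOf (f : X) = 1 from Subtype.ext (pow_orderOf_eq_one (f : X)),
      mul_one, mul_inv_cancel]
  have hTf : Twisted actV p p (orderOf (f : X)) (f : X) (y : X) := by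
    refine ⟨S.prime, S.prime, S.expV, S.ntV, rfl, hm2 ▸ hfm, hfp.ne_one, fun z hz hz1 v hv => ?_,
      ?_, hyp, hfew⟩
    · have ho : orderOf z = orderOf (f : X) := ((Nat.dvd_prime hfp).1
        (orderOf_dvd_of_mem_zpowers hz)).resolve_left fun h => hz1 (orderOf_eq_one_iff.1 h)
      exact S.freeV z ((zpowers_le.2 f.2) hz) (ho.symm ▸ hfp) (ho.symm ▸ hfm) v hv
    · have h := congrArg Subtype.val (hconjf y 2 (by rw [hyg, hφ, S.mult_pow_gal L hgf]))
      rw [Subgroup.coe_mul, Subgroup.coe_mul, Subgroup.coe_inv, Subgroup.coe_pow] at h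
      exact h
  set N₀ := L.gal.ker with hN₀
  have hcf : ∀ c : N₀, Commute ((c : D) : X) (f : X) := fun c => by
    have h := congrArg Subtype.val (hconjf c 1 (by
      rw [MonoidHom.mem_ker.1 c.2, pow_one]; rfl))
    rw [pow_one, Subgroup.coe_mul, Subgroup.coe_mul, Subgroup.coe_inv] at h
    exact mul_inv_eq_iff_eq_mul.1 h
  have hab : ∀ a c : N₀, a * c = c * a := fun a c => Subtype.ext (Subtype.ext (S.faithful (by
    rw [Subgroup.coe_mul, Subgroup.coe_mul, Subgroup.coe_mul, Subgroup.coe_mul, map_mul, map_mul]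
    exact (hTf.commute_of_commute (hcf a) (hcf c)).eq)))
  -- a scalar of order `m`
  let ψ : N₀ →* L.Fˣ :=
    { toFun := fun a => Units.mk0 (L.mult (a : D)) (L.mult_ne_zero S.t_ne _)
      map_one' := Units.ext S.mult_one
      map_mul' := fun a c => Units.ext (S.mult_mul a.2) }
  have hψk : ∀ a : N₀, ψ a = 1 → ((a : D) : X) ∈ actE.ker := fun a ha =>
    S.mem_ker_of_mult a.2 (congrArg Units.val ha)
  have hcardF : Nat.card L.Fˣ = m := by
    rw [Nat.card_units, hm, Nat.card_congr (Additive.ofMul.trans L.e.toEquiv)]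
  have hsurj : Function.Surjective ψ := by
    rw [← MonoidHom.range_eq_top]
    refine eq_top_of_card_eq _ (Nat.dvd_antisymm (Subgroup.card_subgroup_dvd_card _) ?_)
    rw [hcardF]
    refine (Nat.dvd_iff_prime_pow_dvd_dvd _ _).2 fun r e hr hre => ?_
    rcases e with _ | e
    · exact one_dvd _
    haveI := Fact.mk hr
    have hrm : r ∣ m := (dvd_pow_self r e.succ_ne_zero).trans hre
    have hrp : r ≠ p := fun h => S.not_dvd_p (h ▸ hrm)
    obtain ⟨R, hR, -⟩ := CfsgLib.Bender.exists_sylowIn_ge (K := D) (P := ⊥)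
      (IsPGroup.of_bot (p := r)) bot_le
    have hle : R.subgroupOf D ≤ N₀ := by
      intro a ha
      obtain ⟨i, hi⟩ := IsPGroup.iff_orderOf.1 hR.isPGroup ⟨(a : X), ha⟩
      rw [← Subgroup.orderOf_coe] at hi
      change orderOf (a : X) = _ at hi
      rw [Subgroup.orderOf_coe] at hi
      rw [MonoidHom.mem_ker, ← orderOf_eq_one_iff]
      have hGal : Nat.card (L.F ≃ₐ[ZMod 2] L.F) = k := IsGalois.card_aut_eq_finrank (ZMod 2) L.F
      refine Nat.eq_one_of_dvd_coprimes (((Nat.coprime_primes hr S.prime).2 hrp).pow_left i)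
        (hi ▸ orderOf_map_dvd L.gal a) ?_
      rw [← hkp, ← hGal]
      exact orderOf_dvd_natCard _
    let ξ : R.subgroupOf D →* L.Fˣ := ψ.comp (Subgroup.inclusion hle)
    have hξ : Function.Injective ξ := by
      refine (injective_iff_map_eq_one ξ).2 fun a ha => ?_
      have hka := hψk _ ha
      obtain ⟨i, hi⟩ := IsPGroup.iff_orderOf.1 hR.isPGroup ⟨((a : D) : X), a.2⟩
      rw [← Subgroup.orderOf_coe] at hi
      change orderOf ((a : D) : X) = _ at hi
      rcases i with _ | i
      · exact Subtype.ext (Subtype.ext (orderOf_eq_one_iff.1 hi))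
      · exfalso
        have hcop := S.coprime_of_fix (a : D).2 S.t_ne (by
          rw [show actE ((a : D) : X) = 1 from MonoidHom.mem_ker.1 hka]; rfl)
        rw [hi] at hcop
        exact hr.not_dvd_one (hcop ▸ Nat.dvd_gcd (dvd_pow_self r i.succ_ne_zero) hrm)
    have h1 : Nat.card (R.subgroupOf D) ∣ Nat.card ψ.range := by
      rw [Nat.card_congr (MonoidHom.ofInjective hξ).toEquiv]
      refine card_dvd_of_le ?_
      rintro _ ⟨a, rfl⟩
      exact ⟨_, rfl⟩
    refine Dvd.dvd.trans ?_ h1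
    rw [Nat.card_congr (Subgroup.subgroupOfEquivOfLe hR.1).toEquiv, hR.2]
    refine pow_dvd_pow r ?_
    have hmD : m ∣ Nat.card D := by
      letI : MulAction D E := MulAction.compHom E (actE.comp D.subtype)
      haveI : Fintype E := Fintype.ofFinite E
      have horb : MulAction.orbit D t = {e : E | e ≠ 1} := by
        ext w
        refine ⟨?_, fun he => ?_⟩
        · rintro ⟨c, rfl⟩ h'
          exact S.t_ne ((actE (c : X)).injective (h'.trans (map_one _).symm))
        · obtain ⟨c, hc', hce⟩ := S.trans w he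
          exact ⟨⟨c, hc'⟩, hce⟩
      have hc := MulAction.index_stabilizer D t
      rw [horb, show ({w : E | w ≠ 1} : Set E) = {1}ᶜ from rfl, Set.ncard_compl,
        Set.ncard_singleton] at hc
      rw [hm, ← hc]; exact Subgroup.index_dvd_card _
    exact (hr.pow_dvd_iff_le_factorization Nat.card_pos.ne').1 (hre.trans hmD)
  obtain ⟨u, hu⟩ := IsCyclic.exists_generator (α := L.Fˣ)
  obtain ⟨a₀, rfl⟩ := hsurj u
  set c₀ := Nat.card ψ.ker with hc₀
  have hcop : c₀.Coprime m := Nat.coprime_of_dvd fun r hr hrc hrm => by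
    haveI := Fact.mk hr
    obtain ⟨z, hz⟩ := exists_prime_orderOf_dvd_card' (G := ψ.ker) r hrc
    have h := S.coprime_of_fix ((z : N₀) : D).2 S.t_ne
      (by rw [MonoidHom.mem_ker.1 (hψk _ z.2)]; rfl)
    rw [Subgroup.orderOf_coe, Subgroup.orderOf_coe, Subgroup.orderOf_coe, hz] at h
    exact hr.not_dvd_one (h ▸ Nat.dvd_gcd dvd_rfl hrm)
  have huo : orderOf (ψ a₀) = m := by
    rw [orderOf_eq_card_of_forall_mem_zpowers hu, hcardF]
  set σ := a₀ ^ c₀ with hσdef
  have hσψ : orderOf (ψ σ) = m := by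
    rw [map_pow, Nat.Coprime.orderOf_pow (huo.symm ▸ hcop.symm), huo]
  have hσm : σ ^ m = 1 := by
    rw [hσdef, ← pow_mul, mul_comm, pow_mul]
    exact congrArg Subtype.val (pow_card_eq_one'
      (x := (⟨a₀ ^ m, by rw [MonoidHom.mem_ker, map_pow, ← huo, pow_orderOf_eq_one]⟩ : ψ.ker)))
  have hσo : orderOf σ = m :=
    Nat.dvd_antisymm (orderOf_dvd_of_pow_eq_one hσm) (hσψ ▸ orderOf_map_dvd ψ σ)
  have hσX : orderOf ((σ : D) : X) = m := by rw [Subgroup.orderOf_coe, Subgroup.orderOf_coe, hσo]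
  have hconjσ : y * (σ : D) * y⁻¹ = (σ : D) ^ 2 := by
    have hgσ : L.gal (σ : D) = 1 := σ.2
    have hmem : y * (σ : D) * y⁻¹ ∈ N₀ := (inferInstance : N₀.Normal).conj_mem _ σ.2 y
    refine S.eq_of_commute_mult L (by rw [map_pow, hgσ, one_pow]) hmem
      (show Commute (y * (σ : D) * y⁻¹) ((σ : D) ^ 2) by
        have h := congrArg Subtype.val (hab ⟨_, hmem⟩ (σ ^ 2))
        exact h)
      (dvd_refl m) ?_ ?_ ?_
    · rw [_root_.conj_pow, show (σ : D) ^ m = 1 from congrArg Subtype.val hσm, mul_one, mul_inv_cancel]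
    · rw [← pow_mul, mul_comm, pow_mul, show (σ : D) ^ m = 1 from congrArg Subtype.val hσm, one_pow]
    · rw [S.mult_conj L y hgσ, hyg, hφ, S.mult_pow_gal L hgσ]
  have hTσ : Twisted actV p p m ((σ : D) : X) (y : X) := by
    refine ⟨S.prime, S.prime, S.expV, S.ntV, hσX, hm2 ▸ dvd_rfl, by have := S.card_four; omega,
      fun z hz hz1 v hv => ?_, ?_, hyp, hfew⟩
    · obtain ⟨r, hr, hrz⟩ := Nat.exists_prime_and_dvd (fun h => hz1 (orderOf_eq_one_iff.1 h))
      have hzm : orderOf z ∣ m := hσX ▸ orderOf_dvd_of_mem_zpowers hz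
      have ho : orderOf (z ^ (orderOf z / r)) = r :=
        orderOf_pow_orderOf_div (orderOf_pos _).ne' hrz
      refine S.freeV _ (pow_mem ((zpowers_le.2 (σ : D).2) hz) _) (ho.symm ▸ hr)
        (ho.symm ▸ hrz.trans hzm) v ?_
      rw [map_pow]
      exact (show actV z ∈ MulAction.stabilizer (MulAut V) v from hv) |> fun h => pow_mem h _
    · have h := congrArg Subtype.val hconjσ
      rw [Subgroup.coe_mul, Subgroup.coe_mul, Subgroup.coe_inv, Subgroup.coe_pow] at h
      exact h
  obtain ⟨l, hl, hmod⟩ := hTσ.exists_modEq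
  have hp3 : 3 ≤ p := by have := S.prime.two_le; have := S.ne_two; omega
  have hpm : p < m := by
    rw [hm2]
    have := Nat.lt_two_pow_self (n := p)
    have h2 : 2 * 2 ^ (p - 1) = 2 ^ p := by rw [← pow_succ', Nat.sub_add_cancel (by omega)]
    have := Nat.lt_two_pow_self (n := p - 1)
    omega
  have hlm : 2 ^ l < m := by
    rw [hm2]
    have h1 : 2 ^ l * 2 ≤ 2 ^ p := by rw [← pow_succ]; exact Nat.pow_le_pow_right two_pos hl
    have : 4 ≤ 2 ^ p := le_trans (by norm_num) (Nat.pow_le_pow_right two_pos (show 2 ≤ p by omega))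
    omega
  have heq := hmod.eq_of_lt_of_lt hpm hlm
  rcases l with _ | l
  · rw [pow_zero] at heq; omega
  · exact S.ne_two ((Nat.prime_dvd_prime_iff_eq Nat.prime_two S.prime).1
      (heq ▸ dvd_pow_self 2 l.succ_ne_zero)).symm

end Data

end CfsgLib.Bender.OddQuot
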