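import Cfsg.Agent.Lib.Bender.OddQuot.Descent

/-!
# A perfect subgroup centralizing the Galois subgroup of prime index

It contains the scalars of degree `q` and a Galois `q`-element moving them.
-/

set_option autoImplicit false
set_option linter.style.haveILetI false
set_option linter.unusedSectionVars false

namespace CfsgLib.Bender.OddQuot

open Subgroup
open scoped commutatorElement
open CfsgLib.Coprime (IsSylowIn)

universe u

variable {X E V : Type u} [Group X] [CommGroup E] [CommGroup V] [Finite X] [Finite E] [Finite V]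
  {p : ℕ} {D : Subgroup X} {actE : X →* MulAut E} {actV : X →* MulAut V} {t : E}

/-- `g` raises the scalars to the power `2 ^ i`. -/
def Frame.Raises (f : Frame D actE t) (g : X) (i : ℕ) : Prop :=
  ∀ n : ℕ, g * (f.σ : X) ^ n * g⁻¹ = (f.σ : X) ^ (n * 2 ^ i)

theorem Frame.Raises.pow {f : Frame D actE t} {g : X} {i : ℕ} (h : f.Raises g i) :
    ∀ j : ℕ, f.Raises (g ^ j) (i * j)
  | 0 => fun n => by simp
  | j + 1 => fun n => by
    rw [pow_succ g j, mul_inv_rev]
    calc g ^ j * g * (f.σ : X) ^ n * (g⁻¹ * (g ^ j)⁻¹)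
        = g ^ j * (g * (f.σ : X) ^ n * g⁻¹) * (g ^ j)⁻¹ := by group
      _ = (f.σ : X) ^ (n * 2 ^ i * 2 ^ (i * j)) := by rw [h n, Frame.Raises.pow h j]
      _ = _ := by rw [mul_assoc, ← pow_add]; ring_nf

theorem Frame.Raises.conj_sub {f : Frame D actE t} {g : X} {i : ℕ} (h : f.Raises g i) (d : ℕ) :
    g * f.sub d * g⁻¹ = f.sub d ^ 2 ^ i := by
  rw [Frame.sub, h, pow_mul]

namespace Data

variable (S : Data p D actE actV t)
include S

theorem mult_pow (f : Frame D actE t) {a : D} (ha : f.L.gal a = 1) :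
    ∀ n : ℕ, f.L.mult (a ^ n) = f.L.mult a ^ n
  | 0 => by rw [pow_zero, pow_zero, S.mult_one]
  | n + 1 => by rw [pow_succ', S.mult_mul ha, mult_pow f ha n, pow_succ']

theorem mult_inj (hX : Even (Nat.card X)) (f : Frame D actE t) {a c : ℕ}
    (h : f.L.mult (f.σ ^ a) = f.L.mult (f.σ ^ c)) : f.σ ^ a = f.σ ^ c := by
  have hpow : ∀ n : ℕ, (f.σ ^ n) ^ (Nat.card E - 1) = 1 := fun n => by
    rw [← pow_mul, mul_comm, pow_mul, ← f.σord, pow_orderOf_eq_one, one_pow]
  exact congrArg Subtype.val (S.eq_of_mult_eq (L := f.L) hX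
    (a := ⟨f.σ ^ a, f.mem_scalarPart a⟩) (c := ⟨f.σ ^ c, f.mem_scalarPart c⟩)
    (Subtype.ext (hpow a)) (Subtype.ext (hpow c)) h)

/-- Elements of `D` in the free closure raise the scalars to powers of two. -/
theorem exists_raises (hX : Even (Nat.card X)) (f : Frame D actE t) {g : X} (hg : g ∈ D)
    (hgY : g ∈ freeClosure D (Nat.card E - 1)) :
    ∃ i : ℕ, f.Raises g i ∧ ∀ x : f.L.F, f.L.gal ⟨g, hg⟩ x = x ^ 2 ^ i := by
  obtain ⟨i, hi⟩ := exists_pow_two (f.L.gal ⟨g, hg⟩)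
  refine ⟨i, fun n => ?_, hi⟩
  obtain ⟨j, hj, hmult⟩ := S.conj_pow hX f (g := ⟨g, hg⟩) hgY n
  have h1 : f.σ ^ j = f.σ ^ (n * 2 ^ i) := S.mult_inj hX f (by
    rw [hmult, hi, pow_mul, S.mult_pow f (f.gal_pow n)])
  have h2 := congrArg Subtype.val (hj.trans h1)
  rw [Subgroup.coe_mul, Subgroup.coe_mul, Subgroup.coe_inv, Subgroup.coe_pow,
    Subgroup.coe_pow] at h2
  exact h2

/-- An element raising to `2 ^ i` commutes with the scalars of prime degree iff the degree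
divides `i`. -/
theorem commute_sub_iff (f : Frame D actE t) {q : ℕ} (hqk : q ∣ f.k) {g : X}
    {i : ℕ} (h : f.Raises g i) : Commute g (f.sub q) ↔ q ∣ i := by
  have ho := S.orderOf_sub f hqk
  have h1 : Commute g (f.sub q) ↔ f.sub q ^ 2 ^ i = f.sub q := by
    rw [← h.conj_sub, mul_inv_eq_iff_eq_mul]
    exact Iff.rfl
  have h2 : f.sub q ^ 2 ^ i = f.sub q ↔ 2 ^ q - 1 ∣ 2 ^ i - 1 := by
    conv_lhs => rhs; rw [← pow_one (f.sub q)]
    rw [pow_eq_pow_iff_modEq, ho]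
    constructor
    · exact fun h => (Nat.modEq_iff_dvd' Nat.one_le_two_pow).1 h.symm
    · exact fun h => ((Nat.modEq_iff_dvd' Nat.one_le_two_pow).2 h).symm
  rw [h1, h2]
  refine ⟨fun hd => ?_, Nat.pow_sub_one_dvd_pow_sub_one 2⟩
  have hg := Nat.pow_sub_one_gcd_pow_sub_one 2 q i
  rw [Nat.gcd_eq_left hd] at hg
  have h3 : q = Nat.gcd q i := by
    refine Nat.pow_right_injective (le_refl 2) ?_
    show 2 ^ q = 2 ^ Nat.gcd q i
    have := Nat.one_le_two_pow (n := q)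
    have := Nat.one_le_two_pow (n := Nat.gcd q i)
    omega
  rw [h3]; exact Nat.gcd_dvd_right _ _

/-- Galois elements realize the Frobenius. -/
theorem exists_frobenius_elt (hX : Even (Nat.card X)) (f : Frame D actE t) :
    ∃ g ∈ galoisPart D actE t, f.Raises g 1 := by
  obtain ⟨φ, hφ⟩ := exists_frobenius (F := f.L.F)
  obtain ⟨g, hg, hgal⟩ := S.exists_galoisPart_gal hX f φ
  refine ⟨g, hg, fun n => ?_⟩
  obtain ⟨j, hj, hmult⟩ := S.conj_pow hX f (g := ⟨g, (mem_galoisPart.1 hg).1⟩)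
    (mem_galoisPart.1 hg).2.1 n
  have h1 : f.σ ^ j = f.σ ^ (n * 2 ^ 1) := S.mult_inj hX f (by
    rw [hmult, hgal, hφ, pow_one, pow_mul, S.mult_pow f (f.gal_pow n)])
  have h2 := congrArg Subtype.val (hj.trans h1)
  rw [Subgroup.coe_mul, Subgroup.coe_mul, Subgroup.coe_inv, Subgroup.coe_pow,
    Subgroup.coe_pow] at h2
  exact h2

/-- The `q`-th power of a Galois element centralizes the scalars of degree `q`. -/
theorem pow_mem_galFix (hX : Even (Nat.card X)) (f : Frame D actE t) {q : ℕ} (hqk : q ∣ f.k)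
    {g : X} (hg : g ∈ galoisPart D actE t) : g ^ q ∈ f.galFix q := by
  obtain ⟨i, hi, -⟩ := S.exists_raises hX f (mem_galoisPart.1 hg).1 (mem_galoisPart.1 hg).2.1
  exact Frame.mem_galFix.2 ⟨pow_mem hg q,
    (S.commute_sub_iff f hqk (hi.pow q)).2 (dvd_mul_left q i)⟩

/-- A power of `σ` centralizing the Galois subgroup of index `q` is a scalar of degree `q`. -/
theorem pow_mem_zpowers_sub (hX : Even (Nat.card X)) (f : Frame D actE t) {q : ℕ}
    (hqk : q ∣ f.k) {n : ℕ} (h : (f.σ : X) ^ n ∈ centralizer (f.galFix q : Set X)) :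
    (f.σ : X) ^ n ∈ zpowers (f.sub q) := by
  obtain ⟨g, hg, hg1⟩ := S.exists_frobenius_elt hX f
  have hc := mem_centralizer_iff.1 h (g ^ q) (S.pow_mem_galFix hX f hqk hg)
  have h1 := (hg1.pow q) n
  rw [hc, mul_inv_cancel_right, one_mul] at h1
  have h2 : orderOf (f.σ : X) ∣ n * 2 ^ q - n :=
    (Nat.modEq_iff_dvd' (Nat.le_mul_of_pos_right n (Nat.two_pow_pos q))).1 (pow_eq_pow_iff_modEq.1 h1)
  rw [Subgroup.orderOf_coe, f.σord] at h2
  set r := (Nat.card E - 1) / (2 ^ q - 1) with hr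
  have hq0 : 0 < q := Nat.pos_of_dvd_of_pos hqk (by have := S.two_le_k f; omega)
  have h21 : 0 < 2 ^ q - 1 := by
    have : 2 ≤ 2 ^ q := le_trans (by norm_num) (Nat.pow_le_pow_right two_pos hq0)
    omega
  have h3 : r * (2 ^ q - 1) ∣ n * (2 ^ q - 1) := by
    rw [hr, Nat.div_mul_cancel (f.dvd_card_sub hqk), Nat.mul_sub, mul_one]
    exact h2
  obtain ⟨c, hc'⟩ := Nat.dvd_of_mul_dvd_mul_right h21 h3
  refine mem_zpowers_iff.2 ⟨(c : ℤ), ?_⟩
  rw [zpow_natCast, Frame.sub, ← pow_mul, hc']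

/-- A perfect normal subgroup of the centralizer, with a Galois element moving the scalars of
degree `q`. -/
theorem exists_perfect (hX : Even (Nat.card X)) (f : Frame D actE t) {q : ℕ} (hq : q.Prime)
    (hqk : q ∣ f.k) :
    ∃ M : Subgroup X, M ≤ centralizer (f.galFix q : Set X) ⊓ freeClosure D (Nat.card E - 1) ∧
      centralizer (f.galFix q : Set X) ⊓ freeClosure D (Nat.card E - 1) ≤ normalizer (M : Set X) ∧
      Even (Nat.card M) ∧ f.sub q ∈ M ∧ ⁅M, M⁆ = M ∧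
      ∃ x ∈ M, x ∈ galoisPart D actE t ∧ ¬ Commute x (f.sub q) ∧ ∃ e, orderOf x = q ^ e := by
  classical
  set Y := freeClosure D (Nat.card E - 1) with hY
  set C := centralizer (f.galFix q : Set X) ⊓ Y with hC
  have hfC : f.sub q ∈ C := ⟨mem_centralizer_iff.2 fun g hg => (Frame.mem_galFix.1 hg).2.eq,
    f.sub_mem_closure q⟩
  obtain ⟨M, ⟨hMC, hMn, hMe, hfM⟩, hmin⟩ := (Set.toFinite {M : Subgroup X | M ≤ C ∧
    C ≤ normalizer (M : Set X) ∧ Even (Nat.card M) ∧ f.sub q ∈ M}).exists_minimal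
      ⟨C, le_rfl, le_normalizer, S.even_centralizer hX f hq hqk, hfC⟩
  obtain ⟨g, j, hgj, hg, hgp, hgm, -⟩ := S.exists_free_sub f hqk hq.two_le
  have hgM : g ∈ M := hgj ▸ pow_mem hfM j
  obtain ⟨y, hy, hyD, hne⟩ := S.exists_move hg hgp hgm hgM hMe
  have hnef : ¬ Commute y (f.sub q) := fun h => hne (hgj ▸ h.pow_right j)
  obtain ⟨i, hi, -⟩ := S.exists_raises hX f hyD (hMC hy).2
  have hqi : ¬ q ∣ i := fun h => hnef ((S.commute_sub_iff f hqk hi).2 h)
  -- the scalars of degree `q` are commutators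
  have hmem : f.sub q ∈ ⁅M, M⁆ := by
    have hc : ⁅y, f.sub q⁆ ∈ ⁅M, M⁆ := commutator_mem_commutator hy hfM
    rw [commutatorElement_def, hi.conj_sub] at hc
    have hc' : f.sub q ^ (2 ^ i - 1) ∈ ⁅M, M⁆ := by
      have : f.sub q ^ (2 ^ i - 1) = f.sub q ^ 2 ^ i * (f.sub q)⁻¹ := by
        rw [eq_mul_inv_iff_mul_eq, ← pow_succ, Nat.sub_add_cancel Nat.one_le_two_pow]
      rwa [this]
    have hcop : (2 ^ i - 1).Coprime (orderOf (f.sub q)) := by
      rw [S.orderOf_sub f hqk]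
      show Nat.gcd _ _ = 1
      rw [Nat.gcd_comm, Nat.pow_sub_one_gcd_pow_sub_one,
        (hq.coprime_iff_not_dvd.2 hqi).gcd_eq_one]
      rfl
    obtain ⟨m, hm⟩ := exists_pow_eq_self_of_coprime hcop
    rw [← hm]
    exact pow_mem hc' m
  have hnorm : ∀ c ∈ normalizer (M : Set X), c ∈ normalizer ((⁅M, M⁆ : Subgroup X) : Set X) := by
    intro c hc
    rw [← CfsgLib.Coprime.conjBy_eq_self_iff, CfsgLib.Coprime.conjBy, map_commutator]
    have h := CfsgLib.Coprime.conjBy_eq_self_iff.2 hc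
    rw [CfsgLib.Coprime.conjBy] at h
    rw [h]
  have hMM : ⁅M, M⁆ ≤ M := commutator_le.2 fun a ha c hc => by
    rw [commutatorElement_def]
    exact mul_mem (mul_mem (mul_mem ha hc) (inv_mem ha)) (inv_mem hc)
  have hperf : ⁅M, M⁆ = M := by
    refine le_antisymm hMM (hmin ⟨hMM.trans hMC, hMn.trans hnorm, ?_, hmem⟩ hMM)
    exact S.even_of_normal hg hgp hgm (hgj ▸ pow_mem hmem j) hMM
      (le_normalizer.trans hnorm) hMe
  refine ⟨M, hMC, hMn, hMe, hfM, hperf, ?_⟩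
  -- the Galois part of the moving element
  obtain ⟨n, c, hc, hyc⟩ := S.exists_decomp f hyD (hMC hy).2
  subst hyc
  have hn : (f.σ : X) ^ n ∈ centralizer (f.galFix q : Set X) := by
    rw [← mul_inv_cancel_right ((f.σ : X) ^ n) c]
    exact (centralizer (f.galFix q : Set X)).mul_mem (hMC hy).1
      ((centralizer (f.galFix q : Set X)).inv_mem (mem_centralizer_iff.2 fun z hz =>
        S.galoisPart_comm hX (Frame.mem_galFix.1 hz).1 hc))
  have hnM : (f.σ : X) ^ n ∈ M := (zpowers_le.2 hfM) (S.pow_mem_zpowers_sub hX f hqk hn)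
  have hcM : c ∈ M := by simpa using mul_mem (inv_mem hnM) hy
  obtain ⟨r, hr, -⟩ := S.exists_raises hX f (mem_galoisPart.1 hc).1 (mem_galoisPart.1 hc).2.1
  have hqr : ¬ q ∣ r := fun h => hnef ((Commute.pow_left (by
    rw [Frame.sub]; exact (Commute.refl _).pow_right _) n).mul_left
      ((S.commute_sub_iff f hqk hr).2 h))
  obtain ⟨e, o, ho, heo⟩ := Nat.exists_eq_pow_mul_and_not_dvd (orderOf_pos c).ne' q hq.ne_one
  refine ⟨c ^ o, pow_mem hcM o, pow_mem hc o, fun h => ?_, e, ?_⟩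
  · rcases hq.dvd_mul.1 ((S.commute_sub_iff f hqk (hr.pow o)).1 h) with h' | h'
    · exact hqr h'
    · exact ho h'
  · rw [orderOf_pow, heo, Nat.gcd_eq_right (Dvd.intro_left _ rfl),
      Nat.mul_div_cancel _ (Nat.pos_of_ne_zero fun h => ho (by rw [h]; exact dvd_zero q))]

end Data

end CfsgLib.Bender.OddQuot
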