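import Cfsg.Agent.Lib.Bender.OddQuot.Kernel
import Mathlib.GroupTheory.Transfer

/-!
# When `X` is even, `D` contains all scalars

`freeClosure`: the normal closure of the elements of `D` of prime order dividing `|E| - 1`.
-/

set_option autoImplicit false
set_option linter.style.haveILetI false
set_option linter.unusedSectionVars false

namespace CfsgLib.Bender.OddQuot

open Subgroup
open scoped Pointwise
open CfsgLib.Coprime (IsSylowIn)

universe u

variable {X : Type u} [Group X]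

/-- The normal closure of the elements of `D` of prime order dividing `m`. -/
def freeClosure (D : Subgroup X) (m : ℕ) : Subgroup X :=
  normalClosure {g : X | g ∈ D ∧ (orderOf g).Prime ∧ orderOf g ∣ m}

instance (D : Subgroup X) (m : ℕ) : (freeClosure D m).Normal := normalClosure_normal

variable {E V : Type u} [CommGroup E] [CommGroup V] [Finite X] [Finite E] [Finite V]
  {p : ℕ} {D : Subgroup X} {actE : X →* MulAut E} {actV : X →* MulAut V} {t : E}

theorem mem_freeClosure {f : X} (hf : f ∈ D) (hfp : (orderOf f).Prime) {m : ℕ}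
    (hfm : orderOf f ∣ m) : f ∈ freeClosure D m :=
  subset_normalClosure ⟨hf, hfp, hfm⟩

namespace Data

variable (S : Data p D actE actV t)
include S

theorem exists_semilin : Nonempty (Semilin (actE.comp D.subtype) t) :=
  CfsgLib.Bender.OddQuot.exists_semilin S.oddD S.expE _ S.t_ne fun e he => by
    obtain ⟨d, hd, hde⟩ := S.trans e he
    exact ⟨⟨d, hd⟩, hde⟩

/-- A normal even subgroup containing a free element of order `s` induces a fixed point free power
map on the Sylow `s`-subgroup of `D`. -/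
theorem exists_auto {s : ℕ} (hs : s.Prime) (hsm : s ∣ Nat.card E - 1) {R : Subgroup X}
    (hR : IsSylowIn s R D) (Y : Subgroup X) [hY : Y.Normal] (hYe : Even (Nat.card Y)) :
    ∃ y ∈ Y, y ∈ D ∧ ∀ r ∈ R, ∃ r' ∈ R, r = y * r' * y⁻¹ * r'⁻¹ := by
  classical
  haveI := Fact.mk hs
  obtain ⟨hRtop, hcyc⟩ := S.sylow s R hs hsm hR
  haveI := hcyc
  obtain ⟨g₀, hg₀⟩ := hcyc.exists_generator
  have hgen : ∀ r ∈ R, ∃ j : ℤ, r = (g₀ : X) ^ j := fun r hr => by
    obtain ⟨j, hj⟩ := mem_zpowers_iff.1 (hg₀ ⟨r, hr⟩)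
    exact ⟨j, (congrArg Subtype.val hj).symm⟩
  -- a free element of `R`
  obtain ⟨f, hfR, hfo⟩ : ∃ f ∈ R, orderOf f = s := by
    obtain ⟨f₁, hf₁, hf₁o⟩ := S.exists_free hs hsm
    obtain ⟨k, hk, hkR⟩ := CfsgLib.Bender.exists_conjBy_le (Q := zpowers f₁) (L := D)
      (IsPGroup.of_card (n := 1) (by rw [Nat.card_zpowers, hf₁o, pow_one])) (zpowers_le.2 hf₁) hR
    refine ⟨k * f₁ * k⁻¹, hkR ⟨_, mem_zpowers _, rfl⟩, ?_⟩
    rw [show k * f₁ * k⁻¹ = MulAut.conj k f₁ from rfl, MulEquiv.orderOf_eq, hf₁o]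
  have hfp : (orderOf f).Prime := hfo.symm ▸ hs
  have hfm : orderOf f ∣ Nat.card E - 1 := hfo.symm ▸ hsm
  set M := Y ⊔ R with hMdef
  have hMe : Even (Nat.card M) :=
    hYe.trans_dvd (card_dvd_of_le le_sup_left)
  have hRM : R ≤ M := le_sup_right
  obtain ⟨P, hP⟩ : ∃ P : Sylow s M, (P : Subgroup M) = R.subgroupOf M := by
    have hp : IsPGroup s (R.subgroupOf M) := hR.isPGroup.comap_subtype
    obtain ⟨P, hle⟩ := hp.exists_le_sylow
    refine ⟨P, (eq_of_le_of_card_ge hle ?_).symm⟩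
    rw [Nat.card_congr (subgroupOfEquivOfLe hRM).toEquiv, hRtop.2,
      ← card_map_of_injective M.subtype_injective]
    obtain ⟨j, hj⟩ := IsPGroup.iff_card.1 (P.2.map M.subtype)
    rw [hj]
    have h1 : Nat.card ((P : Subgroup M).map M.subtype) ∣ Nat.card (⊤ : Subgroup X) :=
      card_dvd_of_le le_top
    rw [hj] at h1
    exact Nat.pow_le_pow_right hs.pos ((hs.pow_dvd_iff_le_factorization Nat.card_pos.ne').1 h1)
  have hnot : ¬ normalizer ((P : Subgroup M) : Set M) ≤ centralizer ((P : Subgroup M) : Set M) := by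
    intro hNC
    set K := (MonoidHom.transferSylow P hNC).ker with hK
    have hcompl := MonoidHom.ker_transferSylow_isComplement' P hNC
    have hsK : ¬ s ∣ Nat.card (K.map M.subtype) := by
      rw [card_map_of_injective M.subtype_injective]
      exact MonoidHom.not_dvd_card_ker_transferSylow P hNC
    have hfN : f ∈ normalizer ((K.map M.subtype : Subgroup X) : Set X) :=
      CfsgLib.Coprime.BenderPair.le_normalizer_map_subtype M K (hRM hfR)
    have hKodd := S.odd_of_normalized (hR.1 hfR) hfp hfm hfN (hfo.symm ▸ hsK)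
    rw [card_map_of_injective M.subtype_injective] at hKodd
    have hPodd : Odd (Nat.card (P : Subgroup M)) := by
      obtain ⟨j, hj⟩ := IsPGroup.iff_card.1 P.2
      rw [hj]
      exact (hs.odd_of_ne_two (S.two_lt_prime_of_dvd hs hsm)).pow
    refine Nat.not_even_iff_odd.2 (hKodd.mul hPodd) ?_
    rw [hK, hcompl.card_mul]
    exact hMe
  obtain ⟨g, hgN, hgC⟩ := SetLike.not_le_iff_exists.1 hnot
  -- its part in `Y`
  have hgM : (g : X) ∈ (Y : Set X) * (R : Set X) := by
    rw [← Subgroup.normal_mul Y R]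
    exact g.2
  obtain ⟨y, hy, r₁, hr₁, hyr⟩ := hgM
  have hgN' : ∀ r : X, r ∈ R ↔ (g : X) * r * (g : X)⁻¹ ∈ R := by
    intro r
    by_cases hrM : r ∈ M
    · have := mem_normalizer_iff.1 hgN ⟨r, hrM⟩
      rwa [hP] at this
    · exact ⟨fun h => absurd (hRM h) hrM, fun h => absurd (by
        have := M.mul_mem (M.mul_mem (M.inv_mem g.2) (hRM h)) g.2
        simpa [mul_assoc] using this) hrM⟩
  have hyN : y ∈ normalizer (R : Set X) := by
    have : y = (g : X) * r₁⁻¹ := eq_mul_inv_of_mul_eq hyr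
    rw [this]
    exact mul_mem (mem_normalizer_iff.2 hgN') (le_normalizer (R.inv_mem hr₁))
  have hy1 : ∃ r ∈ R, y * r ≠ r * y := by
    by_contra h
    push Not at h
    refine hgC (mem_centralizer_iff.2 fun a ha => Subtype.ext ?_)
    have ha' : (a : X) ∈ R := by rw [hP] at ha; exact ha
    haveI : IsMulCommutative R := hcyc.isMulCommutative
    show (a : X) * (g : X) = (g : X) * a
    rw [← hyr]
    calc (a : X) * (y * r₁) = (a * y) * r₁ := by group
      _ = y * (a * r₁) := by rw [← h a ha', mul_assoc]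
      _ = y * r₁ * a := by
        rw [show (a : X) * r₁ = r₁ * a from congrArg Subtype.val (mul_comm' (⟨a, ha'⟩ : R) ⟨r₁, hr₁⟩),
          mul_assoc]
  obtain ⟨i, hi⟩ := hgen _ ((mem_normalizer_iff.1 hyN g₀).1 g₀.2)
  have hyD : y ∈ D := by
    refine S.normalizer_le f (hR.1 hfR) hfp hfm ?_
    rw [← CfsgLib.Coprime.conjBy_eq_self_iff, CfsgLib.Coprime.conjBy, MonoidHom.map_zpowers]
    obtain ⟨j, hj⟩ := hgen f hfR
    have h1 : (MulAut.conj y).toMonoidHom f = f ^ i := by
      show y * f * y⁻¹ = f ^ i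
      rw [hj, ← conj_zpow, hi, ← zpow_mul, ← zpow_mul, mul_comm]
    rw [h1]
    refine eq_of_le_of_card_ge (zpowers_le.2 (zpow_mem (mem_zpowers f) i)) ?_
    rw [Nat.card_zpowers, Nat.card_zpowers, ← h1,
      show (MulAut.conj y).toMonoidHom f = MulAut.conj y f from rfl, MulEquiv.orderOf_eq]
  have hpow : ∀ (n : ℕ), y ^ n * (g₀ : X) * (y ^ n)⁻¹ = (g₀ : X) ^ (i ^ n) := by
    intro n
    induction n with
    | zero => simp
    | succ n ih =>
      rw [pow_succ' y n, mul_inv_rev]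
      calc y * y ^ n * (g₀ : X) * ((y ^ n)⁻¹ * y⁻¹) = y * (y ^ n * g₀ * (y ^ n)⁻¹) * y⁻¹ := by group
        _ = (g₀ : X) ^ (i ^ (n + 1)) := by rw [ih, ← conj_zpow, hi, ← zpow_mul, pow_succ']
  -- the power is not congruent to one
  have hi1 : ¬ (s : ℤ) ∣ i - 1 := by
    intro hdvd
    obtain ⟨r, hr, hry⟩ := hy1
    refine hry ?_
    obtain ⟨a, c, hc, hac⟩ := Nat.exists_eq_pow_mul_and_not_dvd (orderOf_pos y).ne' s hs.ne_one
    obtain ⟨e, he⟩ := IsPGroup.iff_orderOf.1 hR.isPGroup g₀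
    rw [← Subgroup.orderOf_coe] at he
    have hcong : ∀ n : ℕ, (s : ℤ) ^ (n + 1) ∣ i ^ (s ^ n) - 1 := fun n => by
      simpa using dvd_sub_pow_of_dvd_sub (a := i) (b := (1 : ℤ)) hdvd n
    have hkill1 : y ^ (s ^ e) * (g₀ : X) * (y ^ (s ^ e))⁻¹ = g₀ := by
      rw [hpow]
      have h1 : (orderOf (g₀ : X) : ℤ) ∣ i ^ (s ^ e) - 1 := by
        rw [he]; push_cast
        exact (pow_dvd_pow _ e.le_succ).trans (hcong e)
      rw [orderOf_dvd_iff_zpow_eq_one, zpow_sub_one, mul_inv_eq_one] at h1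
      exact h1
    have hkill2 : y ^ c * (g₀ : X) * (y ^ c)⁻¹ = g₀ := by
      have hz : IsPGroup s (zpowers (y ^ c)) := by
        refine IsPGroup.of_card (n := a) ?_
        rw [Nat.card_zpowers, orderOf_pow, hac, Nat.gcd_eq_right (Dvd.intro_left _ rfl),
          Nat.mul_div_cancel _ (Nat.pos_of_ne_zero fun h => hc (by rw [h]; exact dvd_zero s))]
      have hzN : zpowers (y ^ c) ≤ normalizer (R : Set X) := zpowers_le.2 (pow_mem hyN c)
      have hsup : R = zpowers (y ^ c) ⊔ R := CfsgLib.Bender.sylowIn_eq_of_le hRtop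
        (hz.to_sup_of_normal_right' hR.isPGroup hzN) le_top le_sup_right
      have hmem : y ^ c ∈ R := hsup ▸ mem_sup_left (mem_zpowers _)
      haveI : IsMulCommutative R := hcyc.isMulCommutative
      rw [show y ^ c * (g₀ : X) = g₀ * y ^ c from
        congrArg Subtype.val (mul_comm' (⟨y ^ c, hmem⟩ : R) g₀), mul_inv_cancel_right]
    have hcomm : Commute y (g₀ : X) := by
      have h1 : Commute (y ^ (s ^ e)) (g₀ : X) := mul_inv_eq_iff_eq_mul.1 hkill1
      have h2 : Commute (y ^ c) (g₀ : X) := mul_inv_eq_iff_eq_mul.1 hkill2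
      have hg : Nat.gcd (s ^ e) c = 1 := ((hs.coprime_iff_not_dvd.2 hc).pow_left e).gcd_eq_one
      have hb := Nat.gcd_eq_gcd_ab (s ^ e) c
      rw [hg] at hb
      rw [show y = (y ^ (s ^ e)) ^ Nat.gcdA (s ^ e) c * (y ^ c) ^ Nat.gcdB (s ^ e) c by
        rw [← zpow_natCast y (s ^ e), ← zpow_natCast y c, ← zpow_mul, ← zpow_mul, ← zpow_add, ← hb,
          Nat.cast_one, zpow_one]]
      exact (h1.zpow_left _).mul_left (h2.zpow_left _)
    obtain ⟨j, rfl⟩ := hgen r hr
    exact (hcomm.zpow_right j).eq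
  refine ⟨y, hy, hyD, fun r hr => ?_⟩
  obtain ⟨j, rfl⟩ := hgen r hr
  obtain ⟨e, he⟩ := IsPGroup.iff_orderOf.1 hR.isPGroup g₀
  rw [← Subgroup.orderOf_coe] at he
  obtain ⟨u, v, huv⟩ := ((Prime.coprime_iff_not_dvd (Nat.prime_iff_prime_int.1 hs)).2 hi1).pow_left
    (m := e)
  refine ⟨(g₀ : X) ^ (j * v), zpow_mem g₀.2 _, ?_⟩
  rw [← conj_zpow, hi, ← zpow_mul, ← zpow_neg, ← zpow_add]
  have h1 : (g₀ : X) ^ ((s : ℤ) ^ e) = 1 := by
    rw [← orderOf_dvd_iff_zpow_eq_one, he]; push_cast; exact dvd_rfl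
  calc (g₀ : X) ^ j = (g₀ : X) ^ (j * (u * (s : ℤ) ^ e + v * (i - 1))) := by rw [huv, mul_one]
    _ = ((g₀ : X) ^ ((s : ℤ) ^ e)) ^ (j * u) * (g₀ : X) ^ (i * (j * v) + -(j * v)) := by
      rw [← zpow_mul, ← zpow_add]
      congr 1
      ring
    _ = _ := by rw [h1, one_zpow, one_mul]

end Data

end CfsgLib.Bender.OddQuot
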