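import Cfsg.Agent.Lib.Bender.OddQuot.Scalars

/-!
# A generator of the scalars inside the normal closure

For even `X`: `σ` of order `|E| - 1` in `D ∩ Y` acting as a scalar.
-/

set_option autoImplicit false
set_option linter.style.haveILetI false
set_option linter.unusedSectionVars false

namespace CfsgLib.Bender.OddQuot

open Subgroup
open CfsgLib.Coprime (IsSylowIn)

universe u

variable {X E V : Type u} [Group X] [CommGroup E] [CommGroup V] [Finite X] [Finite E] [Finite V]
  {p : ℕ} {D : Subgroup X} {actE : X →* MulAut E} {actV : X →* MulAut V} {t : E}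

/-- The part of the free closure in `D` acting by scalars. -/
noncomputable def scalarPart (L : Semilin (actE.comp D.subtype) t) : Subgroup D :=
  L.gal.ker ⊓ (freeClosure D (Nat.card E - 1)).subgroupOf D

/-- The part of the free closure in `D` fixing `t`. -/
noncomputable def galoisPart (D : Subgroup X) (actE : X →* MulAut E) (t : E) : Subgroup X :=
  D ⊓ freeClosure D (Nat.card E - 1) ⊓ (MulAction.stabilizer (MulAut E) t).comap actE

theorem mem_galoisPart {d : X} : d ∈ galoisPart D actE t ↔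
    d ∈ D ∧ d ∈ freeClosure D (Nat.card E - 1) ∧ actE d t = t := by
  rw [galoisPart, mem_inf, mem_inf, and_assoc]
  rfl

namespace Data

variable (S : Data p D actE actV t) (L : Semilin (actE.comp D.subtype) t)
include S

/-- The normal closure centralizes the kernel. -/
theorem closure_le_centralizer :
    freeClosure D (Nat.card E - 1) ≤ centralizer (actE.ker : Set X) := by
  haveI : (centralizer (actE.ker : Set X)).Normal := Subgroup.normal_centralizer
  exact normalClosure_le_normal fun f hf =>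
    mem_centralizer_iff.2 fun k hk => (S.commute_ker hf.1 hf.2.1 hf.2.2 hk).eq

theorem freeClosure_even (hX : Even (Nat.card X)) : Even (Nat.card (freeClosure D (Nat.card E - 1))) := by
  set Y := freeClosure D (Nat.card E - 1) with hY
  by_contra hodd
  rw [Nat.not_even_iff_odd] at hodd
  obtain ⟨s, hs, hsm⟩ := S.exists_prime_dvd
  haveI := Fact.mk hs
  obtain ⟨f, hf, hfo⟩ := S.exists_free hs hsm
  have hfY : f ∈ Y := mem_freeClosure hf (hfo.symm ▸ hs) (hfo.symm ▸ hsm)
  -- Frattini
  obtain ⟨P, hP⟩ := (IsPGroup.of_card (p := s) (n := 1)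
    (show Nat.card (zpowers (⟨f, hfY⟩ : Y)) = s ^ 1 by
      rw [Nat.card_zpowers, ← Subgroup.orderOf_coe, pow_one]; exact hfo)).exists_le_sylow
  have hfr : normalizer ((((P : Subgroup Y).map Y.subtype : Subgroup X) : Set X)) ⊔ Y = ⊤ :=
    Sylow.normalizer_sup_eq_top P
  have hN : normalizer (((P : Subgroup Y).map Y.subtype : Subgroup X) : Set X) ≤ D := by
    set Q := (P : Subgroup Y).map Y.subtype with hQ
    have hfQ : f ∈ Q := ⟨_, hP (mem_zpowers _), rfl⟩
    have hQcyc : IsCyclic Q := by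
      obtain ⟨R, hR, -⟩ := CfsgLib.Bender.exists_sylowIn_ge (K := D) (P := zpowers f)
        (IsPGroup.of_card (n := 1) (by rw [Nat.card_zpowers, hfo, pow_one])) (zpowers_le.2 hf)
      obtain ⟨hRtop, hcyc⟩ := S.sylow s R hs hsm hR
      obtain ⟨g, -, hg⟩ := CfsgLib.Bender.exists_conjBy_le (Q := Q) (L := ⊤)
        (P.2.map Y.subtype) le_top hRtop
      haveI := hcyc
      exact isCyclic_of_injective ((Subgroup.inclusion hg).comp
        ((MulAut.conj g).toMonoidHom.subgroupMap Q)) (fun a c h => by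
          have := congrArg Subtype.val (Subgroup.inclusion_injective hg h)
          exact Subtype.ext ((MulAut.conj g).injective this))
    intro k hk
    refine S.normalizer_le f hf (hfo.symm ▸ hs) (hfo.symm ▸ hsm) ?_
    obtain ⟨g₀, hg₀⟩ := hQcyc.exists_generator
    obtain ⟨i, hi⟩ := mem_zpowers_iff.1 (hg₀ ⟨k * g₀ * k⁻¹, (mem_normalizer_iff.1 hk _).1 g₀.2⟩)
    obtain ⟨j, hj⟩ := mem_zpowers_iff.1 (hg₀ ⟨f, hfQ⟩)
    have hi' : (g₀ : X) ^ i = k * g₀ * k⁻¹ := congrArg Subtype.val hi
    have hj' : (g₀ : X) ^ j = f := congrArg Subtype.val hj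
    have h1 : k * f * k⁻¹ = f ^ i := by
      rw [← hj', ← conj_zpow, ← hi', ← zpow_mul, ← zpow_mul, mul_comm]
    rw [← CfsgLib.Coprime.conjBy_eq_self_iff, CfsgLib.Coprime.conjBy, MonoidHom.map_zpowers]
    refine eq_of_le_of_card_ge (zpowers_le.2 ?_) ?_
    · show k * f * k⁻¹ ∈ zpowers f
      rw [h1]; exact zpow_mem (mem_zpowers f) i
    · rw [Nat.card_zpowers, Nat.card_zpowers]
      exact (MulAut.conj k).orderOf_eq f |>.ge
  refine Nat.not_even_iff_odd.2 ((S.oddD.mul hodd).of_dvd_nat ?_) hX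
  rw [← Subgroup.card_top (G := X), ← hfr]
  refine (CfsgLib.Coprime.card_sup_dvd_of_le_normalizer ?_).trans
    (Nat.mul_dvd_mul (card_dvd_of_le hN) dvd_rfl)
  exact le_top.trans (Subgroup.normalizer_eq_top (freeClosure D (Nat.card E - 1))).ge

variable {L}

theorem gal_eq_one_of_free {g : X} (hg : g ∈ D) (hgp : (orderOf g).Prime)
    (hgm : orderOf g ∣ Nat.card E - 1) : L.gal ⟨g, hg⟩ = 1 := by
  by_contra hne
  have hord : orderOf (L.gal ⟨g, hg⟩) = orderOf g := by
    rcases (Nat.dvd_prime hgp).1 ((orderOf_map_dvd L.gal ⟨g, hg⟩).trans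
      (by rw [← Subgroup.orderOf_coe])) with h | h
    · exact absurd (orderOf_eq_one_iff.1 h) hne
    · exact h
  obtain ⟨v, hv1, hv⟩ := L.exists_fixed S.t_ne ⟨g, hg⟩ (by
    rw [hord]
    rw [show (⟨g, hg⟩ : D) ^ orderOf g = 1 from Subtype.ext (pow_orderOf_eq_one g), map_one])
  exact hv1 (S.freeE g hg hgp hgm v hv)

variable (hX : Even (Nat.card X))
include hX

theorem sylow_le_scalarPart {s : ℕ} (hs : s.Prime) (hsm : s ∣ Nat.card E - 1) {R : Subgroup X}
    (hR : IsSylowIn s R D) : R.subgroupOf D ≤ scalarPart L := by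
  obtain ⟨y, hy, hyD, h⟩ := S.exists_auto hs hsm hR (freeClosure D (Nat.card E - 1))
    (S.freeClosure_even hX)
  intro r hr
  obtain ⟨r', hr', he⟩ := h r hr
  refine ⟨?_, ?_⟩
  · have e : r = (⟨y, hyD⟩ : D) * ⟨r', hR.1 hr'⟩ * (⟨y, hyD⟩ : D)⁻¹ * (⟨r', hR.1 hr'⟩ : D)⁻¹ :=
      Subtype.ext he
    show L.gal r = 1
    rw [e, map_mul, map_mul, map_mul, map_inv, map_inv]
    have hc : ∀ a c : (L.F ≃ₐ[ZMod 2] L.F), a * c = c * a := fun a c => by
      letI : CommGroup (L.F ≃ₐ[ZMod 2] L.F) := IsCyclic.commGroup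
      exact mul_comm a c
    rw [hc (L.gal _) (L.gal _), mul_inv_cancel_right, mul_inv_cancel]
  · show (r : X) ∈ freeClosure D (Nat.card E - 1)
    rw [he, mul_assoc, mul_assoc]
    refine mul_mem hy ?_
    rw [← mul_assoc]
    exact (inferInstance : (freeClosure D (Nat.card E - 1)).Normal).conj_mem _ (inv_mem hy) r'

omit hX in
/-- The multiplier is multiplicative on scalars. -/
theorem mult_mul {a c : D} (ha : L.gal a = 1) : L.mult (a * c) = L.mult a * L.mult c := by
  rw [L.mult_eq, map_mul, MulAut.mul_apply, L.apply, ha, AlgEquiv.one_apply, ← L.mult_eq]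

omit hX in
theorem mult_one : L.mult (1 : D) = 1 := by rw [L.mult_eq, map_one, MulAut.one_apply, L.et]

omit hX in
theorem mem_ker_of_mult {a : D} (ha : L.gal a = 1) (hm : L.mult a = 1) : (a : X) ∈ actE.ker := by
  refine MonoidHom.mem_ker.2 (L.act_eq_one ?_ ha)
  refine congrArg Additive.toMul (L.e.injective (a₁ := Additive.ofMul (actE (a : X) t))
    (a₂ := Additive.ofMul t) ?_)
  show L.e (Additive.ofMul ((actE.comp D.subtype) a t)) = _
  rw [← L.mult_eq, hm, L.et]

/-- The multiplier on the scalar part, as a homomorphism into the units. -/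
theorem exists_multHom : ∃ φ : scalarPart L →* L.Fˣ, (∀ a : scalarPart L, (φ a : L.F) = L.mult (a : D)) ∧
    (∀ a : scalarPart L, φ a = 1 → ((a : D) : X) ∈ actE.ker) := by
  refine ⟨{ toFun := fun a => Units.mk0 (L.mult (a : D)) (L.mult_ne_zero S.t_ne _)
            map_one' := Units.ext S.mult_one
            map_mul' := fun a c => Units.ext (S.mult_mul a.2.1) }, fun a => rfl, fun a ha => ?_⟩
  exact S.mem_ker_of_mult a.2.1 (congrArg Units.val ha)

theorem scalarPart_comm (a c : scalarPart L) : a * c = c * a := by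
  obtain ⟨φ, -, hker⟩ := S.exists_multHom (L := L) hX
  refine commutative_of_cyclic_center_quotient φ (fun z hz => mem_center_iff.2 fun w => ?_) a c
  refine Subtype.ext (Subtype.ext ?_)
  exact ((mem_centralizer_iff.1 (S.closure_le_centralizer w.2.2)) _ (hker z hz)).symm

/-- A scalar of order dividing `|E| - 1` in the normal closure is determined by its multiplier. -/
theorem eq_of_mult_eq {a c : scalarPart L} (ha : a ^ (Nat.card E - 1) = 1)
    (hc : c ^ (Nat.card E - 1) = 1) (h : L.mult (a : D) = L.mult (c : D)) : a = c := by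
  obtain ⟨φ, hφ, hker⟩ := S.exists_multHom (L := L) hX
  have hk : φ (a * c⁻¹) = 1 := by
    rw [map_mul, map_inv, mul_inv_eq_one]
    exact Units.ext (by rw [hφ, hφ, h])
  set d := a * c⁻¹ with hd
  have hpow : d ^ (Nat.card E - 1) = 1 := by
    rw [hd, Commute.mul_pow (S.scalarPart_comm hX a c⁻¹), inv_pow, ha, hc, inv_one, mul_one]
  have hcop := S.coprime_of_fix (d : D).2 S.t_ne
    (by rw [MonoidHom.mem_ker.1 (hker d hk)]; rfl)
  have h1 : d = 1 := by
    rw [← orderOf_eq_one_iff]
    refine Nat.eq_one_of_dvd_coprimes hcop ?_ (orderOf_dvd_of_pow_eq_one hpow)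
    rw [Subgroup.orderOf_coe, Subgroup.orderOf_coe]
  rw [hd, mul_inv_eq_one] at h1
  exact h1

/-- A scalar of order `|E| - 1` in the normal closure whose multiplier generates. -/
theorem exists_sigma : ∃ σ : scalarPart L, orderOf σ = Nat.card E - 1 ∧
    ∀ x : L.F, x ≠ 0 → ∃ i : ℕ, L.mult ((σ : D) ^ i) = x := by
  classical
  obtain ⟨φ, hφ, hker⟩ := S.exists_multHom (L := L) hX
  have hm0 : 0 < Nat.card E - 1 := by have := S.card_four; omega
  have hcardF : Nat.card L.Fˣ = Nat.card E - 1 := by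
    rw [Nat.card_units, Nat.card_congr (Additive.ofMul.trans L.e.toEquiv)]
  -- the multiplier is onto
  have hsurj : Function.Surjective φ := by
    rw [← MonoidHom.range_eq_top]
    refine eq_top_of_card_eq _ (Nat.dvd_antisymm (Subgroup.card_subgroup_dvd_card _) ?_)
    rw [hcardF]
    refine (Nat.dvd_iff_prime_pow_dvd_dvd _ _).2 fun s e hs hd => ?_
    rcases e with _ | e
    · exact one_dvd _
    haveI := Fact.mk hs
    have hsm : s ∣ Nat.card E - 1 := (dvd_pow_self s e.succ_ne_zero).trans hd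
    obtain ⟨R, hR, -⟩ := CfsgLib.Bender.exists_sylowIn_ge (K := D) (P := ⊥)
      (IsPGroup.of_bot (p := s)) bot_le
    have hle := S.sylow_le_scalarPart (L := L) hX hs hsm hR
    let ψ : R.subgroupOf D →* L.Fˣ := φ.comp (Subgroup.inclusion hle)
    have hψ : Function.Injective ψ := by
      refine (injective_iff_map_eq_one ψ).2 fun r hr => ?_
      have hk := hker _ hr
      by_contra hr1
      obtain ⟨j, hj⟩ := IsPGroup.iff_orderOf.1 hR.isPGroup ⟨((r : D) : X), r.2⟩
      rw [← Subgroup.orderOf_coe] at hj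
      have hdvd : s ∣ orderOf ((r : D) : X) := by
        rcases j with _ | j
        · exact absurd (Subtype.ext (Subtype.ext (orderOf_eq_one_iff.1 hj))) hr1
        · rw [hj]; exact dvd_pow_self s j.succ_ne_zero
      have hcop := S.coprime_of_fix (r : D).2 S.t_ne (by
        rw [show actE ((r : D) : X) = 1 from MonoidHom.mem_ker.1 hk]; rfl)
      exact hs.not_dvd_one (hcop ▸ Nat.dvd_gcd hdvd hsm)
    have h1 : Nat.card (R.subgroupOf D) ∣ Nat.card φ.range := by
      rw [Nat.card_congr (MonoidHom.ofInjective hψ).toEquiv]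
      refine card_dvd_of_le ?_
      rintro _ ⟨r, rfl⟩
      exact ⟨_, rfl⟩
    refine Dvd.dvd.trans ?_ h1
    rw [Nat.card_congr (Subgroup.subgroupOfEquivOfLe hR.1).toEquiv, hR.2]
    refine pow_dvd_pow s ?_
    have hD : Nat.card E - 1 ∣ Nat.card D := by
      letI : MulAction D E := MulAction.compHom E (actE.comp D.subtype)
      haveI : Fintype E := Fintype.ofFinite E
      have horb : MulAction.orbit D t = {e : E | e ≠ 1} := by
        ext v
        refine ⟨?_, fun he => ?_⟩
        · rintro ⟨d, rfl⟩ h'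
          exact S.t_ne ((actE (d : X)).injective (h'.trans (map_one _).symm))
        · obtain ⟨d, hd', hde⟩ := S.trans v he
          exact ⟨⟨d, hd'⟩, hde⟩
      have hc := MulAction.index_stabilizer D t
      rw [horb, show ({v : E | v ≠ 1} : Set E) = {1}ᶜ from rfl, Set.ncard_compl,
        Set.ncard_singleton] at hc
      exact hc ▸ Subgroup.index_dvd_card _
    exact (hs.pow_dvd_iff_le_factorization Nat.card_pos.ne').1 (hd.trans hD)
  obtain ⟨g, hg⟩ := IsCyclic.exists_generator (α := L.Fˣ)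
  obtain ⟨d, rfl⟩ := hsurj g
  set a := Nat.card φ.ker with ha
  have hcop : (Nat.card E - 1).Coprime a := by
    refine Nat.Coprime.symm (Nat.coprime_of_dvd fun s hs hsa hsm => ?_)
    haveI := Fact.mk hs
    obtain ⟨z, hz⟩ := exists_prime_orderOf_dvd_card' (G := φ.ker) s hsa
    have hcop := S.coprime_of_fix ((z : scalarPart L) : D).2 S.t_ne
      (by rw [MonoidHom.mem_ker.1 (hker _ z.2)]; rfl)
    rw [Subgroup.orderOf_coe, Subgroup.orderOf_coe, Subgroup.orderOf_coe, hz] at hcop
    exact hs.not_dvd_one (hcop ▸ Nat.dvd_gcd dvd_rfl hsm)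
  have hgord : orderOf (φ d) = Nat.card E - 1 := by
    rw [orderOf_eq_card_of_forall_mem_zpowers hg, hcardF]
  have hσφ : orderOf (φ (d ^ a)) = Nat.card E - 1 := by
    rw [map_pow, Nat.Coprime.orderOf_pow (hgord.symm ▸ hcop), hgord]
  refine ⟨d ^ a, Nat.dvd_antisymm ?_ (hσφ ▸ orderOf_map_dvd φ _), fun x hx => ?_⟩
  · refine orderOf_dvd_of_pow_eq_one ?_
    rw [← pow_mul, mul_comm, pow_mul]
    exact congrArg Subtype.val (pow_card_eq_one'
      (x := (⟨d ^ (Nat.card E - 1), by rw [MonoidHom.mem_ker, map_pow, ← hgord, pow_orderOf_eq_one]⟩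
        : φ.ker)))
  · have htop : zpowers (φ (d ^ a)) = ⊤ := eq_top_of_card_eq _ (by rw [Nat.card_zpowers, hσφ, hcardF])
    have hmem : Units.mk0 x hx ∈ Submonoid.powers (φ (d ^ a)) := by
      rw [mem_powers_iff_mem_zpowers, htop]; trivial
    obtain ⟨i, hi⟩ := hmem
    refine ⟨i, ?_⟩
    have h1 := congrArg Units.val hi
    simp only [← map_pow, hφ, Units.val_mk0] at h1
    simpa using h1

/-- The Galois part is abelian. -/
theorem galoisPart_comm {a c : X} (ha : a ∈ galoisPart D actE t) (hc : c ∈ galoisPart D actE t) :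
    a * c = c * a := by
  obtain ⟨L⟩ := S.exists_semilin
  have hle : galoisPart D actE t ≤ D := fun z hz => (mem_galoisPart.1 hz).1
  let φ : galoisPart D actE t →* (L.F ≃ₐ[ZMod 2] L.F) := L.gal.comp (Subgroup.inclusion hle)
  refine congrArg Subtype.val (commutative_of_cyclic_center_quotient φ (fun z hz => ?_)
    (⟨a, ha⟩ : galoisPart D actE t) ⟨c, hc⟩)
  refine mem_center_iff.2 fun w => Subtype.ext ?_
  have hker : (z : X) ∈ actE.ker := MonoidHom.mem_ker.2
    (L.act_eq_one (g := Subgroup.inclusion hle z) (mem_galoisPart.1 z.2).2.2 hz)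
  exact ((mem_centralizer_iff.1 (S.closure_le_centralizer (mem_galoisPart.1 w.2).2.1)) _ hker).symm

end Data

end CfsgLib.Bender.OddQuot
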