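import Cfsg.Agent.Lib.Bender.OddQuot.Lift
import Cfsg.Agent.Lib.Char.UniformSmallDegree
import Cfsg.Agent.Lib.Char.LiftCoprime

/-!
# The degree is three

A `q`-dimensional complex character over a uniformly centralized cyclic subgroup of order `2 ^ q - 1`
would be linear when `q ≥ 5`.
-/

set_option autoImplicit false
set_option linter.style.haveILetI false
set_option linter.unusedSectionVars false

namespace CfsgLib.Bender.OddQuot

open Subgroup
open Cfsg CfsgLib.Char

universe u

variable {X E V : Type u} [Group X] [CommGroup E] [CommGroup V] [Finite X] [Finite E] [Finite V]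
  {p : ℕ} {D : Subgroup X} {actE : X →* MulAut E} {actV : X →* MulAut V} {t : E}

namespace Data

variable (S : Data p D actE actV t)
include S

/-- A faithful complex character of degree `q` of every subgroup. -/
theorem exists_faithful_char (f : Frame D actE t) {q : ℕ} {y : X} (h : f.Shape actV p q y)
    (M : Subgroup X) :
    ∃ χ : M → ℂ, IsCharacter M χ ∧ χ 1 = (q : ℂ) ∧ ∀ g, χ g = χ 1 → g = 1 := by
  classical
  haveI := S.fact_prime
  obtain ⟨hE, hV, -, hpX⟩ := S.shape_facts f h
  obtain ⟨hMod, lin, v₀, hlin, hT⟩ := h.twisted.exists_linear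
  haveI : Module.Finite (ZMod p) (Additive V) := Module.Finite.of_finite
  have hrank : Module.finrank (ZMod p) (Additive V) = q := by
    have h1 := Module.natCard_eq_pow_finrank (K := ZMod p) (V := Additive V)
    rw [show Nat.card (Additive V) = Nat.card V from Nat.card_congr Additive.toMul, hV,
      Nat.card_zmod] at h1
    exact (Nat.pow_right_injective S.prime.two_le h1).symm
  let b := (Module.finBasisOfFinrankEq (ZMod p) (Additive V) hrank)
  let ψ : M →* Matrix (Fin q) (Fin q) (ZMod p) :=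
    ((LinearMap.toMatrixAlgEquiv b).toAlgHom.toRingHom.toMonoidHom.comp lin).comp M.subtype
  have hψ : Function.Injective ψ := by
    intro a c hac
    refine Subtype.ext (S.faithful (MulEquiv.ext fun v => ?_))
    have h1 : lin (a : X) = lin (c : X) := (LinearMap.toMatrixAlgEquiv b).injective hac
    have h2 := DFunLike.congr_fun h1 (Additive.ofMul v)
    rw [hlin, hlin] at h2
    exact congrArg Additive.toMul h2
  obtain ⟨ρ, hρ⟩ := CfsgLib.Char.LiftCoprime.exists_complex S.prime
    (fun hd => hpX (hd.trans (Subgroup.card_subgroup_dvd_card M))) ψ hψ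
  let R : Representation ℂ M (Fin q → ℂ) :=
    Matrix.toLinAlgEquiv'.toAlgHom.toRingHom.toMonoidHom.comp ρ
  refine ⟨R.character, isCharacter_character R, ?_, fun g hg => ?_⟩
  · rw [Representation.char_one, Module.finrank_fin_fun]
  · rw [Representation.char_one] at hg
    refine hρ (Matrix.toLinAlgEquiv'.injective ?_)
    show R g = R 1
    rw [map_one]
    exact (char_eq_degree_iff R g).1 hg

theorem q_eq_three (hX : Even (Nat.card X)) (f : Frame D actE t) {q : ℕ} {y : X}
    (h : f.Shape actV p q y) : q = 3 := by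
  classical
  by_contra hne
  have hq5 : 5 ≤ q := by
    obtain ⟨r, hr⟩ := h.qodd
    have := h.qprime.two_le
    omega
  obtain ⟨hE, -, -, -⟩ := S.shape_facts f h
  set Y := freeClosure D (Nat.card E - 1) with hY
  obtain ⟨M, ⟨hMe, hσM⟩, hmin⟩ := (Set.toFinite {M : Subgroup X | Even (Nat.card M) ∧
    (f.σ : X) ∈ M}).exists_minimal ⟨Y, S.freeClosure_even hX, f.σY⟩
  obtain ⟨g, j, hgj, hg, hgp, hgm, -⟩ := S.exists_free_sub f (dvd_refl f.k) (S.two_le_k f)
  rw [S.sub_k f] at hgj
  have hgσ : g ∈ zpowers (f.σ : X) := hgj ▸ pow_mem (mem_zpowers _) j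
  have hgM : g ∈ M := (zpowers_le.2 hσM) hgσ
  have hMY : M ≤ Y := by
    have hN : M ≤ normalizer ((Y ⊓ M : Subgroup X) : Set X) := fun c hc =>
      mem_normalizer_iff.2 fun z => and_congr ((mem_normalizer_iff.1 (by
        rw [Subgroup.normalizer_eq_top]; trivial : c ∈ normalizer (Y : Set X))) z)
        (mem_normalizer_iff.1 (le_normalizer hc) z)
    exact (hmin ⟨S.even_of_normal hg hgp hgm (N := Y ⊓ M) ⟨mem_freeClosure hg hgp hgm, hgM⟩ inf_le_right hN hMe,
      ⟨f.σY, hσM⟩⟩ inf_le_right).trans inf_le_left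
  haveI : Fintype M := Fintype.ofFinite M
  set s : M := ⟨(f.σ : X), hσM⟩ with hs
  set P : Subgroup M := zpowers s with hP
  set U : Subgroup M := actE.ker.subgroupOf M with hU
  -- the closure of `σ` is everything
  have hnc : Subgroup.normalClosure (P : Set M) = ⊤ := by
    set N := Subgroup.normalClosure (P : Set M)
    have hgN : g ∈ N.map M.subtype := ⟨⟨g, hgM⟩, subset_normalClosure (by
      obtain ⟨i, hi⟩ := mem_zpowers_iff.1 hgσ
      exact mem_zpowers_iff.2 ⟨i, Subtype.ext (by rw [Subgroup.coe_zpow]; exact hi)⟩), rfl⟩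
    have hNe := S.even_of_normal hg hgp hgm hgN (map_subtype_le N)
      (CfsgLib.Coprime.BenderPair.le_normalizer_map_subtype M N) hMe
    have hle := hmin ⟨hNe, ⟨s, subset_normalClosure (mem_zpowers s), rfl⟩⟩ (map_subtype_le N)
    refine eq_top_iff.2 fun z _ => ?_
    obtain ⟨z', hz', he⟩ := hle z.2
    rwa [show z = z' from (Subtype.ext he).symm]
  -- centralizers of scalars
  have hcent : ∀ (c : M) (z : M), z ∈ P → z ≠ 1 → c * z = z * c →
      ∃ u ∈ P, ∃ v ∈ U, c = u * v := by
    intro c z hz hz1 hcz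
    obtain ⟨i, hi⟩ := mem_zpowers_iff.1 hz
    have hzX : (z : X) ∈ zpowers (f.σ : X) :=
      mem_zpowers_iff.2 ⟨i, by rw [← hi, Subgroup.coe_zpow]⟩
    obtain ⟨r, hr, hrz⟩ := Nat.exists_prime_and_dvd
      (fun e => hz1 (Subtype.ext (orderOf_eq_one_iff.1 e)) : orderOf (z : X) ≠ 1)
    have hzm : orderOf (z : X) ∣ Nat.card E - 1 := by
      have h1 := orderOf_dvd_of_mem_zpowers hzX
      rwa [Subgroup.orderOf_coe f.σ, f.σord] at h1
    have ho : orderOf ((z : X) ^ (orderOf (z : X) / r)) = r :=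
      orderOf_pow_orderOf_div (orderOf_pos _).ne' hrz
    have hcD : (c : X) ∈ D := S.centralizer_le (pow_mem ((zpowers_le.2 f.σ.2) hzX) _)
      (ho.symm ▸ hr) (ho.symm ▸ hrz.trans hzm) (mem_centralizer_singleton_iff.2
        ((show Commute (c : X) (z : X) from congrArg Subtype.val hcz).pow_right _).eq)
    obtain ⟨n, γ, hγ, hcγ⟩ := S.exists_decomp f hcD (hMY c.2)
    have hγD := (mem_galoisPart.1 hγ).1
    have hnM : (f.σ : X) ^ n ∈ M := pow_mem hσM n
    have hγM : γ ∈ M := by
      have := mul_mem (inv_mem hnM) c.2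
      rwa [hcγ, inv_mul_cancel_left] at this
    -- `γ` commutes with `z`
    have hzcomm : Commute γ (z : X) := by
      obtain ⟨i', hi'⟩ := mem_zpowers_iff.1 hzX
      have h1 : Commute ((f.σ : X) ^ n) (z : X) := hi' ▸ ((Commute.refl _).pow_left n).zpow_right i'
      have h2 := h1.inv_left.mul_left (show Commute (c : X) (z : X) from congrArg Subtype.val hcz)
      rwa [hcγ, inv_mul_cancel_left] at h2
    obtain ⟨d, hd, -⟩ := S.exists_raises hX f hγD (mem_galoisPart.1 hγ).2.1
    obtain ⟨i', hi'⟩ := (mem_powers_iff_mem_zpowers.2 hzX : (z : X) ∈ Submonoid.powers (f.σ : X))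
    replace hi' : (f.σ : X) ^ i' = (z : X) := hi'
    have hqd : q ∣ d := by
      by_contra hqd
      have h1 := hd i'
      rw [hi', hzcomm.eq, mul_inv_cancel_right, pow_mul, hi'] at h1
      have h2 : orderOf (z : X) ∣ 2 ^ d - 1 := by
        refine (Nat.modEq_iff_dvd' Nat.one_le_two_pow).1 (pow_eq_pow_iff_modEq.1 ?_)
        rw [pow_one]; exact h1
      rw [hE] at hzm
      have h3 := Nat.dvd_gcd h2 hzm
      rw [Nat.pow_sub_one_gcd_pow_sub_one,
        ((h.qprime.coprime_iff_not_dvd.2 hqd).symm).gcd_eq_one] at h3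
      exact hz1 (Subtype.ext (orderOf_eq_one_iff.1 (Nat.dvd_one.1 h3)))
    have hσγ : Commute γ (f.σ : X) := by
      have h1 := (S.commute_sub_iff f (by rw [h.deg] : q ∣ f.k) hd).2 hqd
      rw [show f.sub q = f.sub f.k by rw [h.deg], S.sub_k f] at h1
      exact h1
    have hgal : f.L.gal ⟨γ, hγD⟩ = 1 := by
      refine AlgEquiv.ext fun x => ?_
      rcases eq_or_ne x 0 with hx | hx
      · rw [hx, map_zero, map_zero]
      obtain ⟨i'', hi''⟩ := f.σgen x hx
      rw [← hi'', AlgEquiv.one_apply]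
      exact (S.commute_pow_iff hX f (g := ⟨γ, hγD⟩) (mem_galoisPart.1 hγ).2.1 i'').1
        (hσγ.pow_right i'')
    exact ⟨s ^ n, pow_mem (mem_zpowers s) n, ⟨γ, hγM⟩, S.mem_ker_of_gal f hγ hgal,
      Subtype.ext (by rw [Subgroup.coe_mul, Subgroup.coe_pow]; exact hcγ)⟩
  have hvc : ∀ v ∈ U, ∀ u ∈ P, u * v = v * u := fun v hv u hu => by
    obtain ⟨i, hi⟩ := mem_zpowers_iff.1 hu
    refine Subtype.ext ?_
    rw [Subgroup.coe_mul, Subgroup.coe_mul, ← hi, Subgroup.coe_zpow]
    exact ((show Commute (f.σ : X) (v : X) from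
      ((mem_centralizer_iff.1 (S.closure_le_centralizer f.σY)) _ hv).symm).zpow_left i).eq
  have hPcomm : ∀ a ∈ P, ∀ c ∈ P, a * c = c * a := fun a ha c hc => by
    obtain ⟨i, rfl⟩ := mem_zpowers_iff.1 ha
    obtain ⟨i', rfl⟩ := mem_zpowers_iff.1 hc
    rw [← zpow_add, add_comm, zpow_add]
  have hs1 : s ≠ 1 := fun e => by
    have h1 := f.σord
    rw [← Subgroup.orderOf_coe, show (f.σ : X) = 1 from congrArg Subtype.val e, orderOf_one] at h1
    have := S.card_four
    omega
  have hPcard : Nat.card P = 2 ^ q - 1 := by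
    rw [hP, Nat.card_zpowers, ← Subgroup.orderOf_coe, show ((s : M) : X) = (f.σ : X) from rfl,
      Subgroup.orderOf_coe, f.σord, hE]
  have huni : CfsgLib.Char.UniformCent.Uniform P U := by
    refine ⟨hPcomm, fun z hz hz1 => le_antisymm (fun c hc => ?_) ?_, hvc, fun c hc => ?_, ?_⟩
    · obtain ⟨u, hu, v, hv, rfl⟩ := hcent c z hz hz1 (mem_centralizer_singleton_iff.1 hc)
      refine mem_centralizer_iff.2 fun w hw => ?_
      rw [← mul_assoc, hPcomm w hw u hu, mul_assoc, hvc v hv w hw, mul_assoc]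
    · exact Subgroup.centralizer_le (Set.singleton_subset_iff.2 hz)
    · exact hcent c s (mem_zpowers s) hs1 (mem_centralizer_iff.1 hc s (mem_zpowers s)).symm
    · refine Nat.coprime_of_dvd fun r hr hrP hrU => ?_
      haveI := Fact.mk hr
      obtain ⟨v, hv⟩ := exists_prime_orderOf_dvd_card' (G := U) r hrU
      rw [← Subgroup.orderOf_coe, ← Subgroup.orderOf_coe] at hv
      have hvk : actE (((v : U) : M) : X) = 1 := MonoidHom.mem_ker.1 v.2
      have hcop := S.coprime_of_fix (S.ker_le v.2) S.t_ne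
        (show actE (((v : U) : M) : X) t = t by rw [hvk]; rfl)
      change (orderOf (((v : U) : M) : X)).Coprime (Nat.card E - 1) at hcop
      rw [hv, hE, ← hPcard] at hcop
      exact hr.not_dvd_one (hcop ▸ Nat.dvd_gcd dvd_rfl hrP)
  -- a non-principal constituent
  obtain ⟨φ, hφ, hφ1, hφf⟩ := S.exists_faithful_char f h M
  obtain ⟨l, hl⟩ := exists_list_irr hφ
  replace hl : φ = (l.map fun ψ : IrrCharacter M => ψ.1).sum := by
    refine hl.trans (congrArg List.sum ?_)
    rw [List.map_id']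
    exact List.flatMap_pure_eq_map _ _
  have happ : ∀ (L : List (IrrCharacter M)) (g : M),
      (L.map fun ψ : IrrCharacter M => ψ.1).sum g =
        (L.map fun ψ : IrrCharacter M => ψ.1 g).sum := fun L g => by
    induction L with
    | nil => rfl
    | cons a L ih => rw [List.map_cons, List.sum_cons, Pi.add_apply, ih, List.map_cons, List.sum_cons]
  obtain ⟨χ, hχl, hχ⟩ : ∃ χ ∈ l, (χ : M → ℂ) ≠ fun _ => 1 := by
    by_contra hall
    push Not at hall
    refine hs1 (hφf s ?_)
    rw [hl, happ, happ]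
    congr 1
    exact List.map_congr_left fun χ hχ => by simp [hall χ hχ]
  obtain ⟨x, hx0, hx⟩ := isIrrCharacter_degree χ.2
  have hxq : x ≤ q := by
    choose deg hdeg0 hdeg using fun ψ : IrrCharacter M => isIrrCharacter_degree ψ.2
    have h1 : ((l.map deg).sum : ℂ) = (q : ℂ) := by
      rw [← hφ1, hl, happ, Nat.cast_list_sum, List.map_map]
      congr 1
      exact List.map_congr_left fun ψ _ => (hdeg ψ).symm
    have h2 : (l.map deg).sum = q := by exact_mod_cast h1
    have h3 : deg χ ∈ l.map deg := List.mem_map.2 ⟨χ, hχl, rfl⟩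
    have h4 : x = deg χ := by
      have : (x : ℂ) = (deg χ : ℂ) := hx.symm.trans (hdeg χ)
      exact_mod_cast this
    rw [h4, ← h2]
    exact List.le_sum_of_mem h3
  obtain ⟨-, hNC⟩ := CfsgLib.Char.UniformCent.degree_one_and_central huni hnc χ hχ hx (by
    rw [hPcard]
    have h2q : ∀ n : ℕ, 5 ≤ n → n ^ 2 + 3 ≤ 2 ^ n := by
      intro n hn
      induction n with
      | zero => omega
      | succ n ih =>
        rcases Nat.lt_or_ge n 5 with h5 | h5
        · interval_cases n <;> simp_all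
        · have := ih h5
          have e : (n + 1) ^ 2 = n ^ 2 + 2 * n + 1 := by ring
          have e2 : n * 5 ≤ n ^ 2 := by rw [pow_two]; exact Nat.mul_le_mul_left n h5
          rw [pow_succ 2 n]
          omega
    have h5 := h2q q hq5
    have h6 : x ^ 2 ≤ q ^ 2 := Nat.pow_le_pow_left hxq 2
    omega)
  obtain ⟨y₀, hy₀, hy₀D, hne'⟩ := S.exists_move hg hgp hgm hgM hMe
  refine hne' ?_
  have hmem : (⟨y₀, hy₀⟩ : M) ∈ normalizer (P : Set M) := by
    rw [← CfsgLib.Coprime.conjBy_eq_self_iff, CfsgLib.Coprime.conjBy, hP, MonoidHom.map_zpowers]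
    obtain ⟨d, hd, -⟩ := S.exists_raises hX f hy₀D (hMY hy₀)
    refine eq_of_le_of_card_ge (zpowers_le.2 (mem_zpowers_iff.2 ⟨((2 ^ d : ℕ) : ℤ), ?_⟩)) ?_
    · refine Subtype.ext ?_
      rw [zpow_natCast, Subgroup.coe_pow]
      show (f.σ : X) ^ 2 ^ d = y₀ * (f.σ : X) * y₀⁻¹
      have h1 := hd 1
      rw [pow_one, one_mul] at h1
      exact h1.symm
    · rw [Nat.card_zpowers, Nat.card_zpowers]
      exact (MulAut.conj (⟨y₀, hy₀⟩ : M)).orderOf_eq s |>.ge
  have hc := mem_centralizer_iff.1 (hNC hmem) s (mem_zpowers s)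
  have hyσ : Commute y₀ (f.σ : X) := (congrArg Subtype.val hc).symm
  obtain ⟨i, hi⟩ := mem_zpowers_iff.1 hgσ
  exact hi ▸ hyσ.zpow_right i

end Data

end CfsgLib.Bender.OddQuot
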