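import Cfsg.Agent.Lib.Char.LiftCoprime
import Cfsg.Agent.Lib.Char.FeitBlichfeldt
import Cfsg.Agent.Lib.Block.Cyclic.HalfBound

/-!
# No perfect linear group of degree `q` has a self-centralizing element of order `2 ^ q - 1`

`false_of_rep`: let `Y` be a finite perfect group, `Z0` central, `σ` of order `2 ^ q - 1` prime to
`|Z0|` (`q ≥ 5` prime), with the centralizers of the non-trivial powers of `σ` inside `⟨σ⟩ Z0`.
Then `Y` has no faithful representation of degree `q` in a characteristic not dividing `|Y|`.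

Proof: some prime `r` dividing `2 ^ q - 1` exceeds `2 * q + 1`; by the half bound and Feit–Thompson
the Sylow `r`-subgroup of `Y` is normal, so it is central as `Y` is perfect.
-/

set_option autoImplicit false
set_option linter.style.haveILetI false

namespace CfsgLib.Bender.OddQuot

open Subgroup

universe u

/-- A prime dividing `2 ^ q - 1` other than `2 * q + 1`. -/
theorem exists_prime_gt {q : ℕ} (hq : q.Prime) (hq5 : 5 ≤ q) :
    ∃ r : ℕ, r.Prime ∧ r ∣ 2 ^ q - 1 ∧ 2 * q + 1 < r := by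
  have hbig : ∀ n : ℕ, 5 ≤ n → 2 * n + 2 < 2 ^ n := by
    intro n hn
    induction n, hn using Nat.le_induction with
    | base => norm_num
    | succ n hn ih => rw [pow_succ]; omega
  have h1 := hbig q hq5
  have hlow : ∀ r : ℕ, r.Prime → r ∣ 2 ^ q - 1 → 2 * q + 1 ≤ r := by
    intro r hr hrm
    haveI := Fact.mk hr
    have h2q : ((2 : ZMod r)) ^ q = 1 := by
      have h := (ZMod.natCast_eq_zero_iff _ r).2 hrm
      rw [Nat.cast_sub (Nat.one_le_two_pow), Nat.cast_pow, Nat.cast_one, sub_eq_zero] at h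
      simpa using h
    have hr2 : r ≠ 2 := by
      rintro rfl
      have : 2 ∣ 2 ^ q := dvd_pow_self 2 hq.ne_zero
      omega
    have hne0 : (2 : ZMod r) ≠ 0 := by
      intro e
      rw [e, zero_pow hq.ne_zero] at h2q
      exact zero_ne_one h2q
    have hne1 : (2 : ZMod r) ≠ 1 := by
      intro e
      have : (1 : ZMod r) = 0 := by linear_combination e
      exact one_ne_zero this
    have hord : orderOf (2 : ZMod r) = q :=
      haveI := Fact.mk hq
      orderOf_eq_prime h2q hne1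
    have hdvd : q ∣ r - 1 := hord ▸ ZMod.orderOf_dvd_card_sub_one hne0
    obtain ⟨c, hc⟩ := hdvd
    have hrodd : r % 2 = 1 := hr.eq_two_or_odd.resolve_left hr2
    have hc2 : 2 ≤ c := by
      rcases c with _ | _ | c
      · have := hr.two_le; omega
      · have hqodd : q % 2 = 1 := hq.eq_two_or_odd.resolve_left (by omega)
        omega
      · omega
    have : q * 2 ≤ q * c := Nat.mul_le_mul_left q hc2
    omega
  by_contra hcon
  push Not at hcon
  set m := 2 ^ q - 1 with hm
  have hm0 : m ≠ 0 := by omega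
  obtain ⟨r, hr, hrm⟩ := Nat.exists_prime_and_dvd (n := m) (by omega)
  have hreq : ∀ {s : ℕ}, s.Prime → s ∣ m → s = r := fun {s} hs hsm => by
    have := hlow s hs hsm; have := hcon s hs hsm; have := hlow r hr hrm; have := hcon r hr hrm
    omega
  have hrval : r = 2 * q + 1 := le_antisymm (hcon r hr hrm) (hlow r hr hrm)
  set a := m.primeFactorsList.length
  have hma : m = r ^ a := Nat.eq_prime_pow_of_unique_prime_dvd hm0 hreq
  rcases Nat.even_or_odd a with ⟨k, hk⟩ | hodd
  · -- a square is not `-1` modulo 4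
    have h4 : 4 ∣ 2 ^ q := dvd_trans (by norm_num) (pow_dvd_pow 2 (show 2 ≤ q by omega))
    have hsq : m = r ^ k * r ^ k := by rw [hma, hk, pow_add]
    have h5 : (r ^ k * r ^ k) % 4 = ((r ^ k % 4) * (r ^ k % 4)) % 4 := Nat.mul_mod _ _ _
    have h6 : r ^ k % 4 < 4 := Nat.mod_lt _ (by norm_num)
    interval_cases h7 : r ^ k % 4 <;> omega
  · -- `r ^ a + 1 = (r + 1) * odd`
    have hsum : 2 ^ q = r ^ a + 1 := by omega
    have hdvd : r + 1 ∣ r ^ a + 1 := by
      simpa using Odd.nat_add_dvd_pow_add_pow r 1 hodd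
    rw [← hsum] at hdvd
    obtain ⟨b, hb, hb'⟩ := (Nat.dvd_prime_pow Nat.prime_two).1 hdvd
    have hbq : b < q := by
      rcases lt_or_eq_of_le hb with h | h
      · exact h
      · rw [h] at hb'; omega
    obtain ⟨j, hj⟩ : 2 ^ (b + 1) ∣ 2 ^ q := pow_dvd_pow 2 hbq
    -- modulo `2 (r + 1)`, the number `r ^ a + 1` is `r + 1`
    have key : ∀ i : ℕ, ∃ t : ℤ, (r : ℤ) ^ (2 * i + 1) + 1 = (r + 1) + 2 * (r + 1) * t := by
      intro i
      induction i with
      | zero => exact ⟨0, by ring⟩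
      | succ i ih =>
        obtain ⟨t, ht⟩ := ih
        have hrodd : r % 2 = 1 := by omega
        obtain ⟨u, hu⟩ : ∃ u : ℤ, (r : ℤ) = 2 * u + 1 := ⟨(r / 2 : ℕ), by omega⟩
        refine ⟨(r : ℤ) ^ 2 * t + u * r, ?_⟩
        have : (r : ℤ) ^ (2 * (i + 1) + 1) = (r : ℤ) ^ 2 * (r : ℤ) ^ (2 * i + 1) := by ring
        rw [this]
        linear_combination (r : ℤ) ^ 2 * ht + (r : ℤ) * ((r : ℤ) + 1) * hu
    obtain ⟨i, hi⟩ := hodd
    obtain ⟨t, ht⟩ := key i
    rw [← hi] at ht
    have h2 : ((2 : ℤ) ^ q) = (r : ℤ) ^ a + 1 := by exact_mod_cast hsum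
    have h3 : ((r : ℤ) + 1) = 2 ^ b := by exact_mod_cast hb'
    have h4 : (2 : ℤ) ^ q = 2 ^ (b + 1) * (j : ℤ) := by exact_mod_cast hj
    rw [← h2, h4, h3, pow_succ] at ht
    have hpos : (0 : ℤ) < 2 ^ b := by positivity
    have : (2 : ℤ) * j = 1 + 2 * t := by
      have : (2 : ℤ) ^ b * (2 * j) = 2 ^ b * (1 + 2 * t) := by linear_combination ht
      exact mul_left_cancel₀ hpos.ne' this
    omega

/-- The theorem, for a complex representation. -/
theorem false_of_complex {Y : Type u} [Group Y] [Finite Y] (hperf : commutator Y = ⊤)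
    {Z0 : Subgroup Y} (hZ0 : Z0 ≤ center Y) {q : ℕ} (hq : q.Prime) (hq5 : 5 ≤ q) {σ : Y}
    (hσ : orderOf σ = 2 ^ q - 1) (hcop : (orderOf σ).Coprime (Nat.card Z0))
    (hC : ∀ g ∈ zpowers σ, g ≠ 1 → ∀ x : Y, Commute x g → x ∈ zpowers σ ⊔ Z0)
    (ρ : Representation ℂ Y (Fin q → ℂ)) (hρ : Function.Injective ρ) : False := by
  classical
  obtain ⟨r, hr, hrm, hrbig⟩ := exists_prime_gt hq hq5
  haveI := Fact.mk hr
  obtain ⟨M, hM⟩ := CfsgLib.Block.exists_pModular hr
  haveI := hM.2.1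
  -- the Sylow `r`-subgroup is normal
  have hnormal : ∀ P : Sylow r Y, (P : Subgroup Y).Normal := fun P => by
    refine CfsgLib.Char.FeitBlichfeldt.normal_of_representation q ρ hρ (Or.inr ⟨by omega,
      fun K hK Q => ?_⟩) P
    by_cases hd : r ∣ Nat.card K
    · obtain ⟨k, hk⟩ := IsPGroup.iff_card.1 Q.2
      have hcard : Nat.card (Q : Subgroup K) = r := by
        have h1 : Nat.card (Q : Subgroup K) ∣ Nat.card K := card_subgroup_dvd_card _
        have h2 : r ∣ Nat.card (Q : Subgroup K) := Q.dvd_card_of_dvd_card hd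
        rw [hk] at h1 h2 ⊢
        rcases k with _ | _ | k
        · simp only [pow_zero, Nat.dvd_one] at h2; exact absurd h2 hr.ne_one
        · simp
        · exact absurd ((pow_dvd_pow r (by omega : 2 ≤ k + 1 + 1)).trans h1) hK
      let χ : K → ℂ := fun k => ρ.character (k : Y)
      refine CfsgLib.Block.Cyclic.normal_of_degree_lt_half hM _ K rfl hK χ
        (CfsgLib.Char.isCharacter_comp (CfsgLib.Char.isCharacter_character ρ) K.subtype)
        (fun g hg => Subtype.ext (hρ ?_)) ?_ _ hcard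
      · rw [coe_one, map_one]
        simp only [χ, coe_one] at hg
        rw [Representation.char_one] at hg
        exact (CfsgLib.Char.char_eq_degree_iff ρ _).1 hg
      · have : Cfsg.charDegree χ = q := by
          show ⌊(ρ.character ((1 : K) : Y)).re⌋₊ = q
          rw [coe_one, Representation.char_one, Module.finrank_fin_fun, Complex.natCast_re,
            Nat.floor_natCast]
        rw [this]; omega
    · have h1 : Nat.card (Q : Subgroup K) = 1 := by
        obtain ⟨k, hk⟩ := IsPGroup.iff_card.1 Q.2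
        rcases k with _ | k
        · simpa using hk
        · exact absurd ((dvd_pow_self r k.succ_ne_zero).trans
            (hk ▸ card_subgroup_dvd_card (Q : Subgroup K))) hd
      rw [eq_bot_of_card_eq _ h1]
      exact normal_bot
  obtain ⟨P⟩ := (inferInstance : Nonempty (Sylow r Y))
  haveI hP := hnormal P
  haveI : Unique (Sylow r Y) := Sylow.unique_of_normal P hP
  -- an element of order `r` in `⟨σ⟩`
  set g := σ ^ (orderOf σ / r) with hg
  have hgo : orderOf g = r := orderOf_pow_orderOf_div (orderOf_pos σ).ne' (hσ ▸ hrm)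
  have hg1 : g ≠ 1 := fun e => hr.ne_one (by rw [← hgo, e, orderOf_one])
  have hgz : g ∈ zpowers σ := pow_mem (mem_zpowers σ) _
  have hgP : g ∈ (P : Subgroup Y) := by
    obtain ⟨T, hT⟩ := (IsPGroup.of_card (p := r) (n := 1) (G := zpowers g) (by
      rw [Nat.card_zpowers, hgo, pow_one])).exists_le_sylow
    rw [Subsingleton.elim T P] at hT
    exact hT (mem_zpowers g)
  -- `⟨σ⟩ Z0` is commutative, and its `r`-elements lie in `⟨σ⟩`
  set A := zpowers σ ⊔ Z0 with hA
  have hAcomm : ∀ a ∈ A, ∀ b ∈ A, Commute a b := by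
    haveI : Z0.Normal := ⟨fun z hz y => by
      rwa [(mem_center_iff.1 (hZ0 hz) y), mul_inv_cancel_right]⟩
    intro a ha b hb
    rw [hA, ← SetLike.mem_coe, mul_normal] at ha hb
    obtain ⟨_, ⟨i, rfl⟩, z, hz, rfl⟩ := ha
    obtain ⟨_, ⟨j, rfl⟩, w, hw, rfl⟩ := hb
    have hzc : ∀ y, Commute z y := fun y => ((mem_center_iff.1 (hZ0 hz)) y).symm
    have hwc : ∀ y, Commute w y := fun y => ((mem_center_iff.1 (hZ0 hw)) y).symm
    exact (((Commute.refl σ).zpow_zpow i j).mul_right (hwc _).symm).mul_left (hzc _)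
  -- `P` is in the centre of a subgroup containing the commutators
  have hPA : (P : Subgroup Y) ≤ A := by
    haveI : Nontrivial (P : Subgroup Y) := ⟨⟨⟨g, hgP⟩, 1, fun e => hg1 (congrArg Subtype.val e)⟩⟩
    haveI := P.2.center_nontrivial
    obtain ⟨z, hz⟩ := exists_ne (1 : center (P : Subgroup Y))
    have hzg : Commute (((z : (P : Subgroup Y)) : Y)) g :=
      congrArg Subtype.val (mem_center_iff.1 z.2 ⟨g, hgP⟩).symm
    have hzA := hC g hgz hg1 _ hzg
    -- the `r`-element `z` lies in `⟨σ⟩`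
    have hzs : ((z : (P : Subgroup Y)) : Y) ∈ zpowers σ := by
      haveI : Z0.Normal := ⟨fun w hw y => by
        rwa [(mem_center_iff.1 (hZ0 hw) y), mul_inv_cancel_right]⟩
      rw [← SetLike.mem_coe, mul_normal] at hzA
      obtain ⟨s, hs, w, hw, e⟩ := hzA
      obtain ⟨k, hk⟩ := P.2 (z : (P : Subgroup Y))
      have hk' : (((z : (P : Subgroup Y)) : Y)) ^ r ^ k = 1 := by
        simpa using congrArg Subtype.val hk
      have hsw : Commute s w := mem_center_iff.1 (hZ0 hw) s
      simp only at e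
      rw [← e, hsw.mul_pow] at hk'
      have hw1 : w ^ r ^ k ∈ zpowers σ := by
        rw [← inv_eq_of_mul_eq_one_right hk']
        exact inv_mem (pow_mem hs _)
      have hwtriv : w ^ r ^ k = 1 := by
        refine orderOf_eq_one_iff.1 (Nat.eq_one_of_dvd_coprimes hcop ?_ ?_)
        · obtain ⟨i, hi⟩ := hw1
          simp only at hi
          rw [← hi, ← Nat.card_zpowers σ]
          exact Subgroup.orderOf_dvd_natCard _ (zpow_mem (mem_zpowers σ) i)
        · exact Subgroup.orderOf_dvd_natCard _ (Z0.pow_mem hw _)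
      have hw0 : w = 1 := by
        refine orderOf_eq_one_iff.1 (Nat.eq_one_of_dvd_coprimes
          ((hcop.coprime_dvd_left (hσ ▸ hrm)).pow_left k) (orderOf_dvd_of_pow_eq_one hwtriv)
          (Subgroup.orderOf_dvd_natCard _ hw))
      rw [← e, hw0, mul_one]
      exact hs
    have hz1 : ((z : (P : Subgroup Y)) : Y) ≠ 1 := fun e =>
      hz (Subtype.ext (Subtype.ext e))
    intro u hu
    exact hC _ hzs hz1 u
      (congrArg Subtype.val (mem_center_iff.1 z.2 ⟨u, hu⟩) : u * _ = _ * u)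
  -- the automorphism group of the cyclic `⟨g⟩` is commutative
  have hconj : ∀ y : Y, ∃ i : ℤ, y * g * y⁻¹ = g ^ i := by
    intro y
    have h1 : y * g * y⁻¹ ∈ A := hPA (hP.conj_mem g hgP y)
    haveI : Z0.Normal := ⟨fun w hw y => by
      rwa [(mem_center_iff.1 (hZ0 hw) y), mul_inv_cancel_right]⟩
    rw [hA, ← SetLike.mem_coe, mul_normal] at h1
    obtain ⟨s, ⟨i, rfl⟩, w, hw, e⟩ := h1
    simp only at e
    have hsw : Commute (σ ^ i) w := mem_center_iff.1 (hZ0 hw) _
    have h2 : (σ ^ i * w) ^ r = 1 := by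
      rw [e, conj_pow, ← hgo, pow_orderOf_eq_one, mul_one, mul_inv_cancel]
    rw [hsw.mul_pow] at h2
    have hwtriv : w ^ r = 1 := by
      refine orderOf_eq_one_iff.1 (Nat.eq_one_of_dvd_coprimes hcop ?_ ?_)
      · rw [← Nat.card_zpowers σ]
        refine Subgroup.orderOf_dvd_natCard _ ?_
        rw [← inv_eq_of_mul_eq_one_right h2]
        exact inv_mem (pow_mem (zpow_mem (mem_zpowers σ) i) _)
      · exact Subgroup.orderOf_dvd_natCard _ (Z0.pow_mem hw _)
    have hw0 : w = 1 := orderOf_eq_one_iff.1 (Nat.eq_one_of_dvd_coprimes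
      (hcop.coprime_dvd_left (hσ ▸ hrm)) (orderOf_dvd_of_pow_eq_one hwtriv)
      (Subgroup.orderOf_dvd_natCard _ hw))
    rw [hw0, one_pow, mul_one] at h2
    have h3 : ((r : ℕ) : ℤ) * i ≡ 0 [ZMOD (orderOf σ : ℤ)] := by
      have : σ ^ (((r : ℕ) : ℤ) * i) = 1 := by
        rw [mul_comm, zpow_mul, zpow_natCast, h2]
      exact Int.modEq_zero_iff_dvd.2 (orderOf_dvd_iff_zpow_eq_one.2 this)
    obtain ⟨c, hc⟩ : r ∣ orderOf σ := hσ ▸ hrm
    have h4 : (c : ℤ) ∣ i := by
      rw [Int.modEq_zero_iff_dvd, hc, Nat.cast_mul] at h3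
      exact (mul_dvd_mul_iff_left (by exact_mod_cast hr.ne_zero)).1 h3
    obtain ⟨j, rfl⟩ := h4
    refine ⟨j, ?_⟩
    rw [← e, hw0, mul_one, hg, hc, Nat.mul_div_cancel_left _ hr.pos, zpow_mul, zpow_natCast]
  have hcen : commutator Y ≤ centralizer ({g} : Set Y) := by
    rw [_root_.commutator_def, commutator_le]
    intro a _ b _
    have hab : ∀ a b : Y, a * b * g * (a * b)⁻¹ = b * a * g * (b * a)⁻¹ := fun a b => by
      obtain ⟨i, hi⟩ := hconj a
      obtain ⟨j, hj⟩ := hconj b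
      calc a * b * g * (a * b)⁻¹ = a * (b * g * b⁻¹) * a⁻¹ := by group
        _ = (g ^ i) ^ j := by rw [hj, ← conj_zpow, hi]
        _ = (g ^ j) ^ i := zpow_comm _ _ _
        _ = b * (a * g * a⁻¹) * b⁻¹ := by rw [hi, ← conj_zpow, hj]
        _ = b * a * g * (b * a)⁻¹ := by group
    rw [mem_centralizer_singleton_iff, commutatorElement_def]
    refine mul_inv_eq_iff_eq_mul.1 ?_
    calc a * b * a⁻¹ * b⁻¹ * g * (a * b * a⁻¹ * b⁻¹)⁻¹
        = a * b * (a⁻¹ * b⁻¹ * g * (a⁻¹ * b⁻¹)⁻¹) * (a * b)⁻¹ := by group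
      _ = a * b * (b⁻¹ * a⁻¹ * g * (b⁻¹ * a⁻¹)⁻¹) * (a * b)⁻¹ := by rw [hab]
      _ = g := by group
  rw [hperf] at hcen
  have hall : ∀ y : Y, y ∈ A := fun y =>
    hC g hgz hg1 y (mem_centralizer_singleton_iff.1 (hcen (mem_top y)))
  have hbot : commutator Y = ⊥ := by
    rw [commutator_eq_bot_iff_center_eq_top]
    exact eq_top_iff.2 fun z _ => mem_center_iff.2 fun y => (hAcomm y (hall y) z (hall z)).eq
  rw [hperf] at hbot
  exact hg1 ((mem_bot).1 (hbot ▸ mem_top g))

/-- The theorem, in characteristic prime to the order. -/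
theorem false_of_rep {Y : Type u} [Group Y] [Finite Y] (hperf : commutator Y = ⊤)
    {Z0 : Subgroup Y} (hZ0 : Z0 ≤ center Y) {q : ℕ} (hq : q.Prime) (hq5 : 5 ≤ q) {σ : Y}
    (hσ : orderOf σ = 2 ^ q - 1) (hcop : (orderOf σ).Coprime (Nat.card Z0))
    (hC : ∀ g ∈ zpowers σ, g ≠ 1 → ∀ x : Y, Commute x g → x ∈ zpowers σ ⊔ Z0)
    {p : ℕ} [Fact p.Prime] (hp : ¬ p ∣ Nat.card Y)
    (ρ : Y →* Matrix (Fin q) (Fin q) (ZMod p)) (hρ : Function.Injective ρ) : False := by
  obtain ⟨ρc, hρc⟩ := CfsgLib.Char.LiftCoprime.exists_complex (F := ZMod p) (p := p) Fact.out hp ρ hρ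
  exact false_of_complex hperf hZ0 hq hq5 hσ hcop hC
    ((Matrix.toLinAlgEquiv' (R := ℂ) (n := Fin q)).toMulEquiv.toMonoidHom.comp ρc)
    fun a b h => hρc ((Matrix.toLinAlgEquiv' (R := ℂ) (n := Fin q)).injective h)

end CfsgLib.Bender.OddQuot
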