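import Mathlib.LinearAlgebra.Vandermonde
import Mathlib.Algebra.Polynomial.AlgebraMap
import Mathlib.FieldTheory.Finite.Basic

/-!
# A fixed point free operator twisted by a Galois operator with a single fixed line

`Twist p q S Y v₀`: on the `ZMod p`-module `M` of order `p ^ q`, `Y` of period `q` sends `S` to `S²`,
fixes only the multiples of `v₀`, and the powers `S ^ 2 ^ i`, `i < q`, differ everywhere.
-/

set_option autoImplicit false
set_option linter.style.haveILetI false
set_option linter.unusedSectionVars false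

namespace CfsgLib.Bender.OddQuot

open Polynomial

universe u

theorem eq_zero_of_det_smul {R M : Type*} [CommRing R] [AddCommGroup M] [Module R M] {n : ℕ}
    (A : Matrix (Fin n) (Fin n) R) (hA : ∀ u : M, A.det • u = 0 → u = 0) (u : Fin n → M)
    (h : ∀ i, ∑ j, A i j • u j = 0) (k : Fin n) : u k = 0 := by
  refine hA _ ?_
  calc A.det • u k = ∑ j, (A.det • (1 : Matrix (Fin n) (Fin n) R)) k j • u j := by
        simp [Matrix.smul_apply, Matrix.one_apply, ite_smul]
    _ = ∑ j, (A.adjugate * A) k j • u j := by rw [Matrix.adjugate_mul]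
    _ = ∑ i, A.adjugate k i • ∑ j, A i j • u j := by
        simp only [Matrix.mul_apply, Finset.sum_smul, Finset.smul_sum, smul_smul]
        exact Finset.sum_comm
    _ = 0 := by simp [h]

/-- The twisted situation. -/
structure Twist (p q : ℕ) {M : Type u} [AddCommGroup M] [Module (ZMod p) M]
    (S Y : Module.End (ZMod p) M) (v₀ : M) : Prop where
  two_le : 2 ≤ q
  card : Nat.card M = p ^ q
  ne_zero : v₀ ≠ 0
  fixed : Y v₀ = v₀
  line : ∀ v : M, Y v = v → ∃ c : ZMod p, v = c • v₀
  period : Y ^ q = 1
  twist : Y * S = S ^ 2 * Y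
  cycle : S ^ 2 ^ q = S
  sep : ∀ i j : ℕ, i < j → j < q → ∀ u : M, (S ^ 2 ^ j) u = (S ^ 2 ^ i) u → u = 0

namespace Twist

variable {p q : ℕ} [hp : Fact p.Prime] {M : Type u} [AddCommGroup M] [Finite M] [Module (ZMod p) M]
  {S Y : Module.End (ZMod p) M} {v₀ : M} (T : Twist p q S Y v₀)
include T

theorem pow_twist : ∀ l j : ℕ, Y ^ l * S ^ j = S ^ (2 ^ l * j) * Y ^ l := by
  have h1 : ∀ j : ℕ, Y * S ^ j = S ^ (2 * j) * Y := fun j => by
    induction j with
    | zero => simp
    | succ j ih =>
      rw [pow_succ, ← mul_assoc, ih, mul_assoc, T.twist, ← mul_assoc, ← pow_add, mul_add_one]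
  intro l
  induction l with
  | zero => intro j; simp
  | succ l ih =>
    intro j
    rw [pow_succ', mul_assoc, ih, ← mul_assoc, h1, mul_assoc, ← mul_assoc 2, ← pow_succ']

theorem pow_fixed (l : ℕ) : (Y ^ l) v₀ = v₀ := by
  induction l with
  | zero => simp
  | succ l ih => rw [pow_succ, Module.End.mul_apply, T.fixed, ih]

/-- The powers `S ^ j v₀`, `j < q`, are independent. -/
theorem linearIndependent : LinearIndependent (ZMod p) fun j : Fin q => (S ^ (j : ℕ)) v₀ := by
  classical
  rw [Fintype.linearIndependent_iff]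
  intro c hc
  letI : Module (Polynomial (ZMod p)) M := Module.compHom M (Polynomial.aeval S).toRingHom
  have hX : ∀ (n : ℕ) (v : M), (X ^ n : Polynomial (ZMod p)) • v = (S ^ n) v := fun n v => by
    show (aeval S (X ^ n : Polynomial (ZMod p))) v = _
    rw [aeval_X_pow]
  set a : Fin q → Polynomial (ZMod p) := fun l => X ^ 2 ^ (l : ℕ) with ha
  have hinj : ∀ i j : Fin q, i < j → ∀ u : M, (a j - a i) • u = 0 → u = 0 := fun i j hij u hu => by
    rw [sub_smul, sub_eq_zero, ha, hX, hX] at hu
    exact T.sep i j hij j.2 u hu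
  have hdet : ∀ u : M, (Matrix.vandermonde a).det • u = 0 → u = 0 := by
    rw [Matrix.det_vandermonde]
    refine Finset.prod_induction _ (fun p : Polynomial (ZMod p) => ∀ u : M, p • u = 0 → u = 0)
      ?_ ?_ ?_
    · exact fun a b ha hb u hu => hb u (ha _ (by rwa [smul_smul]))
    · exact fun u hu => by simpa using hu
    · intro i _
      refine Finset.prod_induction _ (fun p : Polynomial (ZMod p) => ∀ u : M, p • u = 0 → u = 0)
        ?_ ?_ ?_
      · exact fun a b ha hb u hu => hb u (ha _ (by rwa [smul_smul]))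
      · exact fun u hu => by simpa using hu
      · exact fun j hj => hinj i j (Finset.mem_Ioi.1 hj)
  have hrows : ∀ l : Fin q, ∑ j, Matrix.vandermonde a l j • (c j • v₀) = 0 := by
    intro l
    have h := congrArg (Y ^ (l : ℕ)) hc
    rw [map_zero, map_sum] at h
    rw [← h]
    refine Finset.sum_congr rfl fun j _ => ?_
    rw [Matrix.vandermonde_apply, ha, ← pow_mul, hX, map_smul, map_smul, ← Module.End.mul_apply (Y ^ _),
      T.pow_twist, Module.End.mul_apply, T.pow_fixed]
  intro k
  have h := eq_zero_of_det_smul _ hdet (fun j => c j • v₀) hrows k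
  exact (smul_eq_zero.1 h).resolve_right T.ne_zero

theorem span_eq_top : Submodule.span (ZMod p) (Set.range fun j : Fin q => (S ^ (j : ℕ)) v₀) = ⊤ := by
  haveI : Module.Finite (ZMod p) M := Module.Finite.of_finite
  refine T.linearIndependent.span_eq_top_of_card_eq_finrank' ?_
  have h := Module.natCard_eq_pow_finrank (K := ZMod p) (V := M)
  rw [T.card, Nat.card_zmod] at h
  rw [Fintype.card_fin]
  exact Nat.pow_right_injective hp.out.two_le h

/-- A linear map commuting with `S` is determined by the image of `v₀`. -/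
theorem ext_of_commute {g h : Module.End (ZMod p) M} (hg : Commute g S) (hh : Commute h S)
    (h0 : g v₀ = h v₀) : g = h := by
  refine LinearMap.ext_on_range T.span_eq_top fun j => ?_
  rw [← Module.End.mul_apply, (hg.pow_right _).eq, ← Module.End.mul_apply,
    (hh.pow_right _).eq, Module.End.mul_apply, Module.End.mul_apply, h0]

/-- Two linear maps commuting with `S` commute. -/
theorem commute_of_commute {g h : Module.End (ZMod p) M} (hg : Commute g S) (hh : Commute h S) :
    Commute g h := by
  refine T.ext_of_commute (hg.mul_left hh) (hh.mul_left hg) ?_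
  obtain ⟨c, hc⟩ := Submodule.mem_span_range_iff_exists_fun _ |>.1
    (show g v₀ ∈ _ by rw [T.span_eq_top]; trivial)
  obtain ⟨d, hd⟩ := Submodule.mem_span_range_iff_exists_fun _ |>.1
    (show h v₀ ∈ _ by rw [T.span_eq_top]; trivial)
  have key : ∀ (f : Module.End (ZMod p) M), Commute f S → ∀ j : ℕ,
      f ((S ^ j) v₀) = (S ^ j) (f v₀) := fun f hf j => by
    rw [← Module.End.mul_apply, (hf.pow_right j).eq, Module.End.mul_apply]
  rw [Module.End.mul_apply, Module.End.mul_apply, ← hd, ← hc, map_sum, map_sum]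
  simp only [map_smul, key g hg, key h hh]
  rw [← hd, ← hc]
  simp only [map_sum, map_smul, Finset.smul_sum, smul_smul]
  rw [Finset.sum_comm]
  refine Finset.sum_congr rfl fun i _ => Finset.sum_congr rfl fun j _ => ?_
  rw [mul_comm, ← Module.End.mul_apply, ← Module.End.mul_apply, ← pow_add, ← pow_add, add_comm]

/-- A linear map commuting with `S` and `Y` is a scalar. -/
theorem exists_smul_of_commute {g : Module.End (ZMod p) M} (hg : Commute g S) (hgY : Commute g Y) :
    ∃ c : ZMod p, g = c • (1 : Module.End (ZMod p) M) := by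
  obtain ⟨c, hc⟩ := T.line (g v₀) (by
    rw [← Module.End.mul_apply, ← hgY.eq, Module.End.mul_apply, T.fixed])
  exact ⟨c, T.ext_of_commute hg ((Commute.one_left S).smul_left c) (by simpa using hc)⟩

/-- The characteristic is a power of two on some vector. -/
theorem exists_pow_eq :
    ∃ l < q, ∃ u : M, u ≠ 0 ∧ (S ^ p) u = (S ^ 2 ^ l) u := by
  classical
  haveI : Nontrivial M := ⟨⟨v₀, 0, T.ne_zero⟩⟩
  by_contra hno
  push Not at hno
  set A := (Polynomial.aeval (R := ZMod p) S).range with hA
  letI : CommRing A :=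
    { (inferInstance : Ring A) with
      mul_comm := fun a b => by
        obtain ⟨x, hx⟩ := a.2
        obtain ⟨y, hy⟩ := b.2
        refine Subtype.ext ?_
        show (a : Module.End (ZMod p) M) * b = b * a
        rw [← hx, ← hy]
        show aeval S x * aeval S y = aeval S y * aeval S x
        rw [← map_mul, mul_comm, map_mul] }
  letI : Algebra (ZMod p) A := Subalgebra.algebra A
  have hq1 : q = (q - 1) + 1 := by have := T.two_le; omega
  set Y' := Y ^ (q - 1) with hY'
  have hYY' : Y * Y' = 1 := by rw [hY', ← pow_succ', ← hq1, T.period]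
  have hY'Y : Y' * Y = 1 := by rw [hY', ← pow_succ, ← hq1, T.period]
  let γ : Module.End (ZMod p) M →ₐ[ZMod p] Module.End (ZMod p) M := AlgHom.ofLinearMap
    { toFun := fun x => Y * x * Y'
      map_add' := fun x y => by rw [mul_add, add_mul]
      map_smul' := fun c x => by rw [mul_smul_comm, smul_mul_assoc]; rfl }
    (by show Y * 1 * Y' = 1; rw [mul_one, hYY'])
    (fun x y => by
      show Y * (x * y) * Y' = Y * x * Y' * (Y * y * Y')
      calc Y * (x * y) * Y' = Y * x * 1 * y * Y' := by rw [mul_one, mul_assoc Y x y]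
        _ = _ := by rw [← hY'Y]; simp only [mul_assoc])
  have hγS : ∀ j : ℕ, γ (S ^ j) = S ^ (2 * j) := fun j => by
    show Y * S ^ j * Y' = _
    have := T.pow_twist 1 j
    rw [pow_one, pow_one] at this
    rw [this, mul_assoc, hYY', mul_one]
  have hγA : ∀ x ∈ A, γ x ∈ A := by
    rintro x ⟨y, rfl⟩
    refine ⟨y.comp (X ^ 2), ?_⟩
    show aeval S (y.comp (X ^ 2)) = γ (aeval S y)
    rw [aeval_comp, aeval_X_pow, ← aeval_algHom_apply]
    congr 2
    have := hγS 1
    rw [pow_one, mul_one] at this
    exact this.symm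
  let ν : A →ₐ[ZMod p] A := (γ.comp A.val).codRestrict A fun x => hγA x x.2
  let a : ℕ → A := fun l => ⟨S ^ 2 ^ l, (X ^ 2 ^ l), by
    show aeval S (X ^ 2 ^ l : Polynomial (ZMod p)) = _
    rw [aeval_X_pow]⟩
  have hνa : ∀ l, ν (a l) = a (l + 1) := fun l => Subtype.ext (by
    show γ (S ^ 2 ^ l) = S ^ 2 ^ (l + 1)
    rw [hγS, ← pow_succ'])
  have haq : a q = a 0 := Subtype.ext (by
    show S ^ 2 ^ q = S ^ 2 ^ 0
    rw [T.cycle, pow_zero, pow_one])
  set P : Polynomial A := ∏ l ∈ Finset.range q, (X - C (a l)) with hP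
  have hPν : P.map (ν : A →+* A) = P := by
    rw [hP, Polynomial.map_prod]
    simp only [Polynomial.map_sub, map_X, map_C, RingHom.coe_coe, hνa]
    rw [hq1, Finset.prod_range_succ (fun l => X - C (a (l + 1))) (q - 1),
      Finset.prod_range_succ' (fun l => X - C (a l)) (q - 1), ← hq1, haq]
  have hcoef : ∀ j : ℕ, ∃ c : ZMod p, P.coeff j = algebraMap (ZMod p) A c := by
    intro j
    have h1 : ν (P.coeff j) = P.coeff j := by
      conv_rhs => rw [← hPν]
      rw [coeff_map]
      rfl
    set x : Module.End (ZMod p) M := (P.coeff j).1 with hx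
    have hxS : Commute x S := by
      obtain ⟨y, hy⟩ := (P.coeff j).2
      rw [hx, ← hy]
      show aeval S y * S = S * aeval S y
      conv_lhs => arg 2; rw [← aeval_X (R := ZMod p) S]
      conv_rhs => arg 1; rw [← aeval_X (R := ZMod p) S]
      rw [← map_mul, ← map_mul, mul_comm]
    have hxY : Commute x Y := by
      have h2 : Y * x * Y' = x := congrArg Subtype.val h1
      show x * Y = Y * x
      conv_lhs => rw [← h2]
      rw [mul_assoc, hY'Y, mul_one]
    obtain ⟨c, hc⟩ := T.exists_smul_of_commute hxS hxY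
    exact ⟨c, Subtype.ext (hc.trans (Algebra.algebraMap_eq_smul_one c).symm)⟩
  have hlifts : P ∈ lifts (algebraMap (ZMod p) A) := by
    rw [lifts_iff_coeff_lifts]
    exact fun j => (hcoef j).imp fun c hc => hc.symm
  obtain ⟨Q, hQ⟩ := (mem_lifts _).1 hlifts
  have heval : ∀ x : A, aeval x Q = ∏ l ∈ Finset.range q, (x - a l) := fun x => by
    rw [aeval_def, ← eval_map, hQ, hP, eval_prod]
    simp
  have h0 : aeval (a 0) Q = 0 := by
    rw [heval]
    exact Finset.prod_eq_zero (Finset.mem_range.2 (by omega)) (sub_self _)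
  have hp0 : aeval (a 0 ^ p) Q = 0 := by
    rw [← expand_aeval, ZMod.expand_card, map_pow, h0, zero_pow hp.out.ne_zero]
  rw [heval] at hp0
  have key : ∀ s : Finset ℕ, s ⊆ Finset.range q → ∀ u : M,
      ((∏ l ∈ s, (a 0 ^ p - a l) : A) : Module.End (ZMod p) M) u = 0 → u = 0 := by
    intro s
    induction s using Finset.induction with
    | empty => exact fun _ u hu => by simpa using hu
    | @insert l s hl ih =>
      intro hs u hu
      rw [Finset.prod_insert hl] at hu
      refine ih (fun x hx => hs (Finset.mem_insert_of_mem hx)) u ?_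
      by_contra hne
      refine hno l (Finset.mem_range.1 (hs (Finset.mem_insert_self _ _))) _ hne ?_
      have h' : ((a 0 ^ p - a l : A) : Module.End (ZMod p) M) = S ^ p - S ^ 2 ^ l := by
        show (S ^ 2 ^ 0) ^ p - S ^ 2 ^ l = _
        rw [pow_zero, pow_one]
      rw [MulMemClass.coe_mul, h', Module.End.mul_apply, LinearMap.sub_apply, sub_eq_zero] at hu
      exact hu
  exact T.ne_zero (key _ subset_rfl v₀ (by rw [hp0]; rfl))

end Twist

end CfsgLib.Bender.OddQuot
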