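import Cfsg.Agent.Lib.Bender.OddQuot.Small
import Cfsg.Agent.Lib.Bender.OddQuot.GoodOdd
import Cfsg.Agent.Lib.Bender.OddQuot.GLThree
import Cfsg.Agent.Lib.Bender.OddQuot.DetInvol

/-!
# An even quotient of degree three

`|E| = 8`, `X` has at most 21 involutions, and a count in the character group of `V` finds characters
neither fixed nor inverted by involutions.
-/

set_option autoImplicit false
set_option linter.style.haveILetI false
set_option linter.unusedSectionVars false

namespace CfsgLib.Bender.OddQuot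

open Subgroup

universe u

variable {X E V : Type u} [Group X] [CommGroup E] [CommGroup V] [Finite X] [Finite E] [Finite V]
  {p : ℕ} {D : Subgroup X} {actE : X →* MulAut E} {actV : X →* MulAut V} {t : E}

/-- The linear characters fixed by `g`. -/
def charFix (actV : X →* MulAut V) (g : X) : Subgroup (V →* ℂˣ) where
  carrier := {θ | ∀ v, θ (actV g v) = θ v}
  one_mem' := fun _ => rfl
  mul_mem' := fun {θ η} hθ hη v => by rw [MonoidHom.mul_apply, MonoidHom.mul_apply, hθ v, hη v]
  inv_mem' := fun {θ} hθ v => by rw [MonoidHom.inv_apply, MonoidHom.inv_apply, hθ v]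

/-- The linear characters inverted by `g`. -/
def charInv (actV : X →* MulAut V) (g : X) : Subgroup (V →* ℂˣ) where
  carrier := {θ | ∀ v, θ (actV g v) = (θ v)⁻¹}
  one_mem' := fun _ => by simp
  mul_mem' := fun {θ η} hθ hη v => by
    rw [MonoidHom.mul_apply, MonoidHom.mul_apply, hθ v, hη v, mul_inv]
  inv_mem' := fun {θ} hθ v => by rw [MonoidHom.inv_apply, MonoidHom.inv_apply, hθ v]

namespace Data

variable (S : Data p D actE actV t) (hX : Even (Nat.card X)) (f : Frame D actE t) {y : X}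
  (h : f.Shape actV p 3 y)
include S h

theorem three_facts : Nat.card E = 8 ∧ Nat.card V = p ^ 3 ∧ (p = 11 ∨ 23 ≤ p) ∧
    orderOf (f.σ : X) = 7 ∧ orderOf y = 3 := by
  obtain ⟨hE, hV, hlt, -⟩ := S.shape_facts f h
  have hσ : orderOf (f.σ : X) = 7 := by rw [Subgroup.orderOf_coe, f.σord, hE]; norm_num
  refine ⟨by rw [hE]; norm_num, hV, ?_, hσ, ?_⟩
  · obtain ⟨l, hl, hmod⟩ := h.twisted.exists_modEq
    rw [hE] at hmod
    have hp7 : p % 7 = 1 ∨ p % 7 = 2 ∨ p % 7 = 4 := by
      interval_cases l <;> simp_all [Nat.ModEq]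
    have hp := S.prime
    by_contra hno
    push Not at hno
    obtain ⟨h11, h23⟩ := hno
    norm_num at hlt
    interval_cases p <;> first | (norm_num at hp; done) | omega
  · haveI : Fact (Nat.Prime 3) := ⟨Nat.prime_three⟩
    refine orderOf_eq_prime h.twisted.period fun hy => ?_
    have hc := h.twisted.conj
    rw [hy, one_mul, inv_one, mul_one, pow_two, left_eq_mul] at hc
    rw [hc, orderOf_one] at hσ
    norm_num at hσ

theorem sigma_free_data : (orderOf (f.σ : X)).Prime ∧ orderOf (f.σ : X) ∣ Nat.card E - 1 := by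
  obtain ⟨hE, -, -, hσ, -⟩ := S.three_facts f h
  rw [hσ, hE]
  norm_num

/-- Elements commuting with `σ` lie in `D`. -/
theorem mem_D_of_commute {g : X} (hg : Commute g (f.σ : X)) : g ∈ D :=
  S.centralizer_le f.σ.2 (S.sigma_free_data f h).1 (S.sigma_free_data f h).2
    (mem_centralizer_singleton_iff.2 hg.eq)

theorem ker_pow {a : X} (ha : a ∈ actE.ker) : ∃ c : ℕ, ∀ v : V, actV a v = v ^ c :=
  h.twisted.exists_pow_of_commute
    (mem_centralizer_iff.1 (S.closure_le_centralizer f.σY) a ha)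
    (mem_centralizer_iff.1 (S.closure_le_centralizer (mem_galoisPart.1 h.mem).2.1) a ha)

theorem ker_central {a : X} (ha : a ∈ actE.ker) (g : X) : Commute a g := by
  obtain ⟨c, hc⟩ := S.ker_pow f h ha
  refine S.faithful ?_
  rw [map_mul, map_mul]
  refine MulEquiv.ext fun v => ?_
  rw [MulAut.mul_apply, MulAut.mul_apply, hc, hc, map_pow]

theorem ker_free {a : X} (ha : a ∈ actE.ker) (ha1 : a ≠ 1) {v : V} (hv : actV a v = v) :
    v = 1 := by
  obtain ⟨c, hc⟩ := S.ker_pow f h ha
  by_contra hv1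
  haveI := S.fact_prime
  have ho : orderOf v = p := orderOf_eq_prime (S.expV v) hv1
  rw [hc] at hv
  have hmod : c ≡ 1 [MOD p] := by
    rw [← ho, ← pow_eq_pow_iff_modEq, pow_one]
    exact hv
  refine ha1 (S.faithful ?_)
  rw [map_one]
  refine MulEquiv.ext fun u => ?_
  rw [hc, MulAut.one_apply]
  conv_rhs => rw [← pow_one u]
  exact pow_eq_pow_iff_modEq.2 (hmod.of_dvd (orderOf_dvd_of_pow_eq_one (S.expV u)))

/-- For `p = 11` the kernel has exponent five. -/
theorem ker_pow_five (hp : p = 11) {a : X} (ha : a ∈ actE.ker) : a ^ 5 = 1 := by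
  obtain ⟨c, hc⟩ := S.ker_pow f h ha
  have hpow : ∀ (n : ℕ) (v : V), actV (a ^ n) v = v ^ c ^ n := by
    intro n
    induction n with
    | zero => intro v; simp
    | succ n ih => intro v; rw [pow_succ', map_mul, MulAut.mul_apply, ih, hc, ← pow_mul, pow_succ]
  have hcp : ¬ p ∣ c := by
    intro hd
    haveI := S.ntV
    obtain ⟨v, hv⟩ := exists_ne (1 : V)
    obtain ⟨e, rfl⟩ := hd
    refine hv ((actV a).injective ?_)
    rw [hc, map_one, pow_mul, S.expV, one_pow]
  have hmod : c ^ 10 ≡ 1 [MOD p] := by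
    have h1 := Nat.ModEq.pow_totient ((S.prime.coprime_iff_not_dvd.2 hcp).symm)
    rwa [Nat.totient_prime S.prime, show p - 1 = 10 by omega] at h1
  have h10 : a ^ 10 = 1 := S.faithful (by
    rw [map_one]
    refine MulEquiv.ext fun u => ?_
    rw [hpow, MulAut.one_apply]
    conv_rhs => rw [← pow_one u]
    exact pow_eq_pow_iff_modEq.2 (hmod.of_dvd (orderOf_dvd_of_pow_eq_one (S.expV u))))
  refine orderOf_dvd_iff_pow_eq_one.1 ?_
  refine (Nat.Coprime.dvd_of_dvd_mul_left ?_
    (orderOf_dvd_of_pow_eq_one h10 : orderOf a ∣ 2 * 5))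
  exact Nat.coprime_two_right.2 (S.odd_ker.of_dvd_nat (Subgroup.orderOf_dvd_natCard _ ha))

theorem image_orders (g : X) : g ^ 4 ∈ actE.ker ∨ g ^ 3 ∈ actE.ker ∨ g ^ 7 ∈ actE.ker := by
  rcases GLThree.orders S.expE (S.three_facts f h).1 (actE g) with e | e | e <;>
    rw [← map_pow] at e
  · exact Or.inl e
  · exact Or.inr (Or.inl e)
  · exact Or.inr (Or.inr e)

theorem card_dvd : Nat.card X ∣ Nat.card actE.ker * 168 := by
  rw [Subgroup.card_eq_card_quotient_mul_card_subgroup actE.ker, mul_comm,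
    Nat.card_congr (QuotientGroup.quotientKerEquivRange actE).toEquiv]
  refine Nat.mul_dvd_mul_left _ ?_
  rw [← GLThree.card_mulAut S.expE (S.three_facts f h).1]
  exact Subgroup.card_subgroup_dvd_card _

theorem not_dvd_ker : ¬ 7 ∣ Nat.card actE.ker := by
  intro hd
  haveI : Fact (Nat.Prime 7) := ⟨by norm_num⟩
  obtain ⟨a, ha⟩ := exists_prime_orderOf_dvd_card' (G := actE.ker) 7 hd
  rw [← Subgroup.orderOf_coe] at ha
  have hfix : actE (a : X) t = t := by rw [MonoidHom.mem_ker.1 a.2]; rfl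
  have hcop := S.coprime_of_fix (S.ker_le a.2) S.t_ne hfix
  rw [ha, (S.three_facts f h).1] at hcop
  norm_num at hcop

include hX

/-- Involutions lie in the free closure. -/
theorem mem_closure_of_sq {w : X} (hw : w * w = 1) : w ∈ freeClosure D (Nat.card E - 1) := by
  set Y := freeClosure D (Nat.card E - 1) with hY
  haveI : Fact (Nat.Prime 7) := ⟨by norm_num⟩
  obtain ⟨hσp, hσm⟩ := S.sigma_free_data f h
  obtain ⟨-, -, -, hσ, -⟩ := S.three_facts f h
  set s : Y := ⟨(f.σ : X), f.σY⟩ with hs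
  obtain ⟨P, hP⟩ := (IsPGroup.of_card (p := 7) (n := 1)
    (show Nat.card (zpowers s) = 7 ^ 1 by
      rw [Nat.card_zpowers, ← Subgroup.orderOf_coe, pow_one]; exact hσ)).exists_le_sylow
  have hPeq : (P : Subgroup Y) = zpowers s := by
    refine (eq_of_le_of_card_ge hP ?_).symm
    obtain ⟨k, hk⟩ := IsPGroup.iff_card.1 P.2
    rw [Nat.card_zpowers, ← Subgroup.orderOf_coe, hk]
    show 7 ^ k ≤ orderOf (f.σ : X)
    rw [hσ]
    have hdvd : 7 ^ k ∣ Nat.card actE.ker * 168 := hk ▸ ((Subgroup.card_subgroup_dvd_card _).trans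
      (Subgroup.card_subgroup_dvd_card Y)).trans (S.card_dvd f h)
    have h7 : 7 ^ k ∣ 168 := Nat.Coprime.dvd_of_dvd_mul_left
      (((Nat.Prime.coprime_iff_not_dvd (by norm_num)).2 (S.not_dvd_ker f h)).pow_left k) hdvd
    rcases k with _ | _ | k
    · norm_num
    · norm_num
    · have : 7 ^ 2 ∣ 168 := (pow_dvd_pow 7 (by omega)).trans h7
      norm_num at this
  have hfr : normalizer ((((P : Subgroup Y).map Y.subtype : Subgroup X) : Set X)) ⊔ Y = ⊤ :=
    Sylow.normalizer_sup_eq_top P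
  rw [hPeq, MonoidHom.map_zpowers] at hfr
  have hN : normalizer ((zpowers (f.σ : X)) : Set X) ≤ D := S.normalizer_le _ f.σ.2 hσp hσm
  have htop : w ∈ D ⊔ Y := by
    have : w ∈ normalizer ((zpowers (f.σ : X)) : Set X) ⊔ Y := by
      rw [show normalizer ((zpowers (f.σ : X)) : Set X) ⊔ Y = ⊤ from hfr]
      exact mem_top w
    exact sup_le_sup_right hN Y this
  obtain ⟨d, hd, z, hz, rfl⟩ := mem_sup_of_normal_right.1 htop
  have h1 : ((d * z : X) : X ⧸ Y) = (d : X ⧸ Y) := by
    rw [QuotientGroup.eq]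
    simpa using Y.inv_mem hz
  have h2 : orderOf (d : X ⧸ Y) ∣ 2 := orderOf_dvd_of_pow_eq_one (by
    rw [← h1, ← QuotientGroup.mk_pow, pow_two, hw, QuotientGroup.mk_one])
  have h3 : orderOf (d : X ⧸ Y) ∣ Nat.card D :=
    (orderOf_map_dvd (QuotientGroup.mk' Y) d).trans (Subgroup.orderOf_dvd_natCard _ hd)
  have h4 : (d : X ⧸ Y) = 1 :=
    orderOf_eq_one_iff.1 (Nat.eq_one_of_dvd_coprimes (Nat.coprime_two_left.2 S.oddD) h2 h3)
  rw [← QuotientGroup.eq_one_iff, h1, h4]

/-- There are at most 21 involutions. -/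
theorem ncard_invol_le : {w : X | w * w = 1 ∧ w ≠ 1}.ncard ≤ 21 := by
  classical
  refine le_trans ?_ (GLThree.ncard_invol_le S.expE (S.three_facts f h).1)
  have hodd : ∀ a ∈ actE.ker, a * a = 1 → a = 1 := fun a ha h2 => orderOf_eq_one_iff.1
    (Nat.eq_one_of_dvd_coprimes
      (Nat.coprime_two_left.2 (S.odd_ker.of_dvd_nat (Subgroup.orderOf_dvd_natCard _ ha)))
      (orderOf_dvd_of_pow_eq_one (by rw [pow_two]; exact h2)) dvd_rfl)
  refine Set.ncard_le_ncard_of_injOn actE (fun w hw => ?_) (fun w hw w' hw' e => ?_) (Set.toFinite _)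
  · exact ⟨by rw [← map_mul, hw.1, map_one], fun e => hw.2 (hodd w (MonoidHom.mem_ker.2 e) hw.1)⟩
  · have hwi : w⁻¹ = w := inv_eq_of_mul_eq_one_right hw.1
    set a := w⁻¹ * w' with ha
    have hak : a ∈ actE.ker := by
      rw [MonoidHom.mem_ker, ha, map_mul, map_inv, e, inv_mul_cancel]
    have h2 : a * a = 1 := by
      have hc := (S.ker_central f h hak w).eq
      have hw'' : w' = w * a := by rw [ha, mul_inv_cancel_left]
      have := hw'.1
      rw [hw'', mul_assoc, ← mul_assoc a, hc, mul_assoc, ← mul_assoc, hw.1, one_mul] at this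
      exact this
    exact inv_mul_eq_one.1 (hodd a hak h2)

omit hX

theorem charFix_inf_charInv (g : X) : charFix actV g ⊓ charInv actV g = ⊥ := by
  refine (eq_bot_iff_forall _).2 fun θ hθ => S.eq_one_of_sq fun v => ?_
  rw [pow_two]
  nth_rewrite 1 [← hθ.1 v]
  rw [hθ.2 v, inv_mul_cancel]

theorem card_dual : Nat.card (V →* ℂˣ) = p ^ 3 := by
  rw [CommGroup.card_monoidHom_of_hasEnoughRootsOfUnity, (S.three_facts f h).2.1]

theorem finite_dual : Finite (V →* ℂˣ) :=
  Nat.finite_of_card_ne_zero (by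
    rw [S.card_dual f h]; exact pow_ne_zero _ S.prime.ne_zero)

theorem exists_card_pow (K : Subgroup (V →* ℂˣ)) (hK : K ≠ ⊤) :
    ∃ i ≤ 2, Nat.card K = p ^ i := by
  haveI := S.finite_dual f h
  haveI := S.fact_prime
  obtain ⟨i, hi3, hi⟩ := (Nat.dvd_prime_pow S.prime).1
    (S.card_dual f h ▸ Subgroup.card_subgroup_dvd_card K)
  refine ⟨i, ?_, hi⟩
  rcases Nat.lt_or_ge i 3 with hlt | hge
  · omega
  · refine absurd (Subgroup.eq_top_of_card_eq K ?_) hK
    rw [hi, show i = 3 by omega, S.card_dual f h]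

theorem charFix_ne_top {g : X} (hg : g ≠ 1) : charFix actV g ≠ ⊤ := by
  intro htop
  refine hg (S.faithful ?_)
  rw [map_one]
  refine MulEquiv.ext fun v => ?_
  by_contra hne
  obtain ⟨θ, hθ⟩ := CommGroup.exists_apply_ne_one_of_hasEnoughRootsOfUnity V ℂ
    (fun e : actV g v * v⁻¹ = 1 => hne (mul_inv_eq_one.1 e))
  refine hθ ?_
  rw [map_mul, map_inv, (show θ ∈ charFix actV g by rw [htop]; exact mem_top θ) v, mul_inv_cancel]

theorem charInv_ne_top {w : X} (hw : w * w = 1) (hw1 : w ≠ 1) : charInv actV w ≠ ⊤ := by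
  intro htop
  have hinv : ∀ v : V, actV w v = v⁻¹ := fun v => by
    by_contra hne
    obtain ⟨θ, hθ⟩ := CommGroup.exists_apply_ne_one_of_hasEnoughRootsOfUnity V ℂ
      (fun e : actV w v * v = 1 => hne (mul_eq_one_iff_eq_inv.1 e))
    refine hθ ?_
    rw [map_mul, (show θ ∈ charInv actV w by rw [htop]; exact mem_top θ) v, inv_mul_cancel]
  have hc : Commute w (f.σ : X) := S.faithful (by
    rw [map_mul, map_mul]
    refine MulEquiv.ext fun v => ?_
    rw [MulAut.mul_apply, MulAut.mul_apply, hinv, hinv, map_inv])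
  refine hw1 (orderOf_eq_one_iff.1 ?_)
  exact Nat.eq_one_of_dvd_coprimes (Nat.coprime_two_left.2 S.oddD)
    (orderOf_dvd_of_pow_eq_one (by rw [pow_two]; exact hw))
    (Subgroup.orderOf_dvd_natCard _ (S.mem_D_of_commute f h hc))

/-- An involution fixes or inverts at most `p + p ^ 2` characters. -/
theorem ncard_fix_inv_le {w : X} (hw : w * w = 1) (hw1 : w ≠ 1) :
    ((charFix actV w : Set (V →* ℂˣ)) ∪ charInv actV w).ncard ≤ p + p ^ 2 := by
  haveI := S.finite_dual f h
  obtain ⟨i, hi, hci⟩ := S.exists_card_pow f h _ (S.charFix_ne_top f h hw1)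
  obtain ⟨j, hj, hcj⟩ := S.exists_card_pow f h _ (S.charInv_ne_top f h hw hw1)
  have hij : i + j ≤ 3 := by
    refine (Nat.pow_le_pow_iff_right S.prime.one_lt).1 ?_
    rw [pow_add, ← hci, ← hcj, ← Nat.card_prod, ← S.card_dual f h]
    exact Nat.card_le_card_of_injective _ (Subgroup.mul_injective_of_disjoint
      (disjoint_iff.2 (S.charFix_inf_charInv f h w)))
  refine (Set.ncard_union_le _ _).trans ?_
  rw [← Nat.card_coe_set_eq, ← Nat.card_coe_set_eq, SetLike.coe_sort_coe, SetLike.coe_sort_coe,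
    hci, hcj]
  have hp1 := S.prime.pos
  have e2 : p ≤ p ^ 2 := Nat.le_self_pow (by norm_num) p
  interval_cases i <;> interval_cases j <;> first | omega | (simp only [pow_zero, pow_one]; omega)

/-- The determinant kills the free closure. -/
theorem det_eq_one [Fact p.Prime] [Module (ZMod p) (Additive V)]
    (lin : X →* Module.End (ZMod p) (Additive V)) {w : X}
    (hw : w ∈ freeClosure D (Nat.card E - 1)) (hX : Even (Nat.card X)) :
    LinearMap.det (lin w) = 1 := by
  obtain ⟨hE, -, -, hσ, -⟩ := S.three_facts f h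
  set φ : X →* (ZMod p)ˣ := (LinearMap.det.comp lin).toHomUnits with hφ
  have hφσ : φ (f.σ : X) = 1 := by
    have := congrArg φ h.twisted.conj
    rw [map_mul, map_mul, map_inv, mul_right_comm, mul_inv_cancel, one_mul, map_pow, pow_two,
      left_eq_mul] at this
    exact this
  have hle : freeClosure D (Nat.card E - 1) ≤ φ.ker := by
    refine normalClosure_le_normal fun g hg => ?_
    obtain ⟨hgD, hgp, hgm⟩ := hg
    have hg7 : orderOf g = 7 := by
      rw [hE] at hgm
      exact (Nat.prime_dvd_prime_iff_eq hgp (by norm_num)).1 hgm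
    obtain ⟨n, rfl⟩ := mem_zpowers_iff.1 (S.unique_free hX f.σ.2 (S.sigma_free_data f h).1
      (S.sigma_free_data f h).2 hgD (hg7.trans hσ.symm))
    show φ _ = 1
    rw [map_zpow, hφσ, one_zpow]
  exact congrArg Units.val (MonoidHom.mem_ker.1 (hle hw))

include hX

/-- In characteristic eleven an involution fixes at most `p` characters. -/
theorem card_charFix_le {w : X} (hw : w * w = 1) (hw1 : w ≠ 1) :
    Nat.card (charFix actV w) ≤ p := by
  classical
  haveI := S.fact_prime
  obtain ⟨hMod, lin, v₀, hlin, hT⟩ := h.twisted.exists_linear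
  haveI : Finite (Additive V) := Finite.of_equiv V Additive.ofMul
  haveI : Module.Finite (ZMod p) (Additive V) := Module.Finite.of_finite
  have hrank : Module.finrank (ZMod p) (Additive V) = 3 := by
    have h1 := Module.natCard_eq_pow_finrank (K := ZMod p) (V := Additive V)
    rw [show Nat.card (Additive V) = Nat.card V from Nat.card_congr Additive.toMul,
      (S.three_facts f h).2.1, Nat.card_zmod] at h1
    exact (Nat.pow_right_injective S.prime.two_le h1).symm
  have hne : lin w ≠ 1 := fun e => hw1 (S.faithful (MulEquiv.ext fun v => by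
    have h2 := DFunLike.congr_fun e (Additive.ofMul v)
    rw [hlin, Module.End.one_apply] at h2
    rw [map_one, MulAut.one_apply]
    exact congrArg Additive.toMul h2))
  have hle := card_fixed_le_of_det S.ne_two hrank (lin w) (by rw [← map_mul, hw, map_one]) hne
    (S.det_eq_one f h lin (S.mem_closure_of_sq hX f h hw) hX)
  refine le_trans ?_ hle
  set W := fixPts actV ({w} : Set X) with hW
  have hcW : Nat.card W = Nat.card {v : Additive V // lin w v = v} := by
    refine Nat.card_congr (Additive.ofMul.subtypeEquiv fun v => ?_)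
    rw [hlin]
    exact ⟨fun hv => congrArg Additive.ofMul (hv w rfl), fun hv g hg => by
      rw [Set.mem_singleton_iff.1 hg]; exact congrArg Additive.toMul hv⟩
  rw [← hcW, ← CommGroup.card_monoidHom_of_hasEnoughRootsOfUnity W ℂ]
  haveI : Finite (W →* ℂˣ) := Nat.finite_of_card_ne_zero (by
    rw [CommGroup.card_monoidHom_of_hasEnoughRootsOfUnity]; exact Nat.card_pos.ne')
  refine Nat.card_le_card_of_injective (fun θ => (θ : V →* ℂˣ).comp W.subtype) fun θ η hθη => ?_
  refine Subtype.ext (inv_mul_eq_one.1 (S.eq_one_of_sq fun v => ?_))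
  have hmem : v * actV w v ∈ W := fun g hg => by
    rw [Set.mem_singleton_iff.1 hg, map_mul, ← MulAut.mul_apply, ← map_mul, hw, map_one,
      MulAut.one_apply, mul_comm]
  have h1 : (θ : V →* ℂˣ) (v * actV w v) = (η : V →* ℂˣ) (v * actV w v) :=
    DFunLike.congr_fun hθη ⟨_, hmem⟩
  have hm : ∀ u, ((θ : V →* ℂˣ)⁻¹ * η) (actV w u) = ((θ : V →* ℂˣ)⁻¹ * η) u :=
    (mul_mem (inv_mem θ.2) η.2 : (θ : V →* ℂˣ)⁻¹ * η ∈ charFix actV w)
  rw [pow_two]
  nth_rewrite 2 [← hm v]
  rw [← map_mul, MonoidHom.mul_apply, MonoidHom.inv_apply, h1, inv_mul_cancel]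

end Data

end CfsgLib.Bender.OddQuot
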