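import Cfsg.Agent.Lib.Bender.OddQuot.Three

/-!
# A good character in degree three unless `p = 11` with scalars
-/

set_option autoImplicit false
set_option linter.style.haveILetI false
set_option linter.unusedSectionVars false

namespace CfsgLib.Bender.OddQuot

open Subgroup

universe u

variable {X E V : Type u} [Group X] [CommGroup E] [CommGroup V] [Finite X] [Finite E] [Finite V]
  {p : ℕ} {D : Subgroup X} {actE : X →* MulAut E} {actV : X →* MulAut V} {t : E}

/-- An element raising a character to the power `a` has its powers raising it to powers of `a`. -/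
theorem char_pow_act (actV : X →* MulAut V) {θ : V →* ℂˣ} {g : X} {a : ℕ}
    (hg : ∀ v, θ (actV g v) = θ v ^ a) : ∀ (n : ℕ) (v : V), θ (actV (g ^ n) v) = θ v ^ a ^ n
  | 0, v => by simp
  | n + 1, v => by
    rw [pow_succ', map_mul, MulAut.mul_apply, hg, char_pow_act actV hg n, ← pow_mul, pow_succ]

namespace Data

variable (S : Data p D actE actV t) (hX : Even (Nat.card X)) (f : Frame D actE t) {y : X}
  (h : f.Shape actV p 3 y)
include S hX h

/-- A character not fixed by involutions, nor inverted when `p ≥ 23`. -/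
theorem exists_avoid : ∃ θ : V →* ℂˣ, θ ≠ 1 ∧
    (∀ w : X, w * w = 1 → w ≠ 1 → θ ∉ charFix actV w) ∧
    (23 ≤ p → ∀ w : X, w * w = 1 → w ≠ 1 → θ ∉ charInv actV w) := by
  classical
  haveI := S.finite_dual f h
  letI : Fintype (V →* ℂˣ) := Fintype.ofFinite _
  obtain ⟨-, -, hp, -, -⟩ := S.three_facts f h
  set I := (Set.toFinite {w : X | w * w = 1 ∧ w ≠ 1}).toFinset with hI
  set B : X → Set (V →* ℂˣ) := fun w =>
    if 23 ≤ p then (charFix actV w : Set (V →* ℂˣ)) ∪ charInv actV w else charFix actV w with hB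
  set c := if 23 ≤ p then p + p ^ 2 else p with hc
  have hBc : ∀ w ∈ I, (B w).toFinset.card ≤ c := by
    intro w hw
    rw [Set.Finite.mem_toFinset] at hw
    rw [← Set.ncard_eq_toFinset_card']
    by_cases h23 : 23 ≤ p
    · simp only [hB, hc, if_pos h23]
      exact S.ncard_fix_inv_le f h hw.1 hw.2
    · simp only [hB, hc, if_neg h23]
      rw [← Nat.card_coe_set_eq]
      exact S.card_charFix_le hX f h hw.1 hw.2
  have hlt : 21 * c + 1 < p ^ 3 := by
    by_cases h23 : 23 ≤ p
    · rw [hc, if_pos h23]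
      have e3 : p ^ 3 = p * p ^ 2 := by ring
      have e2 : 23 * p ≤ p ^ 2 := by rw [pow_two]; exact Nat.mul_le_mul_right p h23
      have e4 : 23 * p ^ 2 ≤ p * p ^ 2 := Nat.mul_le_mul_right _ h23
      omega
    · rw [hc, if_neg h23]
      obtain rfl : p = 11 := hp.resolve_right h23
      norm_num
  have hcard : (insert (1 : V →* ℂˣ) (I.biUnion fun w => (B w).toFinset)).card < p ^ 3 := by
    refine lt_of_le_of_lt ?_ hlt
    refine (Finset.card_insert_le _ _).trans (Nat.add_le_add_right ?_ 1)
    refine Finset.card_biUnion_le.trans ((Finset.sum_le_card_nsmul I _ c hBc).trans ?_)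
    rw [smul_eq_mul]
    refine Nat.mul_le_mul_right c ?_
    rw [hI, ← Set.ncard_eq_toFinset_card]
    exact S.ncard_invol_le hX f h
  obtain ⟨θ, -, hθ⟩ := Finset.exists_mem_notMem_of_card_lt_card (t := Finset.univ)
    (hcard.trans_eq (by rw [Finset.card_univ, ← Nat.card_eq_fintype_card, S.card_dual f h]))
  rw [Finset.mem_insert, not_or, Finset.mem_biUnion] at hθ
  push Not at hθ
  refine ⟨θ, hθ.1, fun w hw hw1 hmem => hθ.2 w (by rw [Set.Finite.mem_toFinset]; exact ⟨hw, hw1⟩) ?_,
    fun h23 w hw hw1 hmem => hθ.2 w (by rw [Set.Finite.mem_toFinset]; exact ⟨hw, hw1⟩) ?_⟩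
  · rw [Set.mem_toFinset]
    simp only [hB]
    split
    · exact Or.inl hmem
    · exact hmem
  · rw [Set.mem_toFinset]
    simp only [hB, if_pos h23]
    exact Or.inr hmem

/-- The stabilizer of such a character is good. -/
theorem stab_good {θ : V →* ℂˣ} (hθ : θ ≠ 1)
    (hfix : ∀ w : X, w * w = 1 → w ≠ 1 → θ ∉ charFix actV w) :
    Odd (Nat.card (charStab actV θ)) ∧
    (∃ r : ℕ, r.Prime ∧ r ∣ Nat.card E - 1 ∧ ¬ r ∣ Nat.card (charStab actV θ)) ∧
    ∃ e : E, e ≠ 1 ∧ ∀ g ∈ charStab actV θ, actE g e = e := by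
  classical
  obtain ⟨hE, -, -, -, -⟩ := S.three_facts f h
  set T := charStab actV θ with hT
  haveI : Fact (Nat.Prime 2) := ⟨Nat.prime_two⟩
  haveI : Fact (Nat.Prime 3) := ⟨Nat.prime_three⟩
  have hodd : Odd (Nat.card T) := by
    rw [← Nat.not_even_iff_odd, even_iff_two_dvd]
    intro h2
    obtain ⟨w, hw⟩ := exists_prime_orderOf_dvd_card' (G := T) 2 h2
    rw [← Subgroup.orderOf_coe] at hw
    refine hfix w ?_ (fun e => by rw [e, orderOf_one] at hw; norm_num at hw) w.2
    rw [← pow_two, ← hw, pow_orderOf_eq_one]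
  have hcop := S.coprime_charStab hθ
  rw [hE] at hcop
  norm_num at hcop
  refine ⟨hodd, ⟨7, by norm_num, by rw [hE], fun h7 => ?_⟩, ?_⟩
  · have := Nat.dvd_gcd h7 (dvd_refl 7)
    rw [hcop] at this
    norm_num at this
  set P := T.map actE with hP
  have hP3 : IsPGroup 3 P := by
    rintro ⟨φ, g, hg, rfl⟩
    refine ⟨1, Subtype.ext ?_⟩
    rw [pow_one, Subgroup.coe_pow, Subgroup.coe_one]
    show actE g ^ 3 = 1
    have hd : orderOf (actE g) ∣ Nat.card T :=
      (orderOf_map_dvd actE g).trans (Subgroup.orderOf_dvd_natCard _ hg)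
    rcases GLThree.orders S.expE hE (actE g) with e | e | e
    · have h1 : orderOf (actE g) = 1 := Nat.eq_one_of_dvd_coprimes
        (Nat.Coprime.pow_left 2 (Nat.coprime_two_left.2 hodd) : Nat.Coprime (2 ^ 2) (Nat.card T))
        (orderOf_dvd_of_pow_eq_one e) hd
      rw [orderOf_eq_one_iff.1 h1, one_pow]
    · exact e
    · have h1 : orderOf (actE g) = 1 := Nat.eq_one_of_dvd_coprimes hcop hd
        (orderOf_dvd_of_pow_eq_one e)
      rw [orderOf_eq_one_iff.1 h1, one_pow]
  have hmod := hP3.card_modEq_card_fixedPoints E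
  rw [hE] at hmod
  obtain ⟨e, he, he1⟩ : ∃ e ∈ MulAction.fixedPoints P E, e ≠ 1 := by
    by_contra hno
    push Not at hno
    have hset : MulAction.fixedPoints P E = {1} := by
      refine Set.eq_singleton_iff_unique_mem.2 ⟨fun φ => ?_, hno⟩
      exact map_one (φ : MulAut E)
    rw [hset, Nat.card_coe_set_eq, Set.ncard_singleton] at hmod
    exact absurd hmod (by decide)
  exact ⟨e, he1, fun g hg => he ⟨actE g, g, hg, rfl⟩⟩

/-- A good character, unless `p = 11` and the kernel is non-trivial. -/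
theorem goodChar_of_three (hcase : 23 ≤ p ∨ actE.ker = ⊥) :
    ∃ θ a, GoodChar p D actE actV θ a := by
  classical
  obtain ⟨θ, hθ, hfix, hinv⟩ := S.exists_avoid hX f h
  obtain ⟨hodd, hr, he⟩ := S.stab_good hX f h hθ hfix
  by_cases h23 : 23 ≤ p
  · refine ⟨θ, p - 1, hθ, hodd, hr, he, S.not_dvd_card, ?_, fun g => ?_⟩
    · rw [Nat.coprime_comm, Nat.coprime_self_sub_right (by exact S.prime.one_le)]
      exact Nat.coprime_one_right p
    · by_contra hcon
      push Not at hcon
      have hsq : g ^ 2 ∈ charStab actV θ := mem_charStab.2 fun v => by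
        rw [char_pow_act actV hcon]
        have h1 : (p - 1) ^ 2 ≡ 1 [MOD p] := by
          have h0 : ((p - 1 : ℕ) : ZMod p) = -1 := by
            rw [Nat.cast_sub S.prime.one_le, ZMod.natCast_self, Nat.cast_one, zero_sub]
          refine (ZMod.natCast_eq_natCast_iff _ _ _).1 ?_
          rw [Nat.cast_pow, h0, Nat.cast_one, neg_one_sq]
        conv_rhs => rw [← pow_one (θ v)]
        exact pow_eq_pow_iff_modEq.2 (h1.of_dvd (orderOf_dvd_of_pow_eq_one (S.pow_prime_char θ v)))
      set n := orderOf (g ^ 2) with hn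
      have hnodd : Odd n := hodd.of_dvd_nat (Subgroup.orderOf_dvd_natCard _ hsq)
      have hwinv : g ^ n ∈ {w : X | ∀ v, θ (actV w v) = (θ v)⁻¹} := fun v => by
        rw [char_pow_act actV hcon]
        refine eq_inv_iff_mul_eq_one.2 ?_
        rw [← pow_succ]
        refine orderOf_dvd_iff_pow_eq_one.1 ((orderOf_dvd_of_pow_eq_one (S.pow_prime_char θ v)).trans ?_)
        rw [← ZMod.natCast_eq_zero_iff]
        push_cast
        rw [show ((p - 1 : ℕ) : ZMod p) = -1 by
          rw [Nat.cast_sub S.prime.one_le, ZMod.natCast_self, Nat.cast_one, zero_sub],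
          hnodd.neg_one_pow, neg_add_cancel]
      by_cases hw1 : g ^ n = 1
      · refine hθ (S.eq_one_of_sq fun v => ?_)
        have h2 := hwinv v
        rw [hw1, map_one, MulAut.one_apply, eq_inv_iff_mul_eq_one] at h2
        rw [pow_two, h2]
      · refine hinv h23 (g ^ n) ?_ hw1 hwinv
        rw [← pow_add, ← two_mul, pow_mul, hn, pow_orderOf_eq_one]
  · have hker := hcase.resolve_left h23
    obtain ⟨-, -, hp, -, -⟩ := S.three_facts f h
    have hp11 : p = 11 := hp.resolve_right h23
    refine ⟨θ, 2, hθ, hodd, hr, he, S.not_dvd_card, ?_, fun g => ?_⟩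
    · rw [hp11]; decide
    · by_contra hcon
      push Not at hcon
      have key : ∀ k : ℕ, g ^ k ∈ actE.ker → (2 ^ k - 1 : ℕ).Coprime 11 → False := by
        intro k hk hcop
        rw [hker, mem_bot] at hk
        refine hθ (MonoidHom.ext fun v => orderOf_eq_one_iff.1 ?_)
        have h2 := char_pow_act actV hcon k v
        rw [hk, map_one, MulAut.one_apply] at h2
        have h3 : θ v ^ (2 ^ k - 1) = 1 := by
          refine mul_right_cancel (b := θ v) ?_
          rw [← pow_succ, Nat.sub_add_cancel Nat.one_le_two_pow, one_mul, ← h2]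
        exact Nat.eq_one_of_dvd_coprimes hcop (orderOf_dvd_of_pow_eq_one h3)
          (hp11 ▸ orderOf_dvd_of_pow_eq_one (S.pow_prime_char θ v))
      rcases S.image_orders f h g with e | e | e
      · exact key 4 e (by decide)
      · exact key 3 e (by decide)
      · exact key 7 e (by decide)

end Data

end CfsgLib.Bender.OddQuot
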